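import Cfsg.Agent.AltSection.Support

/-!
The bound when disjoint lifts act trivially on the ranges of `T x - 1`: the permutation module.
-/

set_option autoImplicit false
set_option linter.unusedSectionVars false

namespace Cfsg.Agent.AltSection

open Equiv Module

variable {r : ℕ} {k V G : Type} [Field k] [AddCommGroup V] [Module k V] [FiniteDimensional k V]
  [Group G] [Finite G]

theorem exists_avoid (hr : 9 ≤ r) (l : List (Fin r)) (hl : l.length ≤ 8) : ∃ z, z ∉ l := by
  classical
  have h : (Finset.univ \ l.toFinset).Nonempty := by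
    rw [← Finset.card_pos]
    have h1 := Finset.le_card_sdiff l.toFinset Finset.univ
    have h2 := l.toFinset_card_le
    rw [Finset.card_univ, Fintype.card_fin] at h1
    omega
  obtain ⟨z, hz⟩ := h
  exact ⟨z, by simpa using hz⟩

theorem linearIndependent_cons {W : Type} [AddCommGroup W] [Module k W] [FiniteDimensional k W]
    {m : ℕ} (w : Fin m → W) (h : m ≤ finrank k (Submodule.span k (Set.range w))) :
    LinearIndependent k w := by
  rw [linearIndependent_iff_card_eq_finrank_span, Fintype.card_fin]
  refine le_antisymm h ?_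
  have := finrank_range_le_card (R := k) w
  rwa [Fintype.card_fin] at this

namespace Ctx

variable (C : Ctx r k V G)

theorem trivial_case {p : ℕ} [Fact p.Prime] [CharP k p] (hC : C.Disj) {a b c : Fin r}
    (hd : Distinct3 a b c) (h2 : 2 ≤ finrank k (C.D (tc a b c))) : bnd p r ≤ finrank k V := by
  classical
  haveI := C.nontrivial
  have hr := C.hr
  set d := finrank k (C.D (tc a b c)) with hdef
  set n := finrank k V
  have hDne : C.D (tc a b c) ≠ ⊥ := fun e => by rw [hdef, e, finrank_bot] at h2; omega
  have hdimD : ∀ i j l, Distinct3 i j l → finrank k (C.D (tc i j l)) = d := by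
    intro i j l hd'
    obtain ⟨w, hw, hmap⟩ := exists_even_map (m := 3) (by omega) ![a, b, c] ![i, j, l]
      (by intro p q; fin_cases p <;> fin_cases q <;>
        simp [hd.ab, hd.ab.symm, hd.bc, hd.bc.symm, hd.ac, hd.ac.symm])
      (by intro p q; fin_cases p <;> fin_cases q <;>
        simp [hd'.ab, hd'.ab.symm, hd'.bc, hd'.bc.symm, hd'.ac, hd'.ac.symm])
    obtain ⟨g, rfl⟩ := C.π_surj w hw
    have h0 := hmap 0
    have h1 := hmap 1
    have h3 := hmap 2
    simp at h0 h1 h3
    have e := C.D_conj (three_tc hd) g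
    rw [tc_conj, h0, h1, h3] at e
    rw [← e]
    exact (Submodule.equivMapOfInjective _ (fun p q e' => by
      have := congrArg (C.ρ g⁻¹) e'
      rwa [← Module.End.mul_apply, ← Module.End.mul_apply, C.rho_inv_mul,
        Module.End.one_apply, Module.End.one_apply] at this) _).finrank_eq.symm
  -- lower bound for the subspaces `W`
  have hW : ∀ S : Finset (Fin r), 3 ≤ S.card → S.card + 2 ≤ r →
      d + (S.card - 3) ≤ finrank k (C.W S) := by
    intro S h3 h4
    obtain ⟨S₀, hsub, h0⟩ := Finset.exists_subset_card_eq h3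
    obtain ⟨i, j, l, hij, hil, hjl, rfl⟩ := Finset.card_eq_three.mp h0
    have hd' : Distinct3 i j l := ⟨hij, hjl, hil⟩
    have hle : C.D (tc i j l) ≤ C.W {i, j, l} :=
      C.D_le_W (three_tc hd') (Ctx.tc_supported (by simp) (by simp) (by simp))
    have h5 := Submodule.finrank_mono hle
    rw [hdimD i j l hd'] at h5
    have := W_chain hC (S.card - 3) hsub (by rw [Finset.card_sdiff_of_subset hsub, h0])
      (fun e => by rw [e, finrank_bot] at h5; omega) (by omega) h4
    omega
  have hWup : ∀ S : Finset (Fin r), 3 ≤ S.card → S.card + 3 ≤ r →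
      finrank k (C.W S) + (r - 3 - S.card) + d ≤ n := by
    intro S h3 h4
    have hc : 3 ≤ (Finset.univ \ S).card := by
      rw [Finset.card_sdiff_of_subset (Finset.subset_univ _), Finset.card_univ, Fintype.card_fin]
      omega
    obtain ⟨T3, hsub, h0⟩ := Finset.exists_subset_card_eq hc
    obtain ⟨i, j, l, hij, hil, hjl, rfl⟩ := Finset.card_eq_three.mp h0
    have hd' : Distinct3 i j l := ⟨hij, hjl, hil⟩
    have hS : S ⊆ Finset.univ \ {i, j, l} := fun z hz => by
      rw [Finset.mem_sdiff]
      exact ⟨Finset.mem_univ _, fun e => (Finset.mem_sdiff.mp (hsub e)).2 hz⟩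
    have hcard : (Finset.univ \ {i, j, l} : Finset (Fin r)).card = r - 3 := by
      rw [Finset.card_sdiff_of_subset (Finset.subset_univ _), Finset.card_univ, Fintype.card_fin, h0]
    have hne : C.W S ≠ ⊥ := fun e => by
      have := hW S h3 (by omega); rw [e, finrank_bot] at this; omega
    have h6 := W_chain hC (r - 3 - S.card) hS (by rw [Finset.card_sdiff_of_subset hS, hcard])
      hne h3 (by omega)
    have h7 := W_compl_add_le hC hd'
    rw [hdimD i j l hd'] at h7
    omega
  have hlow : 2 * d + (r - 6) ≤ n := by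
    have h8 : (Finset.univ \ {a, b, c} : Finset (Fin r)).card = r - 3 := by
      rw [Finset.card_sdiff_of_subset (Finset.subset_univ _), Finset.card_univ, Fintype.card_fin,
        Finset.card_eq_three.mpr ⟨a, b, c, hd.ab, hd.ac, hd.bc, rfl⟩]
    have := hW (Finset.univ \ {a, b, c}) (by omega) (by omega)
    have h7 := W_compl_add_le hC hd
    omega
  unfold bnd
  by_contra hlt
  rw [not_le] at hlt
  have hpr : ¬ p ∣ r := by intro h; rw [if_pos h] at hlt; omega
  rw [if_neg hpr] at hlt
  have hd2 : d = 2 := by omega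
  have hn2 : n = r - 2 := by omega
  apply hpr
  have hWexact : ∀ S : Finset (Fin r), 3 ≤ S.card → S.card + 3 ≤ r →
      finrank k (C.W S) = S.card - 1 := by
    intro S h3 h4
    have := hW S h3 (by omega)
    have := hWup S h3 h4
    omega
  -- the common vector
  obtain ⟨f, hf⟩ := exists_avoid hr [a, b, c] (by simp)
  simp only [List.mem_cons, List.not_mem_nil, or_false, not_or] at hf
  have hdf : Distinct3 a b f := ⟨hd.ab, Ne.symm hf.2.1, Ne.symm hf.1⟩
  obtain ⟨v, hv, hv0⟩ : ∃ v ∈ C.D (tc a b c) ⊓ C.D (tc a b f), v ≠ 0 := by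
    refine Submodule.exists_mem_ne_zero_of_ne_bot fun e => ?_
    have h1 := Submodule.finrank_sup_add_finrank_inf_eq (C.D (tc a b c)) (C.D (tc a b f))
    rw [e, finrank_bot, hdimD a b f hdf, ← hdef] at h1
    have h4 : ({a, b, c, f} : Finset (Fin r)).card = 4 := by
      simp [hd.ab, hd.ac, hd.bc, Ne.symm hf.1, Ne.symm hf.2.1, Ne.symm hf.2.2]
    have h5 : C.D (tc a b c) ⊔ C.D (tc a b f) ≤ C.W {a, b, c, f} :=
      sup_le (C.D_le_W (three_tc hd) (Ctx.tc_supported (by simp) (by simp) (by simp)))
        (C.D_le_W (three_tc hdf) (Ctx.tc_supported (by simp) (by simp) (by simp)))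
    have h6 := Submodule.finrank_mono h5
    have h7 := hWexact {a, b, c, f} (by omega) (by omega)
    omega
  rw [Submodule.mem_inf] at hv
  -- lifts of three-cycles avoiding `a, b` fix `v`
  have hfix0 : ∀ y, Three y → y a = a → y b = b → (y c = c ∨ y f = f) → C.T y v = v := by
    intro y hy ha hb h
    rcases h with h | h
    · exact hC (tc a b c) y (three_tc hd) hy (fun z => by
        by_cases za : z = a; · exact Or.inr (za ▸ ha)
        by_cases zb : z = b; · exact Or.inr (zb ▸ hb)
        by_cases zc : z = c; · exact Or.inr (zc ▸ h)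
        exact Or.inl (tc_other za zb zc)) v hv.1
    · exact hC (tc a b f) y (three_tc hdf) hy (fun z => by
        by_cases za : z = a; · exact Or.inr (za ▸ ha)
        by_cases zb : z = b; · exact Or.inr (zb ▸ hb)
        by_cases zc : z = f; · exact Or.inr (zc ▸ h)
        exact Or.inl (tc_other za zb zc)) v hv.2
  have hfix : ∀ i j l, Distinct3 i j l → i ≠ a → i ≠ b → j ≠ a → j ≠ b → l ≠ a → l ≠ b →
      C.T (tc i j l) v = v := by
    intro i j l hd' ia ib ja jb la lb
    by_cases hc' : i ≠ c ∧ j ≠ c ∧ l ≠ c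
    · exact hfix0 _ (three_tc hd') (tc_other ia.symm ja.symm la.symm)
        (tc_other ib.symm jb.symm lb.symm)
        (Or.inl (tc_other hc'.1.symm hc'.2.1.symm hc'.2.2.symm))
    by_cases hf' : i ≠ f ∧ j ≠ f ∧ l ≠ f
    · exact hfix0 _ (three_tc hd') (tc_other ia.symm ja.symm la.symm)
        (tc_other ib.symm jb.symm lb.symm)
        (Or.inr (tc_other hf'.1.symm hf'.2.1.symm hf'.2.2.symm))
    obtain ⟨w, hw⟩ := exists_avoid hr [a, b, c, f, i, j, l] (by simp)
    obtain ⟨u, hu⟩ := exists_avoid hr [a, b, c, f, i, j, l, w] (by simp)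
    simp only [List.mem_cons, List.not_mem_nil, or_false, not_or] at hw hu
    obtain ⟨wa, wb, wc, wf, wi, wj, wl⟩ := hw
    obtain ⟨ua, ub, uc, uf, ui, uj, ul, uw⟩ := hu
    -- conjugate by a three-cycle moving `w` to `f`
    have dg : Distinct3 w f u := ⟨wf, Ne.symm uf, Ne.symm uw⟩
    set s := tc w f u with hs
    have hsfix : C.T s v = v := hfix0 _ (three_tc dg) (tc_other (Ne.symm wa) (Ne.symm hf.1) (Ne.symm ua))
      (tc_other (Ne.symm wb) (Ne.symm hf.2.1) (Ne.symm ub))
      (Or.inl (tc_other (Ne.symm wc) (Ne.symm hf.2.2) (Ne.symm uc)))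
    set g : Fin r → Fin r := fun z => if z = f then w else z with hg
    have hgz : ∀ z, z = i ∨ z = j ∨ z = l → s (g z) = z ∧ g z ≠ f ∧ g z ≠ a ∧ g z ≠ b := by
      intro z hz
      have hza : z ≠ a ∧ z ≠ b ∧ z ≠ w ∧ z ≠ u := by
        rcases hz with rfl | rfl | rfl
        · exact ⟨ia, ib, Ne.symm wi, Ne.symm ui⟩
        · exact ⟨ja, jb, Ne.symm wj, Ne.symm uj⟩
        · exact ⟨la, lb, Ne.symm wl, Ne.symm ul⟩
      by_cases hzf : z = f
      · subst hzf
        simp only [hg, if_pos]
        exact ⟨tc_fst dg, wf, wa, wb⟩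
      · simp only [hg, if_neg hzf]
        exact ⟨tc_other hza.2.2.1 hzf hza.2.2.2, hzf, hza.1, hza.2.1⟩
    have gi := hgz i (Or.inl rfl)
    have gj := hgz j (Or.inr (Or.inl rfl))
    have gl := hgz l (Or.inr (Or.inr rfl))
    have hd'' : Distinct3 (g i) (g j) (g l) :=
      ⟨fun e => hd'.ab (by rw [← gi.1, e, gj.1]), fun e => hd'.bc (by rw [← gj.1, e, gl.1]),
        fun e => hd'.ac (by rw [← gi.1, e, gl.1])⟩
    have h1 : C.T (tc (g i) (g j) (g l)) v = v := hfix0 _ (three_tc hd'')
      (tc_other gi.2.2.1.symm gj.2.2.1.symm gl.2.2.1.symm)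
      (tc_other gi.2.2.2.symm gj.2.2.2.symm gl.2.2.2.symm)
      (Or.inr (tc_other gi.2.1.symm gj.2.1.symm gl.2.1.symm))
    have := LinearMap.congr_fun (C.T_conj' (three_tc hd'') (three_tc dg)) v
    rw [Module.End.mul_apply, Module.End.mul_apply, h1, ← hs, hsfix, tc_conj, gi.1, gj.1, gl.1]
      at this
    exact this.symm
  -- the vectors
  set B : Fin r → V := fun i => C.T (tc a b i) v with hB
  have hdi : ∀ {i}, i ≠ a → i ≠ b → Distinct3 a b i := fun ia ib => ⟨hd.ab, ib.symm, ia.symm⟩
  have hequi : ∀ i j l, Distinct3 i j l → i ≠ a → i ≠ b → j ≠ a → j ≠ b → l ≠ a → l ≠ b →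
      ∀ z, z ≠ a → z ≠ b → ∀ u, C.T (tc i j l) (C.T (tc a b z) u) =
        C.T (tc a b (tc i j l z)) (C.T (tc i j l) u) := by
    intro i j l hd' ia ib ja jb la lb z za zb u
    have := LinearMap.congr_fun (C.T_conj' (three_tc (hdi za zb)) (three_tc hd')) u
    rw [Module.End.mul_apply, Module.End.mul_apply, tc_conj,
      tc_other ia.symm ja.symm la.symm, tc_other ib.symm jb.symm lb.symm] at this
    exact this
  have hmove : ∀ i j, i ≠ a → i ≠ b → j ≠ a → j ≠ b → i ≠ j → ∀ w, w ≠ a → w ≠ b → w ≠ i → w ≠ j →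
      (tc i j w i = j ∧ Distinct3 i j w) :=
    fun i j ia ib ja jb hij w wa wb wi wj =>
      ⟨tc_fst ⟨hij, Ne.symm wj, Ne.symm wi⟩, hij, Ne.symm wj, Ne.symm wi⟩
  have hvD : ∀ i, i ≠ a → i ≠ b → v ∈ C.D (tc a b i) := by
    intro i ia ib
    by_cases hic : i = c
    · exact hic ▸ hv.1
    obtain ⟨w, hw⟩ := exists_avoid hr [a, b, c, i] (by simp)
    simp only [List.mem_cons, List.not_mem_nil, or_false, not_or] at hw
    obtain ⟨e, hd'⟩ := hmove c i hd.ac.symm hd.bc.symm ia ib (Ne.symm hic) w hw.1 hw.2.1 hw.2.2.1 hw.2.2.2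
    obtain ⟨u, hu⟩ := hv.1
    refine ⟨C.T (tc c i w) u, ?_⟩
    have h1 := hequi c i w hd' hd.ac.symm hd.bc.symm ia ib hw.1 hw.2.1 c hd.ac.symm hd.bc.symm u
    rw [e] at h1
    have h2 := congrArg (C.T (tc c i w)) hu
    simp only [LinearMap.sub_apply, Module.End.one_apply, map_sub] at h2
    rw [h1, hfix c i w hd' hd.ac.symm hd.bc.symm ia ib hw.1 hw.2.1] at h2
    simpa using h2
  have hquad : ∀ i, i ≠ a → i ≠ b → ∀ w ∈ C.D (tc a b i),
      C.T (tc a b i) (C.T (tc a b i) w) + C.T (tc a b i) w + w = 0 := by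
    intro i ia ib w hw
    obtain ⟨u, rfl⟩ := hw
    have h3 := LinearMap.congr_fun (C.T_cube (three_tc (hdi ia ib))) u
    simp only [Module.End.mul_apply, Module.End.one_apply] at h3
    simp only [LinearMap.sub_apply, Module.End.one_apply, map_sub, h3]
    abel
  have hDle : ∀ i, i ≠ a → i ≠ b → ∀ w ∈ C.D (tc a b i), C.T (tc a b i) w ∈ C.D (tc a b i) := by
    rintro i ia ib _ ⟨u, rfl⟩
    exact ⟨C.T (tc a b i) u, by simp [map_sub]⟩
  have hnoteig : ∀ i, i ≠ a → i ≠ b → ∀ t : k, B i ≠ t • v := by
    intro i ia ib t e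
    have hline : ∀ z, z ≠ a → z ≠ b → ∀ w ∈ Submodule.span k {v}, C.T (tc a b z) w ∈ Submodule.span k {v} := by
      intro z za zb w hw
      obtain ⟨s, rfl⟩ := Submodule.mem_span_singleton.mp hw
      rw [map_smul]
      refine Submodule.smul_mem _ _ (Submodule.mem_span_singleton.mpr ⟨t, ?_⟩)
      by_cases hzi : i = z
      · subst hzi; exact e.symm
      obtain ⟨w', hw'⟩ := exists_avoid hr [a, b, i, z] (by simp)
      simp only [List.mem_cons, List.not_mem_nil, or_false, not_or] at hw'
      obtain ⟨e1, hd'⟩ := hmove i z ia ib za zb hzi w' hw'.1 hw'.2.1 hw'.2.2.1 hw'.2.2.2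
      have h1 := hequi i z w' hd' ia ib za zb hw'.1 hw'.2.1 i ia ib v
      rw [e1, hfix i z w' hd' ia ib za zb hw'.1 hw'.2.1, show C.T (tc a b i) v = t • v from e,
        map_smul, hfix i z w' hd' ia ib za zb hw'.1 hw'.2.1] at h1
      exact h1
    rcases C.eq_bot_or_top _ hd.ab hline with h | h
    · exact hv0 (by simpa [Submodule.span_singleton_eq_bot] using h)
    · have := finrank_span_singleton (K := k) hv0
      rw [h, finrank_top] at this
      omega
  have hind2 : ∀ i, i ≠ a → i ≠ b → LinearIndependent k ![v, B i] :=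
    fun i ia ib => (LinearIndependent.pair_iff' hv0).mpr fun t e => hnoteig i ia ib t e.symm
  have hspan2 : ∀ i, i ≠ a → i ≠ b → C.D (tc a b i) = Submodule.span k (Set.range ![v, B i]) := by
    intro i ia ib
    symm
    refine Submodule.eq_of_le_of_finrank_eq ?_ ?_
    · rw [Submodule.span_le]
      rintro _ ⟨z, rfl⟩
      fin_cases z
      · exact hvD i ia ib
      · exact hDle i ia ib _ (hvD i ia ib)
    · rw [finrank_span_eq_card (hind2 i ia ib), hdimD _ _ _ (hdi ia ib), hd2, Fintype.card_fin]
  -- four independent vectors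
  have hind4 : ∀ i j l, i ≠ a → i ≠ b → j ≠ a → j ≠ b → l ≠ a → l ≠ b → Distinct3 i j l →
      LinearIndependent k ![v, B i, B j, B l] := by
    intro i j l ia ib ja jb la lb hd'
    refine linearIndependent_cons _ ?_
    set U := Submodule.span k (Set.range ![v, B i, B j, B l]) with hU
    have hD : ∀ z, z = i ∨ z = j ∨ z = l → C.D (tc a b z) ≤ U := by
      intro z hz
      have za : z ≠ a ∧ z ≠ b := by rcases hz with rfl | rfl | rfl <;> constructor <;> assumption
      rw [hspan2 z za.1 za.2, Submodule.span_le]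
      rintro _ ⟨q, rfl⟩
      refine Submodule.subset_span ?_
      fin_cases q
      · exact ⟨0, rfl⟩
      · rcases hz with rfl | rfl | rfl
        · exact ⟨1, rfl⟩
        · exact ⟨2, rfl⟩
        · exact ⟨3, rfl⟩
    have hW4 : ∀ p q, p ≠ a → p ≠ b → q ≠ a → q ≠ b → p ≠ q →
        C.W {a, b, p, q} = C.D (tc a b p) ⊔ C.D (tc a b q) := by
      intro p q pa pb qa qb pq
      have hcard : ({a, b, p, q} : Finset (Fin r)).card = 4 := by
        simp [hd.ab, pa.symm, pb.symm, qa.symm, qb.symm, pq]
      symm
      refine Submodule.eq_of_le_of_finrank_le ?_ ?_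
      · exact sup_le (C.D_le_W (three_tc (hdi pa pb)) (Ctx.tc_supported (by simp) (by simp) (by simp)))
          (C.D_le_W (three_tc (hdi qa qb)) (Ctx.tc_supported (by simp) (by simp) (by simp)))
      · rw [hWexact _ (by omega) (by omega), hcard]
        by_contra hlt'
        have h1 := Submodule.finrank_mono (le_sup_left : C.D (tc a b p) ≤ C.D (tc a b p) ⊔ C.D (tc a b q))
        have h2 := Submodule.finrank_mono (le_sup_right : C.D (tc a b q) ≤ C.D (tc a b p) ⊔ C.D (tc a b q))
        rw [hdimD _ _ _ (hdi pa pb)] at h1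
        rw [hdimD _ _ _ (hdi qa qb)] at h2
        have he : C.D (tc a b p) = C.D (tc a b q) := by
          have e1 := Submodule.eq_of_le_of_finrank_le (le_sup_left : C.D (tc a b p) ≤ C.D (tc a b p) ⊔ C.D (tc a b q))
            (by rw [hdimD _ _ _ (hdi pa pb)]; omega)
          have e2 := Submodule.eq_of_le_of_finrank_le (le_sup_right : C.D (tc a b q) ≤ C.D (tc a b p) ⊔ C.D (tc a b q))
            (by rw [hdimD _ _ _ (hdi qa qb)]; omega)
          exact e1.trans e2.symm
        have hstar : ∀ z, z ≠ a → z ≠ b → ∀ w ∈ C.D (tc a b p), C.T (tc a b z) w ∈ C.D (tc a b p) := by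
          intro z za zb w hw
          by_cases hzp : z = p
          · subst hzp; exact hDle z za zb w hw
          by_cases hzq : z = q
          · subst hzq; rw [he] at hw ⊢; exact hDle z za zb w hw
          obtain ⟨w', hw'⟩ := exists_avoid hr [a, b, p, q, z] (by simp)
          simp only [List.mem_cons, List.not_mem_nil, or_false, not_or] at hw'
          -- a three-cycle `p ↦ q ↦ z` carries `D p = D q` to `D q = D z`
          have hd3 : Distinct3 p q z := ⟨pq, Ne.symm hzq, Ne.symm hzp⟩
          have hkey : C.D (tc a b q) = C.D (tc a b z) := by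
            obtain ⟨g, hg⟩ := C.π_surj _ (sign_tc hd3)
            have m1 := C.D_conj (three_tc (hdi pa pb)) g
            have m2 := C.D_conj (three_tc (hdi qa qb)) g
            rw [hg, tc_conj, tc_other pa.symm qa.symm za.symm, tc_other pb.symm qb.symm zb.symm,
              tc_fst hd3] at m1
            rw [hg, tc_conj, tc_other pa.symm qa.symm za.symm, tc_other pb.symm qb.symm zb.symm,
              tc_snd hd3] at m2
            rw [← m1, ← m2, he]
          rw [he, hkey] at hw ⊢
          exact hDle z za zb w hw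
        rcases C.eq_bot_or_top _ hd.ab hstar with h | h
        · have := hdimD _ _ _ (hdi pa pb); rw [h, finrank_bot] at this; omega
        · have := hdimD _ _ _ (hdi pa pb); rw [h, finrank_top] at this; omega
    have hW4U : ∀ p q, (p = i ∨ p = j ∨ p = l) → (q = i ∨ q = j ∨ q = l) → p ≠ q →
        C.W {a, b, p, q} ≤ U := by
      intro p q hp hq pq
      have hpa : p ≠ a ∧ p ≠ b := by rcases hp with rfl | rfl | rfl <;> constructor <;> assumption
      have hqa : q ≠ a ∧ q ≠ b := by rcases hq with rfl | rfl | rfl <;> constructor <;> assumption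
      rw [hW4 p q hpa.1 hpa.2 hqa.1 hqa.2 pq]
      exact sup_le (hD p hp) (hD q hq)
    have hTi : U.map (C.T (tc a b i)) ≤ U := by
      rw [hU, Submodule.map_span, Submodule.span_le, ← hU]
      rintro _ ⟨w, ⟨q, rfl⟩, rfl⟩
      have hwU : (![v, B i, B j, B l] q) ∈ U := Submodule.subset_span ⟨q, rfl⟩
      have hdiff : C.T (tc a b i) (![v, B i, B j, B l] q) - ![v, B i, B j, B l] q ∈ U :=
        hD i (Or.inl rfl) ⟨_, rfl⟩
      have := U.add_mem hdiff hwU
      simpa using this
    have hspanW : C.W {a, b, i, j, l} ≤ U := by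
      refine iSup₂_le fun x hx => ?_
      obtain ⟨⟨p, q, s, hd3, rfl⟩, hsupp⟩ := hx
      have hmemS : ∀ z, (z = p ∨ z = q ∨ z = s) → z = a ∨ z = b ∨ z = i ∨ z = j ∨ z = l := by
        intro z hz
        by_contra hc'
        have := hsupp z (by simpa [not_or] using hc')
        rcases hz with rfl | rfl | rfl
        · rw [tc_fst hd3] at this; exact hd3.ab this.symm
        · rw [tc_snd hd3] at this; exact hd3.bc this.symm
        · rw [tc_thd] at this; exact hd3.ac this
      by_cases hall : (i = p ∨ i = q ∨ i = s) ∧ (j = p ∨ j = q ∨ j = s) ∧ (l = p ∨ l = q ∨ l = s)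
      · -- `x` permutes `i, j, l`
        have hx : tc p q s = tc i j l ∨ tc p q s = (tc i j l)⁻¹ := by
          obtain ⟨hi', hj', hl'⟩ := hall
          rw [tc_inv]
          rcases hi' with rfl | rfl | rfl <;> rcases hj' with rfl | rfl | rfl <;>
            rcases hl' with rfl | rfl | rfl <;>
            first
              | exact absurd rfl hd'.ab
              | exact absurd rfl hd'.bc
              | exact absurd rfl hd'.ac
              | exact Or.inl rfl
              | exact Or.inr rfl
              | exact Or.inl (tc_rot hd3).symm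
              | exact Or.inl ((tc_rot hd3.rot).trans (tc_rot hd3)).symm
              | exact Or.inr (tc_rot hd3).symm
              | exact Or.inr ((tc_rot hd3.rot).trans (tc_rot hd3)).symm
        have hijl : C.D (tc i j l) ≤ U := by
          have hdb : Distinct3 b j l := ⟨jb.symm, hd'.bc, lb.symm⟩
          obtain ⟨g, s', hs', hg, e⟩ := C.T_lift (three_tc (hdi ia ib))
          have m1 := C.D_conj (three_tc hdb) g
          rw [hg, tc_conj, tc_snd (hdi ia ib), tc_other ja jb hd'.ab.symm,
            tc_other la lb hd'.ac.symm] at m1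
          rw [← m1]
          rintro _ ⟨w, hw, rfl⟩
          have hwU : w ∈ U := hW4U j l (Or.inr (Or.inl rfl)) (Or.inr (Or.inr rfl)) hd'.bc
            (C.D_le_W (three_tc hdb) (Ctx.tc_supported (by simp) (by simp) (by simp)) hw)
          have := hTi ⟨w, hwU, rfl⟩
          rw [e, LinearMap.smul_apply] at this
          have := U.smul_mem s'⁻¹ this
          rwa [smul_smul, inv_mul_cancel₀ hs', one_smul] at this
        rcases hx with e | e <;> rw [e]
        · exact hijl
        · exact (C.D_inv_le (three_tc hd')).trans hijl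
      · simp only [not_and_or, not_or] at hall
        rcases hall with h | h | h
        · refine le_trans (C.D_le_W (three_tc hd3) (fun z hz => ?_))
            (hW4U j l (Or.inr (Or.inl rfl)) (Or.inr (Or.inr rfl)) hd'.bc)
          refine tc_other (fun e => ?_) (fun e => ?_) (fun e => ?_) <;>
            · simp only [Finset.mem_insert, Finset.mem_singleton, not_or] at hz
              rcases hmemS z (by simp [e]) with e' | e' | e' | e' | e' <;>
                first
                  | exact hz.1 e'
                  | exact hz.2.1 e'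
                  | exact hz.2.2.1 e'
                  | exact hz.2.2.2 e'
                  | exact h.1 (e'.symm.trans e)
                  | exact h.2.1 (e'.symm.trans e)
                  | exact h.2.2 (e'.symm.trans e)
        · refine le_trans (C.D_le_W (three_tc hd3) (fun z hz => ?_))
            (hW4U i l (Or.inl rfl) (Or.inr (Or.inr rfl)) hd'.ac)
          refine tc_other (fun e => ?_) (fun e => ?_) (fun e => ?_) <;>
            · simp only [Finset.mem_insert, Finset.mem_singleton, not_or] at hz
              rcases hmemS z (by simp [e]) with e' | e' | e' | e' | e' <;>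
                first
                  | exact hz.1 e'
                  | exact hz.2.1 e'
                  | exact hz.2.2.1 e'
                  | exact hz.2.2.2 e'
                  | exact h.1 (e'.symm.trans e)
                  | exact h.2.1 (e'.symm.trans e)
                  | exact h.2.2 (e'.symm.trans e)
        · refine le_trans (C.D_le_W (three_tc hd3) (fun z hz => ?_))
            (hW4U i j (Or.inl rfl) (Or.inr (Or.inl rfl)) hd'.ab)
          refine tc_other (fun e => ?_) (fun e => ?_) (fun e => ?_) <;>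
            · simp only [Finset.mem_insert, Finset.mem_singleton, not_or] at hz
              rcases hmemS z (by simp [e]) with e' | e' | e' | e' | e' <;>
                first
                  | exact hz.1 e'
                  | exact hz.2.1 e'
                  | exact hz.2.2.1 e'
                  | exact hz.2.2.2 e'
                  | exact h.1 (e'.symm.trans e)
                  | exact h.2.1 (e'.symm.trans e)
                  | exact h.2.2 (e'.symm.trans e)
    have h5 : ({a, b, i, j, l} : Finset (Fin r)).card = 5 := by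
      simp [hd.ab, ia.symm, ib.symm, ja.symm, jb.symm, la.symm, lb.symm, hd'.ab, hd'.ac, hd'.bc]
    have := Submodule.finrank_mono hspanW
    rw [hWexact _ (by omega) (by omega), h5] at this
    exact this
  -- the coefficients of `T_c (B f)`
  have hmemf : C.T (tc a b c) (B f) - B f ∈ C.D (tc a b c) := ⟨B f, rfl⟩
  rw [hspan2 c hd.ac.symm hd.bc.symm, Submodule.mem_span_range_iff_exists_fun] at hmemf
  obtain ⟨co, hco⟩ := hmemf
  set α := co 0 with hα
  set β := co 1 with hβ
  have hab : C.T (tc a b c) (B f) = B f + α • v + β • B c := by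
    rw [Fin.sum_univ_two] at hco
    simp only [Matrix.cons_val_zero, Matrix.cons_val_one, Matrix.head_cons] at hco
    rw [add_assoc, hco]; abel
  have hunif : ∀ i j, i ≠ a → i ≠ b → j ≠ a → j ≠ b → i ≠ j →
      C.T (tc a b i) (B j) = B j + α • v + β • B i := by
    have step : ∀ i j, i ≠ a → i ≠ b → j ≠ a → j ≠ b →
        C.T (tc a b i) (B j) = B j + α • v + β • B i →
        ∀ y1 y2 y3, Distinct3 y1 y2 y3 → y1 ≠ a → y1 ≠ b → y2 ≠ a → y2 ≠ b → y3 ≠ a → y3 ≠ b →
        C.T (tc a b (tc y1 y2 y3 i)) (B (tc y1 y2 y3 j)) =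
          B (tc y1 y2 y3 j) + α • v + β • B (tc y1 y2 y3 i) := by
      intro i j ia ib ja jb h y1 y2 y3 hy h1a h1b h2a h2b h3a h3b
      have := congrArg (C.T (tc y1 y2 y3)) h
      have hv' := hfix y1 y2 y3 hy h1a h1b h2a h2b h3a h3b
      simp only [hB, map_add, map_smul, hequi y1 y2 y3 hy h1a h1b h2a h2b h3a h3b i ia ib,
        hequi y1 y2 y3 hy h1a h1b h2a h2b h3a h3b j ja jb, hv'] at this ⊢
      exact this
    have move1 : ∀ i i' j, i ≠ a → i ≠ b → i' ≠ a → i' ≠ b → j ≠ a → j ≠ b → j ≠ i → j ≠ i' →
        C.T (tc a b i) (B j) = B j + α • v + β • B i →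
        C.T (tc a b i') (B j) = B j + α • v + β • B i' := by
      intro i i' j ia ib i'a i'b ja jb ji ji' h
      by_cases e : i = i'
      · subst e; exact h
      obtain ⟨w, hw⟩ := exists_avoid hr [a, b, i, i', j] (by simp)
      simp only [List.mem_cons, List.not_mem_nil, or_false, not_or] at hw
      obtain ⟨wa, wb, wi, wi', wj⟩ := hw
      have hy : Distinct3 i i' w := ⟨e, Ne.symm wi', Ne.symm wi⟩
      have := step i j ia ib ja jb h i i' w hy ia ib i'a i'b wa wb
      rwa [tc_fst hy, tc_other ji ji' (Ne.symm wj)] at this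
    have move2 : ∀ i j j', i ≠ a → i ≠ b → j ≠ a → j ≠ b → j' ≠ a → j' ≠ b → i ≠ j → i ≠ j' →
        C.T (tc a b i) (B j) = B j + α • v + β • B i →
        C.T (tc a b i) (B j') = B j' + α • v + β • B i := by
      intro i j j' ia ib ja jb j'a j'b ij ij' h
      by_cases e : j = j'
      · subst e; exact h
      obtain ⟨w, hw⟩ := exists_avoid hr [a, b, i, j, j'] (by simp)
      simp only [List.mem_cons, List.not_mem_nil, or_false, not_or] at hw
      obtain ⟨wa, wb, wi, wj, wj'⟩ := hw
      have hy : Distinct3 j j' w := ⟨e, Ne.symm wj', Ne.symm wj⟩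
      have := step i j ia ib ja jb h j j' w hy ja jb j'a j'b wa wb
      rwa [tc_fst hy, tc_other ij ij' (Ne.symm wi)] at this
    intro i j ia ib ja jb hij
    obtain ⟨u, hu⟩ := exists_avoid hr [a, b, c, f, i, j] (by simp)
    simp only [List.mem_cons, List.not_mem_nil, or_false, not_or] at hu
    obtain ⟨ua, ub, uc, uf, ui, uj⟩ := hu
    have h1 := move1 c u f hd.ac.symm hd.bc.symm ua ub hf.1 hf.2.1 hf.2.2 (Ne.symm uf) hab
    have h2 := move2 u f j ua ub hf.1 hf.2.1 ja jb uf uj h1
    exact move1 u i j ua ub ia ib ja jb (Ne.symm uj) (Ne.symm hij) h2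
  have hsq : ∀ i, i ≠ a → i ≠ b → C.T (tc a b i) (B i) = -v - B i := by
    intro i ia ib
    have := hquad i ia ib v (hvD i ia ib)
    rw [← sub_eq_zero, ← this]
    simp only [hB]
    abel
  -- the relation from two lifts
  obtain ⟨ε, hε1, hε, -⟩ := C.pair_scalar hd.ab hd.ac.symm hd.bc.symm hf.1 hf.2.1 (Ne.symm hf.2.2)
  obtain ⟨g, hg⟩ := exists_avoid hr [a, b, c, f] (by simp)
  simp only [List.mem_cons, List.not_mem_nil, or_false, not_or] at hg
  have hrel : (α * β - 1 - β + (α + β * β - 1) * β) = 0 ∧ (α + β * β - 1) = 0 ∧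
      (α + β * β - 1) * α - β = ε := by
    have h1 := LinearMap.congr_fun hε v
    simp only [Module.End.mul_apply, LinearMap.smul_apply, Module.End.one_apply] at h1
    have hBf : C.T (tc a b f) v = B f := rfl
    have hBc : C.T (tc a b c) v = B c := rfl
    rw [hBf, hab] at h1
    simp only [map_add, map_smul, hsq f hf.1 hf.2.1, hBf,
      hunif f c hf.1 hf.2.1 hd.ac.symm hd.bc.symm hf.2.2, map_sub, map_neg, hab,
      hsq c hd.ac.symm hd.bc.symm, hBc] at h1
    have hli := hind4 c f g hd.ac.symm hd.bc.symm hf.1 hf.2.1 hg.1 hg.2.1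
      ⟨Ne.symm hf.2.2, Ne.symm hg.2.2.2, Ne.symm hg.2.2.1⟩
    rw [Fintype.linearIndependent_iff] at hli
    have h4 := hli ![(α + β * β - 1) * α - β - ε, α * β - 1 - β + (α + β * β - 1) * β,
      α + β * β - 1, 0] (by
      simp only [Fin.sum_univ_four, Matrix.cons_val_zero, Matrix.cons_val_one, Matrix.cons_val,
        zero_smul, add_zero]
      rw [← sub_eq_zero] at h1
      rw [← h1]
      match_scalars <;> ring)
    exact ⟨h4 1, h4 2, sub_eq_zero.mp (h4 0)⟩
  obtain ⟨q1, q2, q3⟩ := hrel
  rw [q2, zero_mul, add_zero] at q1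
  rw [q2, zero_mul, zero_sub] at q3
  have hcube : β * β * β = -1 := by linear_combination β * q2 - q1
  have hβval : β = -1 := by
    have : β * β = 1 := by rw [← q3] at hε1; linear_combination hε1
    rw [← hcube, this, one_mul]
  have hαval : α = 0 := by linear_combination q2 - (β - 1) * hβval
  -- the relation between all the vectors
  let vv : Option {i : Fin r // i ≠ a ∧ i ≠ b} → V := fun o => o.elim v fun i => B i.1
  have hι : Fintype.card {i : Fin r // i ≠ a ∧ i ≠ b} = r - 2 := by
    rw [Fintype.card_subtype, show (Finset.univ.filter fun i : Fin r => i ≠ a ∧ i ≠ b) =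
      Finset.univ \ {a, b} by ext; simp,
      Finset.card_sdiff_of_subset (Finset.subset_univ _), Finset.card_pair hd.ab, Finset.card_univ,
      Fintype.card_fin]
  have hdep : ¬ LinearIndependent k vv := by
    intro h
    have := h.fintype_card_le_finrank
    rw [Fintype.card_option, hι] at this
    change r - 2 + 1 ≤ n at this
    omega
  obtain ⟨co', hsum, hnz⟩ := Fintype.not_linearIndependent_iff.mp hdep
  set c0 := co' none with hc0
  set cs : Fin r → k := fun i => if h : i ≠ a ∧ i ≠ b then co' (some ⟨i, h⟩) else 0 with hcs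
  set I : Finset (Fin r) := Finset.univ \ {a, b} with hI
  have hmemI : ∀ i, i ∈ I ↔ i ≠ a ∧ i ≠ b := fun i => by simp [hI]
  have hsum' : c0 • v + ∑ i ∈ I, cs i • B i = 0 := by
    rw [← hsum, Fintype.sum_option]
    congr 1
    rw [← Finset.sum_coe_sort I]
    refine Fintype.sum_equiv (Equiv.subtypeEquivRight hmemI) _ _ fun i => ?_
    simp [vv, hcs, (hmemI i.1).mp i.2]
    rfl
  have hconst : ∀ i j, i ∈ I → j ∈ I → cs i = cs j := by
    intro i j hi hj
    by_cases hij : i = j
    · rw [hij]
    rw [hmemI] at hi hj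
    obtain ⟨w, hw⟩ := exists_avoid hr [a, b, i, j] (by simp)
    simp only [List.mem_cons, List.not_mem_nil, or_false, not_or] at hw
    obtain ⟨wa, wb, wi, wj⟩ := hw
    have hy : Distinct3 i j w := ⟨hij, Ne.symm wj, Ne.symm wi⟩
    set y := tc i j w with hyd
    have hmap : c0 • v + ∑ z ∈ I, cs z • B (y z) = 0 := by
      have := congrArg (C.T y) hsum'
      rw [map_add, map_smul, map_sum, map_zero, hfix i j w hy hi.1 hi.2 hj.1 hj.2 wa wb] at this
      rw [← this]
      congr 1
      refine Finset.sum_congr rfl fun z hz => ?_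
      rw [hmemI] at hz
      rw [map_smul]
      simp only [hB]
      rw [hequi i j w hy hi.1 hi.2 hj.1 hj.2 wa wb z hz.1 hz.2, hfix i j w hy hi.1 hi.2 hj.1 hj.2 wa wb]
    have hsub : ∑ z ∈ I, (cs z • B z - cs z • B (y z)) = 0 := by
      rw [Finset.sum_sub_distrib, sub_eq_zero]
      exact add_left_cancel (hsum'.trans hmap.symm)
    have hS : ({i, j, w} : Finset (Fin r)) ⊆ I := by
      intro z hz
      simp at hz
      rw [hmemI]
      rcases hz with rfl | rfl | rfl
      · exact hi
      · exact hj
      · exact ⟨wa, wb⟩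
    rw [← Finset.sum_subset hS (fun z _ hz => by
      simp at hz
      rw [hyd, tc_other hz.1 hz.2.1 hz.2.2, sub_self])] at hsub
    rw [Finset.sum_insert (by simp [hij, Ne.symm wi]), Finset.sum_pair (Ne.symm wj), hyd,
      tc_fst hy, tc_snd hy, tc_thd] at hsub
    have hli := hind4 i j w hi.1 hi.2 hj.1 hj.2 wa wb hy
    rw [Fintype.linearIndependent_iff] at hli
    have h4 := hli ![0, cs i - cs w, cs j - cs i, cs w - cs j] (by
      simp only [Fin.sum_univ_four, Matrix.cons_val_zero, Matrix.cons_val_one, Matrix.cons_val,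
        zero_smul, zero_add]
      rw [← hsub]
      match_scalars <;> ring) 2
    simp at h4
    exact (sub_eq_zero.mp h4).symm
  have hcI : c ∈ I := (hmemI c).mpr ⟨hd.ac.symm, hd.bc.symm⟩
  set t := cs c with ht
  have hsum'' : c0 • v + t • ∑ i ∈ I, B i = 0 := by
    rw [Finset.smul_sum, ← hsum']
    congr 1
    exact Finset.sum_congr rfl fun i hi => by rw [ht, hconst i c hi hcI]
  have ht0 : t ≠ 0 := by
    intro e
    rw [e, zero_smul, add_zero] at hsum''
    obtain ⟨o, ho⟩ := hnz
    have hc00 := (smul_eq_zero.mp hsum'').resolve_right hv0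
    rcases o with _ | i
    · exact ho hc00
    · apply ho
      have := hconst i.1 c ((hmemI _).mpr i.2) hcI
      rw [← ht, e] at this
      simpa [hcs, i.2] using this
  have happ := congrArg (C.T (tc a b c)) hsum''
  rw [map_add, map_smul, map_smul, map_zero, map_sum, ← Finset.add_sum_erase I _ hcI,
    Finset.sum_congr rfl (g := fun i => B i + α • v + β • B c) (fun i hi => by
      rw [Finset.mem_erase, hmemI] at hi
      exact hunif c i hd.ac.symm hd.bc.symm hi.2.1 hi.2.2 (Ne.symm hi.1)),
    hsq c hd.ac.symm hd.bc.symm, Finset.sum_add_distrib, Finset.sum_add_distrib, Finset.sum_const,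
    Finset.sum_const, hαval, hβval, zero_smul, smul_zero, add_zero] at happ
  rw [← Finset.add_sum_erase I _ hcI] at hsum''
  have hcardI : (I.erase c).card = r - 3 := by
    rw [Finset.card_erase_of_mem hcI, hI, Finset.card_sdiff_of_subset (Finset.subset_univ _),
      Finset.card_pair hd.ab, Finset.card_univ, Fintype.card_fin]
    omega
  rw [hcardI, ← Nat.cast_smul_eq_nsmul k, show C.T (tc a b c) v = B c from rfl] at happ
  have hli := hind2 c hd.ac.symm hd.bc.symm
  rw [Fintype.linearIndependent_iff] at hli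
  have h5 := hli ![-t - c0, c0 - 2 * t - t * ((r - 3 : ℕ) : k)] (by
    simp only [Fin.sum_univ_two, Matrix.cons_val_zero, Matrix.cons_val_one]
    rw [← sub_zero (0 : V)]
    nth_rewrite 1 [← happ]
    rw [← hsum'']
    match_scalars <;> ring)
  have e1 : -t - c0 = 0 := h5 0
  have e2 : c0 - 2 * t - t * ((r - 3 : ℕ) : k) = 0 := h5 1
  rw [Nat.cast_sub (show 3 ≤ r by omega)] at e2
  have e3 : t * (r : k) = 0 := by push_cast at e2; linear_combination -e2 - e1
  exact (CharP.cast_eq_zero_iff k p r).mp ((mul_eq_zero.mp e3).resolve_left ht0)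

end Ctx

end Cfsg.Agent.AltSection
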