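import Cfsg.Agent.AltSection.Five
import Cfsg.Agent.AltSection.Trivial

/-!
The bound for irreducible projective representations of alternating groups.
-/

set_option autoImplicit false
set_option linter.unusedSectionVars false

namespace Cfsg.Agent.AltSection

open Equiv Module

variable {r : ℕ} {k V G : Type} [Field k] [AddCommGroup V] [Module k V] [FiniteDimensional k V]
  [Group G] [Finite G]

theorem bnd_le (p m : ℕ) : bnd p m ≤ m - 1 := by
  unfold bnd; split_ifs <;> omega

theorem le_bnd (p m : ℕ) : m - 2 ≤ bnd p m := by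
  unfold bnd; split_ifs <;> omega

namespace Ctx

variable {C : Ctx r k V G}

theorem exists_conj {x x' : Perm (Fin r)} (hx : Three x) (hx' : Three x') :
    ∃ g, C.π g * x * (C.π g)⁻¹ = x' := by
  have := C.hr
  obtain ⟨a, b, c, hd, rfl⟩ := hx
  obtain ⟨i, j, l, hd', rfl⟩ := hx'
  obtain ⟨w, hw, hmap⟩ := exists_even_map (m := 3) (by omega) ![a, b, c] ![i, j, l]
    (by intro p q; fin_cases p <;> fin_cases q <;>
      simp [hd.ab, hd.ab.symm, hd.bc, hd.bc.symm, hd.ac, hd.ac.symm])
    (by intro p q; fin_cases p <;> fin_cases q <;>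
      simp [hd'.ab, hd'.ab.symm, hd'.bc, hd'.bc.symm, hd'.ac, hd'.ac.symm])
  obtain ⟨g, rfl⟩ := C.π_surj w hw
  have h0 := hmap 0; have h1 := hmap 1; have h2 := hmap 2
  simp at h0 h1 h2
  exact ⟨g, by rw [tc_conj, h0, h1, h2]⟩

/-- Transport of trivial action along conjugation. -/
theorem fix_of_conj {x y : Perm (Fin r)} (hy : Three y) {g : G}
    (hdisj : (C.π g * x * (C.π g)⁻¹).Disjoint y) {v : V}
    (h : ∀ y', Three y' → x.Disjoint y' → C.T y' v = v) : C.T y (C.ρ g v) = C.ρ g v := by
  set y' := (C.π g)⁻¹ * y * C.π g with hy'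
  have e : C.π g * y' * (C.π g)⁻¹ = y := by rw [hy']; group
  have h3 : Three y' := by simpa [hy'] using hy.conj (C.π g)⁻¹
  have hd : x.Disjoint y' := by
    intro z
    rcases hdisj (C.π g z) with h' | h'
    · left; simpa using h'
    · right; simp [hy', h']
  have hcj := LinearMap.congr_fun (C.T_conj h3 g) v
  rw [e] at hcj
  simp only [Module.End.mul_apply, h y' h3 hd] at hcj
  exact hcj.symm

theorem disj_of_trivOn {x : Perm (Fin r)} (hx : Three x) (h : C.TrivOn x (C.D x)) : C.Disj := by
  intro x' y hx' hy hd v hv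
  obtain ⟨g, rfl⟩ := C.exists_conj hx hx'
  rw [← C.D_conj hx g] at hv
  obtain ⟨u, hu, rfl⟩ := hv
  exact fix_of_conj hy hd fun y' hy' hd' => h y' hy' hd' u hu

theorem T_ne_one {x : Perm (Fin r)} (hx : Three x) : C.T x ≠ 1 := fun e => by
  have h : C.T x⁻¹ = C.T x := by rw [C.T_inv hx, e, mul_one]
  have h2 := C.T_injective hx.inv hx h
  exact hx.ne_one (by
    have h3 := hx.cube
    have : x * x = 1 := by
      calc x * x = x⁻¹ * x := by rw [h2]
        _ = 1 := inv_mul_cancel x
    rwa [this, one_mul] at h3)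

theorem not_trivOn_fixed {a b c : Fin r} (hd : Distinct3 a b c)
    (hne : LinearMap.ker (C.T (tc a b c) - 1) ≠ ⊥) :
    ¬ C.TrivOn (tc a b c) (LinearMap.ker (C.T (tc a b c) - 1)) := by
  classical
  intro h
  have hmem : ∀ (x : Perm (Fin r)) (v : V),
      v ∈ LinearMap.ker (C.T x - 1) ↔ C.T x v = v := fun x v => by
    rw [LinearMap.mem_ker, LinearMap.sub_apply, Module.End.one_apply, sub_eq_zero]
  have h' : ∀ x y, Three x → Three y → x.Disjoint y → ∀ v, C.T x v = v → C.T y v = v := by
    intro x y hx hy hdisj v hv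
    obtain ⟨g, rfl⟩ := C.exists_conj (three_tc hd) hx
    have hinv : C.ρ g (C.ρ g⁻¹ v) = v := by
      rw [← Module.End.mul_apply, C.rho_mul_inv, Module.End.one_apply]
    have hw : C.T (tc a b c) (C.ρ g⁻¹ v) = C.ρ g⁻¹ v := by
      apply rho_injective (C := C) g
      have := LinearMap.congr_fun (C.T_conj (three_tc hd) g) (C.ρ g⁻¹ v)
      simp only [Module.End.mul_apply] at this
      rw [this, hinv, hv]
    rw [← hinv]
    exact fix_of_conj hy hdisj fun y' hy' hd' => h y' hy' hd' _ ((hmem _ _).mpr hw)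
  have hall : ∀ x y, Three x → Three y → ∀ v, C.T x v = v → C.T y v = v := by
    intro x y hx hy v hv
    obtain ⟨i, j, l, hxd, rfl⟩ := hx
    obtain ⟨i', j', l', hyd, rfl⟩ := hy
    obtain ⟨S, hS, hS3⟩ := Finset.exists_subset_card_eq (n := 3)
      (s := Finset.univ \ ({i, j, l, i', j', l'} : Finset (Fin r))) (by
        rw [Finset.card_sdiff_of_subset (Finset.subset_univ _), Finset.card_univ, Fintype.card_fin]
        have : ({i, j, l, i', j', l'} : Finset (Fin r)).card ≤ 6 := Finset.card_le_six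
        have := C.hr
        omega)
    obtain ⟨u, w, z, huw, huz, hwz, rfl⟩ := Finset.card_eq_three.mp hS3
    simp only [Finset.subset_iff, Finset.mem_insert, Finset.mem_singleton, Finset.mem_sdiff,
      Finset.mem_univ, true_and, not_or, forall_eq_or_imp, forall_eq] at hS
    obtain ⟨⟨u1, u2, u3, u4, u5, u6⟩, ⟨w1, w2, w3, w4, w5, w6⟩, ⟨z1, z2, z3, z4, z5, z6⟩⟩ := hS
    have hm : Three (tc u w z) := three_tc ⟨huw, hwz, huz⟩
    exact h' _ _ hm (three_tc hyd) (disjoint_tc u4 u5 u6 w4 w5 w6 z4 z5 z6).symm v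
      (h' _ _ (three_tc hxd) hm (disjoint_tc u1 u2 u3 w1 w2 w3 z1 z2 z3) v hv)
  have htop : LinearMap.ker (C.T (tc a b c) - 1) = ⊤ :=
    (C.eq_bot_or_top _ (a := a) (c := c) hd.ac fun z za zc v hv => by
      rw [hall _ _ (three_tc hd) (three_tc ⟨hd.ac, zc.symm, za.symm⟩) v ((hmem _ _).mp hv)]
      exact hv).resolve_left hne
  refine T_ne_one (C := C) (three_tc hd) (LinearMap.ext fun v => ?_)
  exact (hmem _ v).mp (htop ▸ Submodule.mem_top)

theorem stab_ker_range (x : Perm (Fin r)) (P : Module.End k V)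
    (hP : ∀ f : Module.End k V, Commute f (C.T x) → Commute f P) :
    C.Stab x (LinearMap.ker P) ∧ C.Stab x (LinearMap.range P) := by
  refine ⟨fun f hf v hv => ?_, fun f hf v hv => ?_⟩
  · rw [LinearMap.mem_ker] at hv ⊢
    rw [← Module.End.mul_apply, ← (hP f hf).eq, Module.End.mul_apply, hv, map_zero]
  · obtain ⟨u, rfl⟩ := hv
    exact ⟨f u, (LinearMap.congr_fun (hP f hf).eq u).symm⟩

theorem finrank_range_add (f : Module.End k V) :
    finrank k (LinearMap.range f) + finrank k (LinearMap.ker f) = finrank k V :=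
  LinearMap.finrank_range_add_finrank_ker f

/-- The lower bound for nontrivial pieces in characteristic not three. -/
theorem piece_three [IsAlgClosed k] {p : ℕ} (h3 : (3 : k) ≠ 0)
    (ih : ∀ m, 9 ≤ m → m < r → Bound p k m) {a b c : Fin r} (hd : Distinct3 a b c)
    {U : Submodule k V} (hU : C.Stab (tc a b c) U) (hnt : ¬ C.TrivOn (tc a b c) U) :
    bnd p r ≤ 3 * finrank k U := by
  have h4 := small_three (C := C) h3 hd hU hnt
  have hb := bnd_le p r
  have hr := C.hr
  by_cases h12 : 12 ≤ r
  · have h5 := piece_large (C := C) (ih (r - 3) (by omega) (by omega)) hd hU hnt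
    have := le_bnd p (r - 3)
    omega
  · omega

/-- The case of characteristic not three. -/
theorem bound_ne_three [IsAlgClosed k] {p : ℕ} [Fact p.Prime] [CharP k p] (h3 : (3 : k) ≠ 0)
    (ih : ∀ m, 9 ≤ m → m < r → Bound p k m) {a b c : Fin r} (hd : Distinct3 a b c)
    (hq : C.T (tc a b c) * C.T (tc a b c) + C.T (tc a b c) + 1 ≠ 0) :
    bnd p r ≤ finrank k V := by
  haveI := C.nontrivial
  set x := tc a b c with hx
  have hx3 : Three x := three_tc hd
  set T := C.T x with hT
  obtain ⟨ω, hω, hω1⟩ := exists_omega (k := k) h3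
  have hω3 : ω * ω * ω = 1 := by linear_combination (ω - 1) * hω
  have hne12 : ω ≠ ω * ω := fun e => hω1 (by
    have h1 : ω * (ω - 1) = 0 := by linear_combination -e
    rcases mul_eq_zero.mp h1 with h | h
    · rw [h] at hω3; simp at hω3
    · exact sub_eq_zero.mp h)
  have hω21 : ω * ω ≠ 1 := fun e => hω1 (by linear_combination hω3 - ω * e)
  have hT3 : ∀ v, T (T (T v)) = v := fun v => by
    have := LinearMap.congr_fun (C.T_cube hx3) v; simpa using this
  have hker : LinearMap.ker (T - 1) ≠ ⊥ := by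
    intro e
    refine hq (LinearMap.ext fun v => ?_)
    have : T (T v) + T v + v ∈ LinearMap.ker (T - 1) := by
      rw [LinearMap.mem_ker, LinearMap.sub_apply, Module.End.one_apply, map_add, map_add, hT3]
      abel
    rw [e, Submodule.mem_bot] at this
    simpa using this
  have hCs : C.Stab x (LinearMap.ker (T - 1)) :=
    (stab_ker_range x (T - 1) fun f hf => hf.sub_right (Commute.one_right f)).1
  have hC := piece_three h3 ih hd hCs (not_trivOn_fixed hd hker)
  set E : k → Submodule k V := fun μ => eig ⊤ T μ with hE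
  have hEmem : ∀ μ v, v ∈ E μ ↔ T v = μ • v := fun μ v => by simp [hE, mem_eig]
  have hEs : ∀ μ, C.Stab x (E μ) := fun μ f hf v hv => by
    rw [hEmem] at hv ⊢
    have := LinearMap.congr_fun hf.eq v
    simp only [Module.End.mul_apply] at this
    rw [← hT] at this
    rw [← this, hv, map_smul]
  have hED : ∀ μ, μ ≠ 1 → E μ ≤ C.D x := by
    intro μ hμ v hv
    rw [hEmem] at hv
    refine C.mem_D.mpr ⟨(μ - 1)⁻¹ • v, ?_⟩
    rw [map_smul, ← hT, hv, ← smul_sub, show μ • v - v = (μ - 1) • v by rw [sub_smul, one_smul],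
      smul_smul, inv_mul_cancel₀ (sub_ne_zero.mpr hμ), one_smul]
  have hsum : finrank k (E ω) + finrank k (E (ω * ω)) ≤ finrank k (C.D x) := by
    have h := Submodule.finrank_sup_add_finrank_inf_eq (E ω) (E (ω * ω))
    rw [eig_pair_disjoint hne12, finrank_bot, add_zero] at h
    rw [← h]
    exact Submodule.finrank_mono (sup_le (hED _ hω1) (hED _ hω21))
  have hdec : ∀ v ∈ C.D x, ∃ v₁ ∈ E ω, ∃ v₂ ∈ E (ω * ω), v = v₁ + v₂ := by
    intro v hv
    obtain ⟨u, rfl⟩ := C.mem_D.mp hv
    rw [← hT]
    set w := T u - u with hw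
    have hTT : T (T w) = -T w - w := by
      rw [hw]; simp only [map_sub, hT3]; abel
    clear_value w
    refine ⟨(ω - ω * ω)⁻¹ • (T w - (ω * ω) • w), ?_, (ω - ω * ω)⁻¹ • (ω • w - T w), ?_, ?_⟩
    · rw [hEmem, map_smul, map_sub, map_smul, hTT]
      match_scalars
      · linear_combination (-(ω - ω * ω)⁻¹) * hω
      · linear_combination (ω - ω * ω)⁻¹ * hω3
    · rw [hEmem, map_smul, map_sub, map_smul, hTT]
      match_scalars
      · linear_combination (ω - ω * ω)⁻¹ * hω
      · linear_combination (-(ω - ω * ω)⁻¹) * hω3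
    · rw [← smul_add, show T w - (ω * ω) • w + (ω • w - T w) = (ω - ω * ω) • w by module,
        smul_smul, inv_mul_cancel₀ (sub_ne_zero.mpr hne12), one_smul]
  obtain ⟨h, hh⟩ := C.exists_inverter hx3
  have hflip : ∀ μ, μ * μ * μ = 1 → finrank k (E μ) ≤ finrank k (E (μ * μ)) := by
    intro μ hμ
    refine le_trans (le_of_eq (Submodule.equivMapOfInjective _ (rho_injective (C := C) h) _).finrank_eq)
      (Submodule.finrank_mono ?_)
    rintro _ ⟨w, hw, rfl⟩
    rw [SetLike.mem_coe, hEmem] at hw
    rw [hEmem]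
    have h6 := LinearMap.congr_fun ((C.T_spec hx3).2.2 h hh) w
    simp only [Module.End.mul_apply] at h6
    rw [← hT, hw, map_smul] at h6
    calc T (C.ρ h w) = (μ * μ * μ) • T (C.ρ h w) := by rw [hμ, one_smul]
      _ = (μ * μ) • T (μ • C.ρ h w) := by rw [map_smul, smul_smul]
      _ = (μ * μ) • C.ρ h w := by rw [h6, hT3]
  have hf1 := hflip ω hω3
  have hf2 := hflip (ω * ω) (by linear_combination (ω * ω * ω + 1) * hω3)
  rw [show ω * ω * (ω * ω) = ω by linear_combination ω * hω3] at hf2
  by_cases hDT : C.TrivOn x (C.D x)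
  · refine trivial_case C (disj_of_trivOn hx3 hDT) hd ?_
    by_contra hlt
    have h1 : E ω = ⊥ := Submodule.finrank_eq_zero.mp (by rw [← hx] at hlt; omega)
    have h2 : E (ω * ω) = ⊥ := Submodule.finrank_eq_zero.mp (by rw [← hx] at hlt; omega)
    refine T_ne_one (C := C) hx3 (LinearMap.ext fun v => ?_)
    obtain ⟨v₁, m1, v₂, m2, e⟩ := hdec _ (C.mem_D.mpr ⟨v, rfl⟩)
    rw [h1, Submodule.mem_bot] at m1
    rw [h2, Submodule.mem_bot] at m2
    rwa [m1, m2, add_zero, sub_eq_zero] at e
  · have hone : ¬ C.TrivOn x (E ω) ∨ ¬ C.TrivOn x (E (ω * ω)) := by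
      by_contra hcon
      rw [not_or, not_not, not_not] at hcon
      refine hDT fun y hy hdy v hv => ?_
      obtain ⟨v₁, m1, v₂, m2, rfl⟩ := hdec v hv
      rw [map_add, hcon.1 y hy hdy v₁ m1, hcon.2 y hy hdy v₂ m2]
    have hb : bnd p r ≤ 3 * finrank k (E ω) := by
      rcases hone with h1 | h1
      · exact piece_three h3 ih hd (hEs _) h1
      · have := piece_three h3 ih hd (hEs _) h1
        omega
    have hn : finrank k (C.D x) + finrank k (LinearMap.ker (T - 1)) = finrank k V :=
      finrank_range_add (T - 1)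
    omega

/-- The case of characteristic three. -/
theorem bound_three [IsAlgClosed k] {p : ℕ} [Fact p.Prime] [CharP k p] (hp : p = 3)
    (ih : ∀ m, 9 ≤ m → m < r → Bound p k m) {a b c : Fin r} (hd : Distinct3 a b c)
    (hq : C.T (tc a b c) * C.T (tc a b c) + C.T (tc a b c) + 1 ≠ 0) :
    bnd p r ≤ finrank k V := by
  subst hp
  haveI := C.nontrivial
  have h30 : (3 : k) = 0 := by exact_mod_cast CharP.cast_eq_zero k 3
  set x := tc a b c with hx
  have hx3 : Three x := three_tc hd
  set T := C.T x with hT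
  set N := T - 1 with hN
  have hT3 : ∀ v, T (T (T v)) = v := fun v => by
    have := LinearMap.congr_fun (C.T_cube hx3) v; simpa using this
  have hNN : N * N ≠ 0 := fun e => hq (by
    rw [show T * T + T + 1 = N * N + (3 : k) • T by
      rw [hN, sub_mul, mul_sub, one_mul, mul_one]; module, e, h30, zero_smul, add_zero])
  have hb := bnd_le 3 r
  by_cases hr9 : r = 9
  · have h7 := nine_case (C := C) h30 hr9 hd (by rw [← hx, ← hT]; exact hNN)
    have : bnd 3 r = 7 := by subst hr9; unfold bnd; norm_num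
    omega
  have hr10 : 10 ≤ r := by have := C.hr; omega
  have h50 : (5 : k) ≠ 0 := fun e => one_ne_zero (α := k) (by linear_combination (2 : k) * h30 - e)
  set R := LinearMap.range (N * N) with hR
  set K := LinearMap.ker N with hK
  set DC := C.D x ⊓ K with hDC
  have hcN : ∀ f : Module.End k V, Commute f (C.T x) → Commute f N := fun f hf =>
    hf.sub_right (Commute.one_right f)
  have hRs : C.Stab x R :=
    (stab_ker_range x _ fun f hf => (hcN f hf).mul_right (hcN f hf)).2
  have hDs : C.Stab x (C.D x) := (stab_ker_range x N hcN).2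
  have hDCs : C.Stab x DC := fun f hf v hv =>
    ⟨hDs f hf v hv.1, (stab_ker_range x N hcN).1 f hf v hv.2⟩
  have hN3 : ∀ w, N (N (N w)) = 0 := fun w => by
    simp only [hN, LinearMap.sub_apply, Module.End.one_apply, map_sub, hT3]
    have e30 : ∀ x : V, (3 : k) • x = 0 := fun x => by rw [h30, zero_smul]
    rw [← e30 (T w - T (T w))]
    module
  have hRD : R ≤ DC := by
    rintro _ ⟨u, rfl⟩
    exact ⟨⟨N u, rfl⟩, by rw [SetLike.mem_coe, hK, LinearMap.mem_ker, Module.End.mul_apply, hN3]⟩
  have hD : finrank k (C.D x) = finrank k R + finrank k DC := by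
    have h := LinearMap.finrank_range_add_finrank_ker (N.comp (C.D x).subtype)
    rw [LinearMap.range_comp, Submodule.range_subtype] at h
    have e1 : (C.D x).map N = R := by
      rw [hR, Module.End.mul_eq_comp, LinearMap.range_comp]
      rfl
    have e2 : finrank k (LinearMap.ker (N.comp (C.D x).subtype)) = finrank k DC := by
      rw [LinearMap.ker_comp, hDC,
        ← (Submodule.equivMapOfInjective _ (C.D x).injective_subtype _).finrank_eq.symm,
        Submodule.map_comap_subtype]
    rw [e1, e2] at h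
    exact h.symm
  have hn : finrank k (C.D x) + finrank k K = finrank k V := finrank_range_add N
  have hKD : finrank k DC ≤ finrank k K := Submodule.finrank_mono inf_le_right
  have hRpos : 1 ≤ finrank k R :=
    Submodule.one_le_finrank_iff.mpr fun e => hNN (LinearMap.range_eq_bot.mp e)
  have hRle := Submodule.finrank_mono hRD
  by_cases hRT : C.TrivOn x R
  · by_cases hDT : C.TrivOn x DC
    · -- everything is trivial on `D x`
      have hfix : ∀ y, Three y → x.Disjoint y → ∀ v ∈ C.D x, C.T y v - v ∈ DC := by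
        intro y hy hdy v hv
        refine ⟨(C.D x).sub_mem (T_mem hd hDs hy hdy hv) hv, ?_⟩
        rw [SetLike.mem_coe, hK, LinearMap.mem_ker, map_sub]
        obtain ⟨u, rfl⟩ := hv
        have hc : Commute (C.T y) N := hcN _ (C.T_commute hx3 hy hdy.commute).symm
        rw [← Module.End.mul_apply, ← hc.eq, Module.End.mul_apply, sub_eq_zero]
        exact hRT y hy hdy _ ⟨u, rfl⟩
      have hcomm : ∀ y z, Three y → Three z → x.Disjoint y → x.Disjoint z → ∀ v ∈ C.D x,
          C.T y (C.T z v) = C.T z (C.T y v) := by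
        intro y z hy hz hdy hdz v hv
        have h1 := hDT y hy hdy _ (hfix z hz hdz v hv)
        have h2 := hDT z hz hdz _ (hfix y hy hdy v hv)
        rw [map_sub, sub_eq_iff_eq_add] at h1 h2
        rw [h1, h2]; abel
      obtain ⟨S5, hS, hS5⟩ := Finset.exists_subset_card_eq (n := 5)
        (s := Finset.univ \ ({a, b, c} : Finset (Fin r))) (by
          rw [Finset.card_sdiff_of_subset (Finset.subset_univ _), Finset.card_univ, Fintype.card_fin]
          have : ({a, b, c} : Finset (Fin r)).card ≤ 3 := Finset.card_le_three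
          omega)
      let q : Fin 5 → Fin r := fun i => S5.orderEmbOfFin hS5 i
      have hqi : Function.Injective q := (S5.orderEmbOfFin hS5).injective
      have hqn : ∀ i, q i ≠ a ∧ q i ≠ b ∧ q i ≠ c := fun i => by
        have := hS (S5.orderEmbOfFin_mem hS5 i)
        simp only [Finset.mem_sdiff, Finset.mem_univ, true_and, Finset.mem_insert,
          Finset.mem_singleton, not_or] at this
        exact this
      have d1 : Distinct3 (q 0) (q 1) (q 2) :=
        ⟨hqi.ne (by decide), hqi.ne (by decide), hqi.ne (by decide)⟩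
      have d2 : Distinct3 (q 2) (q 3) (q 4) :=
        ⟨hqi.ne (by decide), hqi.ne (by decide), hqi.ne (by decide)⟩
      have x1 : x.Disjoint (tc (q 0) (q 1) (q 2)) :=
        disjoint_tc (hqn 0).1 (hqn 0).2.1 (hqn 0).2.2 (hqn 1).1 (hqn 1).2.1 (hqn 1).2.2
          (hqn 2).1 (hqn 2).2.1 (hqn 2).2.2
      have x2 : x.Disjoint (tc (q 2) (q 3) (q 4)) :=
        disjoint_tc (hqn 2).1 (hqn 2).2.1 (hqn 2).2.2 (hqn 3).1 (hqn 3).2.1 (hqn 3).2.2
          (hqn 4).1 (hqn 4).2.1 (hqn 4).2.2
      obtain ⟨g1, s1, hs1, hg1, eT1⟩ := C.T_lift (three_tc d1)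
      obtain ⟨g2, s2, hs2, hg2, eT2⟩ := C.T_lift (three_tc d2)
      have hm1 : g1 ∈ C.fix3 a b c := by
        show _ ∧ _ ∧ _; rw [hg1]; exact fixes_of_disjoint hd x1
      have hm2 : g2 ∈ C.fix3 a b c := by
        show _ ∧ _ ∧ _; rw [hg2]; exact fixes_of_disjoint hd x2
      have hm : g1 * g2 * g1⁻¹ * g2⁻¹ ∈ C.fix3 a b c :=
        mul_mem (mul_mem (mul_mem hm1 hm2) (inv_mem hm1)) (inv_mem hm2)
      have hne : C.π (g1 * g2 * g1⁻¹ * g2⁻¹) ≠ 1 := by
        intro e
        simp only [map_mul, map_inv, hg1, hg2] at e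
        have e' : tc (q 0) (q 1) (q 2) * tc (q 2) (q 3) (q 4) =
            tc (q 2) (q 3) (q 4) * tc (q 0) (q 1) (q 2) := by
          rw [mul_inv_eq_one, mul_inv_eq_iff_eq_mul] at e
          exact e
        have := congrArg (fun s : Perm (Fin r) => s (q 1)) e'
        simp only [Perm.mul_apply] at this
        rw [tc_other (hqi.ne (by decide)) (hqi.ne (by decide)) (hqi.ne (by decide)), tc_snd d1,
          tc_fst d2] at this
        exact absurd (hqi this) (by decide)
      refine trivial_case C (disj_of_trivOn hx3 (trivOn_of_scalar hd hDs hm hne (t := 1)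
        fun v hv => ?_)) hd ?_
      · have hv' : C.ρ g2⁻¹ v ∈ C.D x := mem_of_fixes hd hDs (inv_mem hm2).1 (inv_mem hm2).2.1
          (inv_mem hm2).2.2 hv
        have hv'' : C.ρ g1⁻¹ (C.ρ g2⁻¹ v) ∈ C.D x := mem_of_fixes hd hDs (inv_mem hm1).1
          (inv_mem hm1).2.1 (inv_mem hm1).2.2 hv'
        have h1 := hcomm _ _ (three_tc d1) (three_tc d2) x1 x2 _ hv''
        rw [eT1, eT2] at h1
        simp only [LinearMap.smul_apply, map_smul, smul_smul, mul_comm s2 s1] at h1
        have h2 := smul_right_injective V (mul_ne_zero hs1 hs2) h1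
        rw [map_mul, map_mul, map_mul, Module.End.mul_apply, Module.End.mul_apply,
          Module.End.mul_apply, h2, ← Module.End.mul_apply (C.ρ g1), C.rho_mul_inv,
          Module.End.one_apply, ← Module.End.mul_apply (C.ρ g2), C.rho_mul_inv, Module.End.one_apply,
          one_smul]
      · rw [← hx]; omega
    · have h1 := small_five (C := C) h50 hr10 hd hDCs hRD hRT hDT
      by_cases h12 : 12 ≤ r
      · have h2 := piece_large (C := C) (ih (r - 3) (by omega) (by omega)) hd hDCs hDT
        have := le_bnd 3 (r - 3)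
        omega
      · omega
  · have h1 := small_five (C := C) h50 hr10 hd hRs bot_le
      (fun y _ _ v hv => by rw [Submodule.mem_bot] at hv; rw [hv, map_zero]) hRT
    rw [finrank_bot, add_zero] at h1
    by_cases h12 : 12 ≤ r
    · have h2 := piece_large (C := C) (ih (r - 3) (by omega) (by omega)) hd hRs hRT
      have := le_bnd 3 (r - 3)
      omega
    · omega

variable (C)

include C in
/-- The bound for irreducible projective representations. -/
theorem bound [IsAlgClosed k] {p : ℕ} [Fact p.Prime] [CharP k p]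
    (ih : ∀ m, 9 ≤ m → m < r → Bound p k m) : bnd p r ≤ finrank k V := by
  have := C.hr
  have hd : Distinct3 (⟨0, by omega⟩ : Fin r) ⟨1, by omega⟩ ⟨2, by omega⟩ :=
    ⟨by simp, by simp, by simp⟩
  by_cases hq : C.T (tc (⟨0, by omega⟩ : Fin r) ⟨1, by omega⟩ ⟨2, by omega⟩) *
      C.T (tc (⟨0, by omega⟩ : Fin r) ⟨1, by omega⟩ ⟨2, by omega⟩) +
      C.T (tc (⟨0, by omega⟩ : Fin r) ⟨1, by omega⟩ ⟨2, by omega⟩) + 1 = 0
  · exact quadratic_case (C := C) hd hq
  by_cases h3 : (3 : k) = 0
  · have hp : p = 3 := by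
      have : ((3 : ℕ) : k) = 0 := by exact_mod_cast h3
      rw [CharP.cast_eq_zero_iff k p] at this
      exact (Nat.prime_dvd_prime_iff_eq (Fact.out (p := p.Prime)) Nat.prime_three).mp this
    exact bound_three hp ih hd hq
  · exact bound_ne_three h3 ih hd hq

end Ctx

end Cfsg.Agent.AltSection
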