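import Mathlib

/-!
A dimension bound for families of operators with scalar anticommutators, and its application to
families of operators satisfying `x ^ 2 + x + 1 = 0` with `(x * y) ^ 2` scalar.
-/

set_option autoImplicit false

namespace Cfsg.Agent.AltSection

open Module

universe u

variable {k : Type u} [Field k] [IsAlgClosed k]

theorem eq_zero_of_smul_one {V : Type u} [AddCommGroup V] [Module k V] [Nontrivial V] {a : k}
    (h : a • (1 : Module.End k V) = 0) : a = 0 := by
  obtain ⟨v, hv⟩ := exists_ne (0 : V)
  have := LinearMap.congr_fun h v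
  simp at this
  exact this.resolve_right hv

theorem clifford_step : ∀ (M : ℕ) (W V : Type u) [AddCommGroup W] [Module k W]
    [FiniteDimensional k W] [AddCommGroup V] [Module k V] [FiniteDimensional k V]
    (φ : W →ₗ[k] Module.End k V) (B : LinearMap.BilinForm k W),
    (∀ v, ∃ q : k, φ v * φ v = q • 1) → (∀ v w, φ v * φ w + φ w * φ v = B v w • 1) →
    (∀ v, (∀ w, B v w = 0) → v = 0) → M ≤ finrank k W → 0 < finrank k V →
    2 ^ (M / 2) ≤ finrank k V := by
  intro M
  induction M using Nat.strong_induction_on with
  | _ M ih =>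
  intro W V _ _ _ _ _ _ φ B hsq hanti hnd hM hn
  haveI : Nontrivial V := Module.nontrivial_of_finrank_pos hn
  rcases Nat.lt_or_ge M 2 with hlt | hge
  · rw [show M / 2 = 0 by omega, pow_zero]
    exact hn
  have hsymm : ∀ v w, B v w = B w v := fun v w => by
    have h := hanti v w
    rw [add_comm, hanti w v, ← sub_eq_zero, ← sub_smul] at h
    exact (sub_eq_zero.mp (eq_zero_of_smul_one h)).symm
  obtain ⟨e, he, hee⟩ : ∃ e, e ≠ 0 ∧ φ e * φ e = 0 := by
    let bs := Module.finBasis k W
    set v := bs ⟨0, by omega⟩ with hv
    set w := bs ⟨1, by omega⟩ with hw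
    obtain ⟨qv, hqv⟩ := hsq v
    obtain ⟨qw, hqw⟩ := hsq w
    by_cases h0 : qv = 0
    · exact ⟨v, bs.ne_zero _, by rw [hqv, h0, zero_smul]⟩
    obtain ⟨t, ht⟩ := IsAlgClosed.exists_root
      (Polynomial.C qv * Polynomial.X ^ 2 + Polynomial.C (B w v) * Polynomial.X + Polynomial.C qw)
      (by rw [Polynomial.degree_quadratic h0]; decide)
    refine ⟨w + t • v, fun h => ?_, ?_⟩
    · have := congrArg (fun z => bs.repr z ⟨1, by omega⟩) h
      simp [hv, hw] at this
    · have : φ (w + t • v) * φ (w + t • v) =
          φ w * φ w + t • (φ w * φ v + φ v * φ w) + (t * t) • (φ v * φ v) := by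
        simp only [map_add, map_smul, add_mul, mul_add, smul_mul_assoc, mul_smul_comm, smul_add,
          smul_smul]
        abel
      rw [this, hanti, hqv, hqw, smul_smul, smul_smul, ← add_smul, ← add_smul]
      simp only [Polynomial.IsRoot, Polynomial.eval_add, Polynomial.eval_mul, Polynomial.eval_C,
        Polynomial.eval_pow, Polynomial.eval_X] at ht
      rw [show qw + t * B w v + t * t * qv = 0 by linear_combination ht, zero_smul]
  have hBee : B e e = 0 := by
    refine eq_zero_of_smul_one (V := V) ?_
    rw [← hanti, hee, add_zero]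
  obtain ⟨b, hb⟩ : ∃ b, B e b = 1 := by
    by_contra hc
    push Not at hc
    refine he (hnd e fun w => ?_)
    by_contra hne
    exact hc ((B e w)⁻¹ • w) (by simp [hne])
  have hbe : B b e = 1 := by rw [hsymm, hb]
  let L : W →ₗ[k] k × k := (B e).prod (B b)
  have hW' : M - 2 ≤ finrank k (LinearMap.ker L) := by
    have h1 := LinearMap.finrank_range_add_finrank_ker L
    have h2 : finrank k (LinearMap.range L) ≤ 2 := by
      refine (Submodule.finrank_le _).trans ?_
      simp
    omega
  let E := φ e
  let V' : Submodule k V := LinearMap.ker E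
  have hmem : ∀ u : LinearMap.ker L, B e u = 0 ∧ B b u = 0 := fun u => by
    have := u.2
    simp only [LinearMap.mem_ker, L, LinearMap.prod_apply, Function.prod_apply, Prod.mk_eq_zero] at this
    exact this
  have hinv : ∀ u : LinearMap.ker L, ∀ x ∈ V', φ (u : W) x ∈ V' := by
    intro u x hx
    have h := LinearMap.congr_fun (hanti e u) x
    simp only [(hmem u).1, zero_smul, LinearMap.add_apply, Module.End.mul_apply,
      LinearMap.zero_apply] at h
    rw [show φ e x = 0 from hx, map_zero, add_zero] at h
    exact h
  let φ' : LinearMap.ker L →ₗ[k] Module.End k V' :=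
    { toFun := fun u => (φ (u : W)).restrict (hinv u)
      map_add' := fun u v => by ext x; simp
      map_smul' := fun c u => by ext x; simp }
  let B' : LinearMap.BilinForm k (LinearMap.ker L) :=
    B.compl₁₂ (LinearMap.ker L).subtype (LinearMap.ker L).subtype
  have hhalf : finrank k V = 2 * finrank k V' := by
    have h1 := LinearMap.finrank_range_add_finrank_ker E
    have h2 : LinearMap.range E = V' := by
      apply le_antisymm
      · rintro _ ⟨x, rfl⟩
        exact LinearMap.congr_fun hee x
      · intro x hx
        refine ⟨φ b x, ?_⟩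
        have h := LinearMap.congr_fun (hanti e b) x
        simp only [hb, one_smul, LinearMap.add_apply, Module.End.mul_apply,
          Module.End.one_apply] at h
        rw [show φ e x = 0 from hx, map_zero, add_zero] at h
        exact h
    rw [h2] at h1
    change finrank k V' + finrank k V' = _ at h1
    omega
  have key := ih (M - 2) (by omega) (LinearMap.ker L) V' φ' B'
    (fun u => by
      obtain ⟨q, hq⟩ := hsq (u : W)
      exact ⟨q, LinearMap.ext fun x => Subtype.ext (by
        simpa [φ'] using LinearMap.congr_fun hq (x : V))⟩)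
    (fun u v => LinearMap.ext fun x => Subtype.ext (by
      simpa [φ', B'] using LinearMap.congr_fun (hanti u v) (x : V)))
    (fun u hu => by
      refine Subtype.ext (hnd u fun x => ?_)
      set x' := x - B x b • e - B x e • (b - B b b • e) with hx'
      have hx'm : x' ∈ LinearMap.ker L := by
        have g1 : B e x' = 0 := by
          simp only [hx', map_sub, map_smul, smul_eq_mul, hBee, hb, hsymm x e]; ring
        have g2 : B b x' = 0 := by
          simp only [hx', map_sub, map_smul, smul_eq_mul, hbe, hsymm x b]; ring
        simp [L, g1, g2]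
      have h := hu ⟨x', hx'm⟩
      have h1 : B (u : W) e = 0 := by rw [hsymm]; exact (hmem u).1
      have h2 : B (u : W) b = 0 := by rw [hsymm]; exact (hmem u).2
      simp only [B', LinearMap.compl₁₂_apply, Submodule.subtype_apply, hx', map_sub, map_smul,
        smul_eq_mul, h1, h2, mul_zero, sub_zero] at h
      exact h)
    hW' (by omega)
  calc 2 ^ (M / 2) = 2 * 2 ^ ((M - 2) / 2) := by
        rw [← pow_succ', show (M - 2) / 2 + 1 = M / 2 by omega]
    _ ≤ finrank k V := by rw [hhalf]; omega

theorem clifford_bound {ι : Type u} [Fintype ι] [DecidableEq ι] {V : Type u} [AddCommGroup V]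
    [Module k V] [FiniteDimensional k V] (hn : 0 < finrank k V) (g : ι → Module.End k V)
    (Bm : ι → ι → k) (hanti : ∀ i j, g i * g j + g j * g i = Bm i j • 1)
    (hsq : ∀ i, ∃ q : k, g i * g i = q • 1)
    (hnd : ∀ c : ι → k, (∀ i, ∑ j, c j * Bm i j = 0) → c = 0) :
    2 ^ (Fintype.card ι / 2) ≤ finrank k V := by
  let φ : (ι → k) →ₗ[k] Module.End k V := Fintype.linearCombination k g
  let B : LinearMap.BilinForm k (ι → k) := Matrix.toBilin' (Matrix.of Bm)
  have hB : ∀ v w, B v w = ∑ i, ∑ j, v i * w j * Bm i j := fun v w => by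
    simp [B, Matrix.toBilin'_apply, mul_right_comm]
  have hφ : ∀ v, φ v = ∑ i, v i • g i := fun v => by simp [φ, Fintype.linearCombination_apply]
  haveI : Nontrivial V := Module.nontrivial_of_finrank_pos hn
  refine clifford_step _ (ι → k) V φ B (fun v => ?_) (fun v w => ?_) (fun v hv => ?_)
    (by simp) hn
  · rw [hφ]
    suffices h : ∀ s : Finset ι, ∃ q : k,
        (∑ i ∈ s, v i • g i) * (∑ i ∈ s, v i • g i) = q • 1 from h Finset.univ
    intro s
    induction s using Finset.induction_on with
    | empty => exact ⟨0, by simp⟩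
    | insert i s hi ih =>
      obtain ⟨q, hq⟩ := ih
      obtain ⟨qi, hqi⟩ := hsq i
      refine ⟨v i * v i * qi + (∑ j ∈ s, v i * v j * Bm i j) + q, ?_⟩
      rw [Finset.sum_insert hi]
      have hc : (v i • g i) * (∑ j ∈ s, v j • g j) + (∑ j ∈ s, v j • g j) * (v i • g i) =
          (∑ j ∈ s, v i * v j * Bm i j) • (1 : Module.End k V) := by
        rw [Finset.mul_sum, Finset.sum_mul, ← Finset.sum_add_distrib, Finset.sum_smul]
        refine Finset.sum_congr rfl fun j _ => ?_
        rw [smul_mul_smul_comm, smul_mul_smul_comm, mul_comm (v j) (v i), ← smul_add, hanti,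
          smul_smul]
      rw [add_mul, mul_add, mul_add, hq, smul_mul_smul_comm, hqi, smul_smul, add_smul, add_smul,
        ← hc]
      abel
  · rw [hφ, hφ, hB, Finset.sum_mul_sum, Finset.sum_mul_sum,
      Finset.sum_comm (s := (Finset.univ : Finset ι)) (f := fun i j => (w i • g i) * (v j • g j)),
      ← Finset.sum_add_distrib, Finset.sum_smul]
    refine Finset.sum_congr rfl fun i _ => ?_
    rw [← Finset.sum_add_distrib, Finset.sum_smul]
    refine Finset.sum_congr rfl fun j _ => ?_
    rw [smul_mul_smul_comm, smul_mul_smul_comm, mul_comm (w j) (v i), ← smul_add, hanti, smul_smul]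
  · refine hnd v fun i => ?_
    have h := hv (Pi.single i 1)
    rw [hB, Finset.sum_comm, Finset.sum_eq_single i (fun j _ hj => by simp [hj]) (by simp)] at h
    have hs : ∀ a b, Bm a b = Bm b a := fun a b => by
      have e := hanti a b
      rw [add_comm, hanti b a, ← sub_eq_zero, ← sub_smul] at e
      exact (sub_eq_zero.mp (eq_zero_of_smul_one e)).symm
    simpa [hs] using h

theorem gram_nondeg {ι : Type u} [Fintype ι] [DecidableEq ι] (α β : k) (hα : α ≠ 0)
    (h : α + (Fintype.card ι : k) * β ≠ 0) (c : ι → k)
    (hc : ∀ i, ∑ j, c j * ((if i = j then α else 0) + β) = 0) : c = 0 := by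
  have hi : ∀ i, α * c i + β * ∑ j, c j = 0 := fun i => by
    rw [← hc i]
    simp only [mul_add, Finset.sum_add_distrib, mul_ite, mul_zero, Finset.sum_ite_eq,
      Finset.mem_univ, if_true, Finset.mul_sum]
    rw [mul_comm]
    simp [mul_comm]
  have hS : (α + (Fintype.card ι : k) * β) * ∑ j, c j = 0 := by
    calc (α + (Fintype.card ι : k) * β) * ∑ j, c j = ∑ i, (α * c i + β * ∑ j, c j) := by
          rw [Finset.sum_add_distrib, ← Finset.mul_sum, Finset.sum_const, Finset.card_univ,
            nsmul_eq_mul]
          ring
      _ = 0 := by simp [hi]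
  funext i
  have := hi i
  rw [(mul_eq_zero.mp hS).resolve_left h, mul_zero, add_zero] at this
  exact (mul_eq_zero.mp this).resolve_left hα

variable {V : Type u} [AddCommGroup V] [Module k V] [FiniteDimensional k V]

/-- Operators with `x ^ 2 + x + 1 = 0` and `x y + y x + x + y + 1 = 0` for two different ones. -/
structure QuadFamily {ι : Type u} (x : ι → Module.End k V) : Prop where
  quad : ∀ i, x i * x i + x i + 1 = 0
  rel : ∀ i j, i ≠ j → x i * x j + x j * x i + x i + x j + 1 = 0

theorem QuadFamily.comp {ι κ : Type u} {x : ι → Module.End k V} (h : QuadFamily x) {f : κ → ι}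
    (hf : Function.Injective f) : QuadFamily (x ∘ f) :=
  ⟨fun i => h.quad (f i), fun i j hij => h.rel _ _ fun e => hij (hf e)⟩

theorem QuadFamily.bound_odd {ι : Type u} [Fintype ι] [DecidableEq ι] {x : ι → Module.End k V}
    (h : QuadFamily x) (hn : 0 < finrank k V) (h2 : (2 : k) ≠ 0)
    (hc : ((Fintype.card ι + 2 : ℕ) : k) ≠ 0) : 2 ^ (Fintype.card ι / 2) ≤ finrank k V := by
  refine clifford_bound hn (fun i => x i + (2⁻¹ : k) • 1)
    (fun i j => (if i = j then (-1 : k) else 0) + (-2⁻¹)) (fun i j => ?_) (fun i => ?_)
    (gram_nondeg _ _ (neg_ne_zero.mpr one_ne_zero) ?_)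
  · have hcast : ∀ a : Module.End k V, a = (1 : k) • a := fun a => (one_smul k a).symm
    split_ifs with hij
    · subst hij
      have e : x i * x i = -x i - 1 := eq_sub_of_add_eq (eq_neg_of_add_eq_zero_left (by
        rw [← h.quad i]; abel))
      simp only [add_mul, mul_add, smul_mul_assoc, mul_smul_comm, one_mul, mul_one, e, smul_smul]
      match_scalars <;> field_simp <;> ring
    · have e : x i * x j = -(x j * x i) - x i - x j - 1 := by
        rw [← sub_eq_zero, ← h.rel i j hij]; abel
      simp only [add_mul, mul_add, smul_mul_assoc, mul_smul_comm, one_mul, mul_one, e, smul_smul]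
      match_scalars <;> field_simp <;> ring
  · refine ⟨-(3 / 4), ?_⟩
    have e : x i * x i = -x i - 1 := eq_sub_of_add_eq (eq_neg_of_add_eq_zero_left (by
      rw [← h.quad i]; abel))
    simp only [add_mul, mul_add, smul_mul_assoc, mul_smul_comm, one_mul, mul_one, e, smul_smul]
    have h4 : (4 : k) ≠ 0 := by
      have := mul_ne_zero h2 h2; intro h; exact this (by rw [← h]; norm_num)
    match_scalars <;> field_simp <;> ring
  · rw [Nat.cast_add] at hc
    intro e
    apply hc
    field_simp at e
    push_cast
    linear_combination -e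

theorem QuadFamily.bound_two {ι : Type u} [Fintype ι] [DecidableEq ι] {x : ι → Module.End k V}
    {y : Module.End k V} (h : QuadFamily (fun o : Option ι => o.elim y x))
    (hn : 0 < finrank k V) (hc : ((Fintype.card ι + 1 : ℕ) : k) ≠ 0) :
    2 ^ (Fintype.card ι / 2) ≤ finrank k V := by
  have hy : y * y = -y - 1 := eq_sub_of_add_eq (eq_neg_of_add_eq_zero_left (by
    have := h.quad none; simp only [Option.elim] at this; rw [← this]; abel))
  have hx : ∀ i, x i * x i = -x i - 1 := fun i => eq_sub_of_add_eq (eq_neg_of_add_eq_zero_left (by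
    have := h.quad (some i); simp only [Option.elim] at this; rw [← this]; abel))
  have hxy : ∀ i, x i * y = -(y * x i) - x i - y - 1 := fun i => by
    have := h.rel (some i) none (by simp)
    simp only [Option.elim] at this
    rw [← sub_eq_zero, ← this]; abel
  refine clifford_bound hn (fun i => x i - y)
    (fun i j => (if i = j then (-1 : k) else 0) + (-1)) (fun i j => ?_) (fun i => ⟨-1, ?_⟩)
    (gram_nondeg _ _ (neg_ne_zero.mpr one_ne_zero) ?_)
  · split_ifs with hij
    · subst hij
      simp only [sub_mul, mul_sub, hx, hy, hxy]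
      match_scalars <;> ring
    · have e : x i * x j = -(x j * x i) - x i - x j - 1 := by
        have := h.rel (some i) (some j) (by simpa using hij)
        simp only [Option.elim] at this
        rw [← sub_eq_zero, ← this]; abel
      simp only [sub_mul, mul_sub, e, hy, hxy]
      match_scalars <;> ring
  · simp only [sub_mul, mul_sub, hx, hy, hxy]
    match_scalars <;> ring
  · rw [Nat.cast_add] at hc
    intro e
    apply hc
    push_cast
    linear_combination -e

end Cfsg.Agent.AltSection
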