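import Cfsg.Agent.AltSection.Small

/-!
Lower bounds from lifts of five-cycles, used in characteristic three.
-/

set_option autoImplicit false
set_option linter.unusedSectionVars false

namespace Cfsg.Agent.AltSection

open Equiv Module

variable {r : ℕ} {k V G : Type} [Field k] [AddCommGroup V] [Module k V] [FiniteDimensional k V]
  [Group G] [Finite G]

theorem five_order {ζ : k} (h5 : ζ * ζ * ζ * ζ * ζ = 1) (h1 : ζ ≠ 1) : orderOf ζ = 5 :=
  orderOf_eq_prime (hp := ⟨by norm_num⟩) (by rw [← h5]; ring) h1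

theorem five_sum_eq_zero {μ : k} (h5 : μ * μ * μ * μ * μ = 1) (h1 : μ ≠ 1) :
    1 + μ + μ * μ + μ * μ * μ + μ * μ * μ * μ = 0 :=
  (mul_eq_zero.mp (show (μ - 1) * (1 + μ + μ * μ + μ * μ * μ + μ * μ * μ * μ) = 0 by
    linear_combination h5)).resolve_left (sub_ne_zero.mpr h1)

theorem five_perm {p q t u w : Fin r} (h : List.Nodup [p, q, t, u, w]) :
    tc p t w * tc w q u = tc p q t * tc t u w * (tc p q t * tc t u w) ∧
      tc p q t * tc t u w * (tc p q t * tc t u w) * (tc p q t * tc t u w) *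
        (tc p q t * tc t u w) * (tc p q t * tc t u w) = 1 := by
  simp only [List.nodup_cons, List.mem_cons, List.not_mem_nil, or_false, not_or, List.nodup_nil,
    not_false_eq_true, and_true] at h
  obtain ⟨⟨pq, pt, pu, pw⟩, ⟨qt, qu, qw⟩, ⟨tu, tw⟩, uw⟩ := h
  have d1 : Distinct3 p q t := ⟨pq, qt, pt⟩
  have d2 : Distinct3 t u w := ⟨tu, uw, tw⟩
  have d3 : Distinct3 p t w := ⟨pt, tw, pw⟩
  have d4 : Distinct3 w q u := ⟨Ne.symm qw, qu, Ne.symm uw⟩
  set F := tc p q t * tc t u w with hF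
  set F' := tc p t w * tc w q u with hF'
  clear_value F F'
  have f0 : F p = q := by rw [hF, Perm.mul_apply, tc_other pt pu pw, tc_fst d1]
  have f1 : F q = t := by rw [hF, Perm.mul_apply, tc_other qt qu qw, tc_snd d1]
  have f2 : F t = u := by
    rw [hF, Perm.mul_apply, tc_fst d2, tc_other (Ne.symm pu) (Ne.symm qu) (Ne.symm tu)]
  have f3 : F u = w := by
    rw [hF, Perm.mul_apply, tc_snd d2, tc_other (Ne.symm pw) (Ne.symm qw) (Ne.symm tw)]
  have f4 : F w = p := by rw [hF, Perm.mul_apply, tc_thd, tc_thd]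
  have g0 : F' p = t := by rw [hF', Perm.mul_apply, tc_other pw pq pu, tc_fst d3]
  have g1 : F' q = u := by
    rw [hF', Perm.mul_apply, tc_snd d4, tc_other (Ne.symm pu) (Ne.symm tu) uw]
  have g2 : F' t = w := by rw [hF', Perm.mul_apply, tc_other tw (Ne.symm qt) tu, tc_snd d3]
  have g3 : F' u = p := by rw [hF', Perm.mul_apply, tc_thd, tc_thd]
  have g4 : F' w = q := by
    rw [hF', Perm.mul_apply, tc_fst d4, tc_other (Ne.symm pq) qt qw]
  have hfix : ∀ z, z ≠ p → z ≠ q → z ≠ t → z ≠ u → z ≠ w → F z = z ∧ F' z = z := by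
    intro z a1 a2 a3 a4 a5
    constructor
    · rw [hF, Perm.mul_apply, tc_other a3 a4 a5, tc_other a1 a2 a3]
    · rw [hF', Perm.mul_apply, tc_other a5 a2 a4, tc_other a1 a3 a5]
  have key : ∀ z, F' z = F (F z) ∧ F (F (F (F (F z)))) = z := by
    intro z
    by_cases a1 : z = p; · subst a1; simp [f0, f1, f2, f3, f4, g0]
    by_cases a2 : z = q; · subst a2; simp [f0, f1, f2, f3, f4, g1]
    by_cases a3 : z = t; · subst a3; simp [f0, f1, f2, f3, f4, g2]
    by_cases a4 : z = u; · subst a4; simp [f0, f1, f2, f3, f4, g3]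
    by_cases a5 : z = w; · subst a5; simp [f0, f1, f2, f3, f4, g4]
    obtain ⟨b1, b2⟩ := hfix z a1 a2 a3 a4 a5
    simp [b1, b2]
  exact ⟨Equiv.ext fun z => (key z).1, Equiv.ext fun z => (key z).2⟩

namespace Ctx

variable {C : Ctx r k V G}

set_option maxHeartbeats 1600000 in
theorem five_setup {c : Fin 5 → Fin r} (hc : Function.Injective c) {η : G}
    (hη : ∀ i, C.π η (c i) = c (2 * i)) :
    ∃ (S : Module.End k V) (l : k) (g : G) (s : k),
      C.π g = tc (c 0) (c 1) (c 2) * tc (c 2) (c 3) (c 4) ∧ s ≠ 0 ∧ S = s • C.ρ g ∧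
      S = l • (C.T (tc (c 0) (c 1) (c 2)) * C.T (tc (c 2) (c 3) (c 4))) ∧
      S * S * S * S * S = 1 ∧ C.ρ η * S = S * S * C.ρ η ∧
      ∀ w : V, w ≠ 0 → C.T (tc (c 0) (c 1) (c 2)) w = w → C.T (tc (c 2) (c 3) (c 4)) w = w →
        C.T (tc (c 0) (c 2) (c 4)) w = w → C.T (tc (c 4) (c 1) (c 3)) w = w → l = 1 := by
  haveI := C.nontrivial
  have hne : ∀ {i j : Fin 5}, i ≠ j → c i ≠ c j := fun h e => h (hc e)
  have d1 : Distinct3 (c 0) (c 1) (c 2) := ⟨hne (by decide), hne (by decide), hne (by decide)⟩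
  have d2 : Distinct3 (c 2) (c 3) (c 4) := ⟨hne (by decide), hne (by decide), hne (by decide)⟩
  have d3 : Distinct3 (c 0) (c 2) (c 4) := ⟨hne (by decide), hne (by decide), hne (by decide)⟩
  have d4 : Distinct3 (c 4) (c 1) (c 3) := ⟨hne (by decide), hne (by decide), hne (by decide)⟩
  set F := tc (c 0) (c 1) (c 2) * tc (c 2) (c 3) (c 4) with hF
  have hnd : List.Nodup [c 0, c 1, c 2, c 3, c 4] :=
    (List.nodup_map_iff hc).mpr (show List.Nodup [(0 : Fin 5), 1, 2, 3, 4] by decide)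
  obtain ⟨hFF, hF5⟩ := five_perm hnd
  set T1 := C.T (tc (c 0) (c 1) (c 2))
  set T2 := C.T (tc (c 2) (c 3) (c 4))
  set T3 := C.T (tc (c 0) (c 2) (c 4))
  set T4 := C.T (tc (c 4) (c 1) (c 3))
  obtain ⟨g1, s1, hs1, hg1, e1⟩ := C.T_lift (three_tc d1)
  obtain ⟨g2, s2, hs2, hg2, e2⟩ := C.T_lift (three_tc d2)
  obtain ⟨g3, s3, hs3, hg3, e3⟩ := C.T_lift (three_tc d3)
  obtain ⟨g4, s4, hs4, hg4, e4⟩ := C.T_lift (three_tc d4)
  have hπF : C.π (g1 * g2) = F := by rw [map_mul, hg1, hg2]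
  obtain ⟨w', hw'0, hw'⟩ := C.rho_eq_smul (g := g3 * g4) (h := g1 * g2 * (g1 * g2))
    (by rw [map_mul, hg3, hg4, map_mul, hπF, hF]; exact hFF)
  set S0 := T1 * T2 with hS0
  have hS0e : S0 = (s1 * s2) • C.ρ (g1 * g2) := by
    rw [hS0, show T1 = s1 • C.ρ g1 from e1, show T2 = s2 • C.ρ g2 from e2, smul_mul_assoc,
      mul_smul_comm, smul_smul, map_mul]
  set l := s3 * s4 * w' / (s1 * s2 * (s1 * s2)) with hl
  have h34 : T3 * T4 = l • (S0 * S0) := by
    rw [show T3 = s3 • C.ρ g3 from e3, show T4 = s4 • C.ρ g4 from e4, smul_mul_assoc, mul_smul_comm,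
      smul_smul, ← map_mul, hw', smul_smul, hS0e, smul_mul_assoc, mul_smul_comm, smul_smul, smul_smul,
      ← map_mul]
    congr 1
    rw [hl]; field_simp
  have c1 : C.ρ η * T1 = T3 * C.ρ η := by
    rw [C.T_conj (three_tc d1) η, tc_conj, hη, hη, hη]; rfl
  have c2' : C.ρ η * T2 = T4 * C.ρ η := by
    rw [C.T_conj (three_tc d2) η, tc_conj, hη, hη, hη]; rfl
  have hconj : C.ρ η * S0 = l • (S0 * S0) * C.ρ η := by
    rw [← h34, hS0, ← mul_assoc, c1, mul_assoc, c2', ← mul_assoc]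
  obtain ⟨σ, hσ⟩ : ∃ σ : k, S0 * S0 * S0 * S0 * S0 = σ • 1 := by
    have h5 : C.π (g1 * g2 * (g1 * g2) * (g1 * g2) * (g1 * g2) * (g1 * g2)) = 1 := by
      simp only [map_mul _ (g1 * g2 * (g1 * g2) * (g1 * g2) * (g1 * g2)),
        map_mul _ (g1 * g2 * (g1 * g2) * (g1 * g2)), map_mul _ (g1 * g2 * (g1 * g2)),
        map_mul _ (g1 * g2) (g1 * g2), hπF]
      exact hF5
    obtain ⟨e, he⟩ := (C.scalar_iff _).mp h5
    refine ⟨(s1 * s2) * ((s1 * s2) * ((s1 * s2) * ((s1 * s2) * (s1 * s2)))) * e, ?_⟩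
    simp only [hS0e, smul_mul_assoc, mul_smul_comm, smul_smul, ← map_mul, he]
    congr 1
    ring
  have hσ0 : σ ≠ 0 := by
    intro e
    rw [e, zero_smul, hS0e] at hσ
    simp only [smul_mul_assoc, mul_smul_comm, smul_smul, ← map_mul] at hσ
    exact smul_ne_zero (by simp [hs1, hs2]) (C.rho_ne_zero _) hσ
  have h5l : σ = l * l * l * l * l * (σ * σ) := by
    have step : ∀ A B : Module.End k V, C.ρ η * A = B * C.ρ η →
        C.ρ η * (A * S0) = B * (l • (S0 * S0)) * C.ρ η := fun A B h => by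
      rw [← mul_assoc, h, mul_assoc, hconj, ← mul_assoc]
    have e5 := step _ _ (step _ _ (step _ _ (step _ _ hconj)))
    rw [hσ, mul_smul_comm, mul_one] at e5
    simp only [smul_mul_assoc, mul_smul_comm, smul_smul] at e5
    rw [show S0 * S0 * (S0 * S0) * (S0 * S0) * (S0 * S0) * (S0 * S0) =
      S0 * S0 * S0 * S0 * S0 * (S0 * S0 * S0 * S0 * S0) by simp only [mul_assoc], hσ] at e5
    simp only [smul_mul_assoc, mul_smul_comm, smul_smul, one_mul] at e5
    rw [← sub_eq_zero, ← sub_smul] at e5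
    have := (smul_eq_zero.mp e5).resolve_right (C.rho_ne_zero η)
    linear_combination this
  refine ⟨l • S0, l, g1 * g2, l * (s1 * s2), hπF, ?_, by rw [hS0e, smul_smul], rfl, ?_, ?_, ?_⟩
  · refine mul_ne_zero (fun e => hσ0 ?_) (mul_ne_zero hs1 hs2)
    rw [h5l, e]; ring
  · simp only [smul_mul_assoc, mul_smul_comm, smul_smul, hσ]
    rw [show l * (l * (l * (l * l)) * σ) = 1 from mul_right_cancel₀ hσ0 (by
      rw [one_mul]; linear_combination -h5l), one_smul]
  · simp only [smul_mul_assoc, mul_smul_comm, hconj, smul_smul]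
  · intro w hw h1 h2 h3 h4
    have := LinearMap.congr_fun h34 w
    simp only [Module.End.mul_apply, LinearMap.smul_apply, hS0, h1, h2, h3, h4] at this
    exact smul_left_injective k hw (this.symm.trans (one_smul k w).symm)

theorem five_eigs [IsAlgClosed k] (h50 : (5 : k) ≠ 0) {U : Submodule k V} {S : Module.End k V}
    {η : G} (h5 : S * S * S * S * S = 1) (hconj : C.ρ η * S = S * S * C.ρ η)
    (hSU : ∀ v ∈ U, S v ∈ U) (hηU : ∀ v ∈ U, C.ρ η v ∈ U) (hne : ¬ ∀ v ∈ U, S v = v) :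
    ∃ ζ : k, ζ * ζ * ζ * ζ * ζ = 1 ∧ ζ ≠ 1 ∧ eig U S ζ ≠ ⊥ ∧
      finrank k (eig U S (ζ * ζ * ζ)) = finrank k (eig U S ζ) ∧
      finrank k (eig U S (ζ * ζ * ζ * ζ)) = finrank k (eig U S ζ) ∧
      finrank k (eig U S (ζ * ζ)) = finrank k (eig U S ζ) := by
  have hS5 : ∀ v, S (S (S (S (S v)))) = v := fun v => by
    have := LinearMap.congr_fun h5 v; simpa using this
  let P : Module.End k V := 1 + S + S * S + S * S * S + S * S * S * S
  let X := U ⊓ LinearMap.ker P
  have hP : ∀ v, P v = v + S v + S (S v) + S (S (S v)) + S (S (S (S v))) := fun v => by simp [P]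
  have hX : X ≠ ⊥ := by
    push Not at hne
    obtain ⟨v, hv, hvne⟩ := hne
    intro h0
    have hm : S v - v ∈ X := ⟨U.sub_mem (hSU v hv) hv, by
      rw [SetLike.mem_coe, LinearMap.mem_ker, hP]
      simp only [map_sub, hS5]
      abel⟩
    rw [h0, Submodule.mem_bot, sub_eq_zero] at hm
    exact hvne hm
  have hSX : ∀ v ∈ X, S v ∈ X := by
    rintro v ⟨hv, hk⟩
    refine ⟨hSU v hv, ?_⟩
    rw [SetLike.mem_coe, LinearMap.mem_ker, hP] at hk ⊢
    have := congrArg S hk
    simp only [map_add, map_zero] at this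
    exact this
  haveI : Nontrivial X := Submodule.nontrivial_iff_ne_bot.mpr hX
  obtain ⟨ζ, hζ⟩ := Module.End.exists_eigenvalue (S.restrict hSX)
  obtain ⟨⟨v, hvX⟩, hv⟩ := hζ.exists_hasEigenvector
  have hv0 : v ≠ 0 := fun e => hv.2 (Subtype.ext e)
  have hSv : S v = ζ • v := congrArg Subtype.val hv.apply_eq_smul
  have hζ5 : ζ * ζ * ζ * ζ * ζ = 1 := by
    have := hS5 v
    simp only [hSv, map_smul, smul_smul] at this
    have := smul_left_injective k hv0 (this.trans (one_smul k v).symm)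
    linear_combination this
  have hζ1 : ζ ≠ 1 := by
    intro e
    rw [e, one_smul] at hSv
    have := hvX.2
    rw [SetLike.mem_coe, LinearMap.mem_ker, hP] at this
    simp only [hSv] at this
    have h55 : (5 : k) • v = 0 := by rw [← this]; module
    exact hv0 ((smul_eq_zero.mp h55).resolve_left h50)
  have hflip : ∀ μ : k, finrank k (eig U S μ) ≤ finrank k (eig U S (μ * μ * μ)) := by
    intro μ
    refine le_trans (le_of_eq (Submodule.equivMapOfInjective _ (rho_injective (C := C) η) _).finrank_eq) ?_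
    refine Submodule.finrank_mono ?_
    rintro _ ⟨w, hw, rfl⟩
    rw [SetLike.mem_coe, mem_eig] at hw
    rw [mem_eig]
    refine ⟨hηU w hw.1, ?_⟩
    have h := LinearMap.congr_fun hconj w
    simp only [Module.End.mul_apply, hw.2, map_smul] at h
    calc S (C.ρ η w) = S (S (S (S (S (S (C.ρ η w)))))) := by rw [hS5]
      _ = (μ * μ * μ) • C.ρ η w := by simp only [← h, map_smul, smul_smul, mul_assoc]
  have hE : eig U S ζ ≠ ⊥ := fun e => hv0 (by
    have : v ∈ eig U S ζ := mem_eig.mpr ⟨hvX.1, hSv⟩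
    rwa [e, Submodule.mem_bot] at this)
  have a1 := hflip ζ
  have a2 := hflip (ζ * ζ * ζ)
  have a3 := hflip (ζ * ζ * ζ * ζ)
  have a4 := hflip (ζ * ζ)
  rw [show ζ * ζ * ζ * (ζ * ζ * ζ) * (ζ * ζ * ζ) = ζ * ζ * ζ * ζ by
    linear_combination (ζ * ζ * ζ * ζ) * hζ5] at a2
  rw [show ζ * ζ * ζ * ζ * (ζ * ζ * ζ * ζ) * (ζ * ζ * ζ * ζ) = ζ * ζ by
    linear_combination (ζ ^ 7 + ζ ^ 2) * hζ5] at a3
  rw [show ζ * ζ * (ζ * ζ) * (ζ * ζ) = ζ by linear_combination ζ * hζ5] at a4
  exact ⟨ζ, hζ5, hζ1, hE, by omega, by omega, by omega⟩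

/-- The five eigenvalues are distinct. -/
theorem five_powers_injective {ζ : k} (h5 : ζ * ζ * ζ * ζ * ζ = 1) (h1 : ζ ≠ 1) :
    Function.Injective fun i : Fin 5 => ζ ^ (i : ℕ) := fun i j h =>
  Fin.ext (pow_injOn_Iio_orderOf (x := ζ) (by simp [five_order h5 h1, i.isLt])
    (by simp [five_order h5 h1, j.isLt]) h)

theorem small_five [IsAlgClosed k] (h50 : (5 : k) ≠ 0) (hr10 : 10 ≤ r) {a b c : Fin r}
    (hd : Distinct3 a b c) {U R : Submodule k V} (hU : C.Stab (tc a b c) U) (hRU : R ≤ U)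
    (hR : C.TrivOn (tc a b c) R) (hnt : ¬ C.TrivOn (tc a b c) U) :
    4 + finrank k R ≤ finrank k U := by
  classical
  have hcard : 5 ≤ (Finset.univ \ {a, b, c} : Finset (Fin r)).card := by
    rw [Finset.card_sdiff_of_subset (Finset.subset_univ _), Finset.card_univ, Fintype.card_fin]
    have : ({a, b, c} : Finset (Fin r)).card ≤ 3 := Finset.card_le_three
    omega
  obtain ⟨P5, hsub, hP5⟩ := Finset.exists_subset_card_eq hcard
  let q : Fin 5 → Fin r := fun i => P5.orderEmbOfFin hP5 i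
  have hq : Function.Injective q := (P5.orderEmbOfFin hP5).injective
  have hqne : ∀ i, q i ≠ a ∧ q i ≠ b ∧ q i ≠ c := fun i => by
    have := hsub (P5.orderEmbOfFin_mem hP5 i)
    simp only [Finset.mem_sdiff, Finset.mem_univ, true_and, Finset.mem_insert, Finset.mem_singleton,
      not_or] at this
    exact this
  have hinj : ∀ f : Fin 5 → Fin r, Function.Injective f → (∀ i, f i ≠ a ∧ f i ≠ b ∧ f i ≠ c) →
      Function.Injective (Fin.append f ![a, b, c]) := by
    intro f hf hfne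
    rw [Fin.append_injective_iff]
    refine ⟨hf, ?_, fun i j => ?_⟩
    · intro i j; fin_cases i <;> fin_cases j <;>
        simp [hd.ab, hd.ab.symm, hd.bc, hd.bc.symm, hd.ac, hd.ac.symm]
    · fin_cases j
      · exact (hfne i).1
      · exact (hfne i).2.1
      · exact (hfne i).2.2
  have hq2 : Function.Injective (fun i => q (2 * i)) := hq.comp (show Function.Injective fun i : Fin 5 => 2 * i by decide)
  obtain ⟨σ, hσ, hmap⟩ := exists_even_map (r := r) (m := 5 + 3) (by omega)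
    (Fin.append q ![a, b, c]) (Fin.append (fun i => q (2 * i)) ![a, b, c])
    (hinj q hq hqne) (hinj _ hq2 fun i => hqne _)
  have hσa := hmap (Fin.natAdd 5 0)
  have hσb := hmap (Fin.natAdd 5 1)
  have hσc := hmap (Fin.natAdd 5 2)
  simp only [Fin.append_right] at hσa hσb hσc
  obtain ⟨η, hη, hηe⟩ := C.exists_fix3_lift hσ hσa hσb hσc
  obtain ⟨S, l, g, s, hg, hs, hSe, hSl, h5, hconj, hl⟩ := five_setup (C := C) hq (η := η) fun i => by
    have := hmap (Fin.castAdd 3 i)
    simp only [Fin.append_left] at this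
    rw [hηe]; exact this
  have hdist : ∀ i j m : Fin 5, i ≠ j → j ≠ m → i ≠ m →
      Three (tc (q i) (q j) (q m)) ∧ (tc a b c).Disjoint (tc (q i) (q j) (q m)) :=
    fun i j m ij jm im => ⟨three_tc ⟨hq.ne ij, hq.ne jm, hq.ne im⟩,
      disjoint_tc (hqne i).1 (hqne i).2.1 (hqne i).2.2 (hqne j).1 (hqne j).2.1 (hqne j).2.2
        (hqne m).1 (hqne m).2.1 (hqne m).2.2⟩
  obtain ⟨t1, x1⟩ := hdist 0 1 2 (by decide) (by decide) (by decide)
  obtain ⟨t2, x2⟩ := hdist 2 3 4 (by decide) (by decide) (by decide)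
  obtain ⟨t3, x3⟩ := hdist 0 2 4 (by decide) (by decide) (by decide)
  obtain ⟨t4, x4⟩ := hdist 4 1 3 (by decide) (by decide) (by decide)
  have hSU : ∀ v ∈ U, S v ∈ U := fun v hv => by
    rw [hSl, LinearMap.smul_apply, Module.End.mul_apply]
    exact U.smul_mem _ (T_mem hd hU t1 x1 (T_mem hd hU t2 x2 hv))
  have hgm : g ∈ C.fix3 a b c := by
    show _ ∧ _ ∧ _
    rw [hg]
    obtain ⟨u1, u2, u3⟩ := fixes_of_disjoint hd x1
    obtain ⟨v1, v2, v3⟩ := fixes_of_disjoint hd x2
    simp [Perm.mul_apply, u1, u2, u3, v1, v2, v3]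
  have hgne : C.π g ≠ 1 := by
    rw [hg]
    intro e
    have := congrArg (fun p : Perm (Fin r) => p (q 0)) e
    simp only [Perm.mul_apply, Perm.one_apply] at this
    rw [tc_other (hq.ne (by decide)) (hq.ne (by decide)) (hq.ne (by decide)),
      tc_fst ⟨hq.ne (by decide), hq.ne (by decide), hq.ne (by decide)⟩] at this
    exact absurd (hq this) (by decide)
  have hne : ¬ ∀ v ∈ U, S v = v := fun h => hnt (trivOn_of_scalar hd hU hgm hgne (t := s⁻¹)
    fun v hv => by
      have := h v hv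
      rw [hSe, LinearMap.smul_apply] at this
      conv_rhs => rw [← this]
      rw [smul_smul, inv_mul_cancel₀ hs, one_smul])
  obtain ⟨ζ, hζ5, hζ1, hE, e3, e4, e2⟩ := five_eigs (C := C) h50 h5 hconj hSU
    (fun v hv => mem_of_fixes hd hU hη.1 hη.2.1 hη.2.2 hv) hne
  set μ := fun i : Fin 4 => ζ ^ (i.succ : ℕ) with hμ
  have hpos : ∀ i : Fin 4, eig U S (μ i) ≠ ⊥ := by
    have h1 : 1 ≤ finrank k (eig U S ζ) := Submodule.one_le_finrank_iff.mpr hE
    have key : ∀ ν : k, (ν = ζ ∨ ν = ζ * ζ ∨ ν = ζ * ζ * ζ ∨ ν = ζ * ζ * ζ * ζ) →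
        eig U S ν ≠ ⊥ := by
      rintro ν (rfl | rfl | rfl | rfl) e <;>
      · have h0 := congrArg (fun W : Submodule k V => finrank k W) e
        simp only [finrank_bot] at h0
        omega
    intro i
    refine key _ ?_
    fin_cases i <;> simp [hμ, pow_succ]
  choose w hw hw0 using fun i => Submodule.exists_mem_ne_zero_of_ne_bot (hpos i)
  have hli : LinearIndependent k w :=
    Module.End.eigenvectors_linearIndependent' S μ ((five_powers_injective hζ5 hζ1).comp (Fin.succ_injective 4)) w fun i =>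
      ⟨Module.End.mem_eigenspace_iff.mpr (mem_eig.mp (hw i)).2, hw0 i⟩
  set Y := Submodule.span k (Set.range w) with hY
  let P : Module.End k V := 1 + S + S * S + S * S * S + S * S * S * S
  have hYP : ∀ y ∈ Y, P y = 0 := by
    intro y hy
    refine Submodule.span_le.mpr (?_ : Set.range w ⊆ LinearMap.ker P) hy
    rintro _ ⟨i, rfl⟩
    have hmi := (mem_eig.mp (hw i)).2
    have hz5 : ζ ^ 5 = 1 := by rw [← five_order hζ5 hζ1, pow_orderOf_eq_one]
    have hm5 : μ i * μ i * μ i * μ i * μ i = 1 := by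
      calc μ i * μ i * μ i * μ i * μ i = (μ i) ^ 5 := by ring
        _ = 1 := by rw [hμ]; simp only; rw [← pow_mul, mul_comm, pow_mul, hz5, one_pow]
    have hm1 : μ i ≠ 1 := fun e => Fin.succ_ne_zero i
      (five_powers_injective hζ5 hζ1 (by simpa [hμ] using e))
    rw [SetLike.mem_coe, LinearMap.mem_ker]
    simp only [P, LinearMap.add_apply, Module.End.mul_apply, Module.End.one_apply, hmi, map_smul,
      smul_smul]
    have := five_sum_eq_zero hm5 hm1
    match_scalars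
    linear_combination this
  have hYU : Y ≤ U := Submodule.span_le.mpr (by rintro _ ⟨i, rfl⟩; exact (mem_eig.mp (hw i)).1)
  have hYR : Y ⊓ R = ⊥ := by
    refine (Submodule.eq_bot_iff _).mpr fun y hy => ?_
    obtain ⟨hyY, hyR⟩ := Submodule.mem_inf.mp hy
    by_contra hy0
    have h1 := hR _ t1 x1 y hyR
    have h2 := hR _ t2 x2 y hyR
    have hl1 := hl y hy0 h1 h2 (hR _ t3 x3 y hyR) (hR _ t4 x4 y hyR)
    have hSy : S y = y := by
      rw [hSl, hl1, one_smul, Module.End.mul_apply, h2, h1]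
    have := hYP y hyY
    simp only [P, LinearMap.add_apply, Module.End.mul_apply, Module.End.one_apply, hSy] at this
    have h55 : (5 : k) • y = 0 := by rw [← this]; module
    exact hy0 ((smul_eq_zero.mp h55).resolve_left h50)
  have hdim := Submodule.finrank_sup_add_finrank_inf_eq Y R
  rw [hYR, finrank_bot, add_zero, hY, finrank_span_eq_card hli, Fintype.card_fin, ← hY] at hdim
  have := Submodule.finrank_mono (sup_le hYU hRU)
  omega

set_option maxHeartbeats 1600000 in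
theorem nine_case [IsAlgClosed k] (h30 : (3 : k) = 0) (hr9 : r = 9) {a b c : Fin r}
    (hd : Distinct3 a b c) (hN : (C.T (tc a b c) - 1) * (C.T (tc a b c) - 1) ≠ 0) :
    7 ≤ finrank k V := by
  classical
  by_contra hlt
  rw [not_le] at hlt
  have h50 : (5 : k) ≠ 0 := fun e => one_ne_zero (α := k) (by linear_combination (2 : k) * h30 - e)
  have hcard : 5 ≤ (Finset.univ \ {a, b, c} : Finset (Fin r)).card := by
    rw [Finset.card_sdiff_of_subset (Finset.subset_univ _), Finset.card_univ, Fintype.card_fin]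
    have : ({a, b, c} : Finset (Fin r)).card ≤ 3 := Finset.card_le_three
    omega
  obtain ⟨P5, hsub, hP5⟩ := Finset.exists_subset_card_eq hcard
  let q : Fin 5 → Fin r := fun i => P5.orderEmbOfFin hP5 i
  have hq : Function.Injective q := (P5.orderEmbOfFin hP5).injective
  have hqne : ∀ i, q i ≠ a ∧ q i ≠ b ∧ q i ≠ c := fun i => by
    have := hsub (P5.orderEmbOfFin_mem hP5 i)
    simp only [Finset.mem_sdiff, Finset.mem_univ, true_and, Finset.mem_insert, Finset.mem_singleton,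
      not_or] at this
    exact this
  have hq2 : Function.Injective (fun i => q (2 * i)) := hq.comp (show Function.Injective fun i : Fin 5 => 2 * i by decide)
  obtain ⟨σ, hσ, hmap⟩ := exists_even_map (r := r) (m := 5) (by omega) q (fun i => q (2 * i)) hq hq2
  obtain ⟨η, hηe⟩ := C.π_surj σ hσ
  obtain ⟨S, l, g, s, hg, hs, hSe, hSl, h5, hconj, -⟩ := five_setup (C := C) hq (η := η)
    fun i => by rw [hηe]; exact hmap i
  have d1 : Distinct3 (q 0) (q 1) (q 2) := ⟨hq.ne (by decide), hq.ne (by decide), hq.ne (by decide)⟩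
  have d2 : Distinct3 (q 2) (q 3) (q 4) := ⟨hq.ne (by decide), hq.ne (by decide), hq.ne (by decide)⟩
  have x1 : (tc a b c).Disjoint (tc (q 0) (q 1) (q 2)) :=
    disjoint_tc (hqne 0).1 (hqne 0).2.1 (hqne 0).2.2 (hqne 1).1 (hqne 1).2.1 (hqne 1).2.2
      (hqne 2).1 (hqne 2).2.1 (hqne 2).2.2
  have x2 : (tc a b c).Disjoint (tc (q 2) (q 3) (q 4)) :=
    disjoint_tc (hqne 2).1 (hqne 2).2.1 (hqne 2).2.2 (hqne 3).1 (hqne 3).2.1 (hqne 3).2.2
      (hqne 4).1 (hqne 4).2.1 (hqne 4).2.2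
  have hST : ∀ v, C.T (tc a b c) (S v) = S (C.T (tc a b c) v) := by
    intro v
    have hc : Commute (C.T (tc a b c)) S := by
      rw [hSl]
      exact ((C.T_commute (three_tc hd) (three_tc d1) x1.commute).mul_right
        (C.T_commute (three_tc hd) (three_tc d2) x2.commute)).smul_right l
    exact LinearMap.congr_fun hc.eq v
  have hne : ¬ ∀ v ∈ (⊤ : Submodule k V), S v = v := by
    intro h
    have h1 : C.π g = 1 := (C.scalar_iff g).mpr ⟨s⁻¹, LinearMap.ext fun v => by
      have := h v Submodule.mem_top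
      rw [hSe, LinearMap.smul_apply] at this
      rw [LinearMap.smul_apply, Module.End.one_apply]
      conv_rhs => rw [← this]
      rw [smul_smul, inv_mul_cancel₀ hs, one_smul]⟩
    rw [hg] at h1
    have := congrArg (fun p : Perm (Fin r) => p (q 0)) h1
    simp only [Perm.mul_apply, Perm.one_apply] at this
    rw [tc_other (hq.ne (by decide)) (hq.ne (by decide)) (hq.ne (by decide)), tc_fst d1] at this
    exact absurd (hq this) (by decide)
  obtain ⟨ζ, hζ5, hζ1, hE, e3, e4, e2⟩ := five_eigs (C := C) h50 h5 hconj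
    (fun v _ => Submodule.mem_top) (fun v _ => Submodule.mem_top) hne
  set E := fun μ => eig (⊤ : Submodule k V) S μ with hEdef
  set ν := fun i : Fin 5 => ζ ^ (i : ℕ) with hν
  have hνinj : Function.Injective ν := five_powers_injective hζ5 hζ1
  have hind : iSupIndep fun i => E (ν i) :=
    ((Module.End.eigenspaces_iSupIndep S).comp hνinj).mono fun i v hv =>
      Module.End.mem_eigenspace_iff.mpr (mem_eig.mp hv).2
  have hdisj : ∀ (i : Fin 5) (s' : Finset (Fin 5)), i ∉ s' → E (ν i) ⊓ s'.sup (fun j => E (ν j)) = ⊥ := by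
    intro i s' hi
    rw [← disjoint_iff, Finset.sup_eq_iSup]
    exact hind.disjoint_biSup (y := (s' : Set (Fin 5))) hi
  have hsum : ∑ i, finrank k (E (ν i)) ≤ finrank k V := by
    suffices h : ∀ s' : Finset (Fin 5), ∑ i ∈ s', finrank k (E (ν i)) ≤
        finrank k (s'.sup fun j => E (ν j) : Submodule k V) from
      (h Finset.univ).trans (Submodule.finrank_le _)
    intro s'
    induction s' using Finset.induction_on with
    | empty => simp
    | insert i s' hi ih =>
      rw [Finset.sum_insert hi, Finset.sup_insert]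
      have := Submodule.finrank_sup_add_finrank_inf_eq (E (ν i)) (s'.sup fun j => E (ν j))
      rw [hdisj i s' hi, finrank_bot, add_zero] at this
      omega
  have h1 : 1 ≤ finrank k (E ζ) := Submodule.one_le_finrank_iff.mpr hE
  rw [Fin.sum_univ_five, show ν 0 = 1 by simp [hν], show ν 1 = ζ by simp [hν],
    show ν 2 = ζ * ζ by simp [hν]; ring, show ν 3 = ζ * ζ * ζ by simp [hν]; ring,
    show ν 4 = ζ * ζ * ζ * ζ by simp [hν]; ring] at hsum
  change finrank k (E (ζ * ζ * ζ)) = finrank k (E ζ) at e3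
  change finrank k (E (ζ * ζ * ζ * ζ)) = finrank k (E ζ) at e4
  change finrank k (E (ζ * ζ)) = finrank k (E ζ) at e2
  set T := C.T (tc a b c) with hT
  have hTE : ∀ μ, ∀ v ∈ E μ, T v ∈ E μ := by
    intro μ v hv
    rw [hEdef, mem_eig] at hv ⊢
    exact ⟨Submodule.mem_top, by rw [← hST, hv.2, map_smul]⟩
  have hT3 : ∀ v, T (T (T v)) = v := fun v => by
    have := LinearMap.congr_fun (C.T_cube (three_tc hd)) v; simpa using this
  have hTone : ∀ μ, finrank k (E μ) ≤ 1 → ∀ v ∈ E μ, T v = v := by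
    intro μ hμ v hv
    by_cases hv0 : v = 0
    · rw [hv0, map_zero]
    obtain ⟨t, ht⟩ := eq_smul_of_finrank_le_one hμ hv hv0 (hTE μ v hv)
    have h := hT3 v
    simp only [ht, map_smul, smul_smul] at h
    have htt : t * t * t = 1 := smul_left_injective k hv0 (h.trans (one_smul k v).symm)
    have : (t - 1) ^ 3 = 0 := by linear_combination htt + (t - t * t) * h30
    rw [ht, sub_eq_zero.mp (pow_eq_zero_iff (n := 3) (by norm_num) |>.mp this), one_smul]
  apply hN
  refine LinearMap.ext fun v => ?_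
  rw [Module.End.mul_apply, LinearMap.zero_apply]
  set Q : k → V := fun μ => (5 : k)⁻¹ • (v + μ • S v + (μ * μ) • S (S v) + (μ * μ * μ) • S (S (S v)) +
    (μ * μ * μ * μ) • S (S (S (S v)))) with hQ
  have hS5 : ∀ v, S (S (S (S (S v)))) = v := fun v => by
    have := LinearMap.congr_fun h5 v; simpa using this
  have hQE : ∀ μ : k, μ * μ * μ * μ * μ = 1 → Q μ ∈ E (μ * μ * μ * μ) := by
    intro μ hμ
    rw [hEdef, mem_eig]
    refine ⟨Submodule.mem_top, ?_⟩
    simp only [hQ, map_smul, map_add, hS5]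
    match_scalars <;>
      first
        | ring1
        | linear_combination (-(5 : k)⁻¹) * hμ
        | linear_combination (-(5 : k)⁻¹ * μ) * hμ
        | linear_combination (-(5 : k)⁻¹ * (μ * μ)) * hμ
        | linear_combination (-(5 : k)⁻¹ * (μ * μ * μ)) * hμ
  have hz := five_sum_eq_zero hζ5 hζ1
  have hp2 : ζ * ζ * (ζ * ζ) * (ζ * ζ) * (ζ * ζ) * (ζ * ζ) = 1 := by linear_combination (ζ ^ 5 + 1) * hζ5
  have hp3 : ζ * ζ * ζ * (ζ * ζ * ζ) * (ζ * ζ * ζ) * (ζ * ζ * ζ) * (ζ * ζ * ζ) = 1 := by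
    linear_combination (ζ ^ 10 + ζ ^ 5 + 1) * hζ5
  have hp4 : ζ * ζ * ζ * ζ * (ζ * ζ * ζ * ζ) * (ζ * ζ * ζ * ζ) * (ζ * ζ * ζ * ζ) * (ζ * ζ * ζ * ζ) = 1 := by
    linear_combination (ζ ^ 15 + ζ ^ 10 + ζ ^ 5 + 1) * hζ5
  have hv : v = Q 1 + Q ζ + Q (ζ * ζ) + Q (ζ * ζ * ζ) + Q (ζ * ζ * ζ * ζ) := by
    simp only [hQ]
    match_scalars
    · field_simp; norm_num
    · linear_combination (-(5 : k)⁻¹) * hz
    · linear_combination (-(5 : k)⁻¹) * hz - (5 : k)⁻¹ * (ζ + ζ ^ 3) * hζ5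
    · linear_combination (-(5 : k)⁻¹) * hz - (5 : k)⁻¹ * (ζ + ζ ^ 7 + ζ ^ 2 + ζ ^ 4) * hζ5
    · linear_combination (-(5 : k)⁻¹) * hz - (5 : k)⁻¹ * (ζ ^ 3 + ζ ^ 7 + ζ ^ 2 + ζ ^ 11 + ζ ^ 6 + ζ) * hζ5
  have a2 := hQE ζ hζ5
  have a3 := hQE (ζ * ζ) hp2
  have a4 := hQE (ζ * ζ * ζ) hp3
  have a5 := hQE (ζ * ζ * ζ * ζ) hp4
  rw [show ζ * ζ * (ζ * ζ) * (ζ * ζ) * (ζ * ζ) = ζ * ζ * ζ by
    linear_combination (ζ ^ 3) * hζ5] at a3
  rw [show ζ * ζ * ζ * (ζ * ζ * ζ) * (ζ * ζ * ζ) * (ζ * ζ * ζ) = ζ * ζ by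
    linear_combination (ζ ^ 7 + ζ ^ 2) * hζ5] at a4
  rw [show ζ * ζ * ζ * ζ * (ζ * ζ * ζ * ζ) * (ζ * ζ * ζ * ζ) * (ζ * ζ * ζ * ζ) = ζ by
    linear_combination (ζ ^ 11 + ζ ^ 6 + ζ) * hζ5] at a5
  -- the fixed space
  have hF : ∀ w ∈ E 1, (T - 1) ((T - 1) w) = 0 := by
    intro w hw
    set N := T - 1 with hN'
    have hNm : ∀ w ∈ E 1, N w ∈ E 1 := fun w hw => by
      rw [hN', LinearMap.sub_apply, Module.End.one_apply]
      exact (E 1).sub_mem (hTE 1 w hw) hw
    have hN3 : ∀ w, N (N (N w)) = 0 := fun w => by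
      simp only [hN', LinearMap.sub_apply, Module.End.one_apply, map_sub, hT3]
      have e30 : ∀ x : V, (3 : k) • x = 0 := fun x => by rw [h30, zero_smul]
      rw [← e30 (T w - T (T w))]
      module
    by_contra h2
    have hli : LinearIndependent k ![N (N w), N w, w] := by
      rw [Fintype.linearIndependent_iff]
      intro co hco
      simp only [Fin.sum_univ_three, Matrix.cons_val_zero, Matrix.cons_val_one, Matrix.cons_val] at hco
      have e1' := congrArg (fun z => N (N z)) hco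
      simp only [map_add, map_smul, hN3, map_zero, smul_zero, zero_add] at e1'
      have c2' : co 2 = 0 := (smul_eq_zero.mp e1').resolve_right h2
      rw [c2', zero_smul, add_zero] at hco
      have e2' := congrArg N hco
      simp only [map_add, map_smul, hN3, map_zero, smul_zero, zero_add] at e2'
      have c1' : co 1 = 0 := (smul_eq_zero.mp e2').resolve_right h2
      rw [c1', zero_smul, add_zero] at hco
      intro i
      fin_cases i
      · exact (smul_eq_zero.mp hco).resolve_right h2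
      · exact c1'
      · exact c2'
    have := Submodule.finrank_mono (show Submodule.span k (Set.range ![N (N w), N w, w]) ≤ E 1 by
      rw [Submodule.span_le]
      rintro _ ⟨i, rfl⟩
      fin_cases i
      · exact hNm _ (hNm _ hw)
      · exact hNm _ hw
      · exact hw)
    rw [finrank_span_eq_card hli, Fintype.card_fin] at this
    omega
  have hz0 : ∀ μ, finrank k (E μ) ≤ 1 → ∀ w ∈ E μ, (T - 1) w = 0 := fun μ h w hw => by
    rw [LinearMap.sub_apply, Module.End.one_apply, hTone μ h w hw, sub_self]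
  have a1 := hQE 1 (by ring)
  simp only [mul_one] at a1
  rw [hv]
  simp only [map_add, hz0 _ (by omega) _ a2, hz0 _ (by omega) _ a3, hz0 _ (by omega) _ a4,
    hz0 _ (by omega) _ a5, map_zero, add_zero, hF _ a1]

end Ctx

end Cfsg.Agent.AltSection
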