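import Cfsg.Agent.AltSection.Perms

/-!
Irreducible projective representations of alternating groups: canonical lifts of three-cycles.
-/

set_option autoImplicit false
set_option linter.unusedSectionVars false

namespace Cfsg.Agent.AltSection

open Equiv Module

/-- An irreducible projective representation of the alternating group on `Fin r`, given by a
central extension. -/
structure Ctx (r : ℕ) (k V G : Type) [Field k] [AddCommGroup V] [Module k V] [Group G] where
  ρ : G →* Module.End k V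
  π : G →* Perm (Fin r)
  hr : 9 ≤ r
  π_even : ∀ g, Perm.sign (π g) = 1
  π_surj : ∀ s, Perm.sign s = 1 → ∃ g, π g = s
  scalar_iff : ∀ g, π g = 1 ↔ ∃ c : k, ρ g = c • (1 : Module.End k V)
  irred : ∀ W : Submodule k V, (∀ g, ∀ v ∈ W, ρ g v ∈ W) → W = ⊥ ∨ W = ⊤
  two_le : 2 ≤ finrank k V

variable {r : ℕ} {k V G : Type} [Field k] [AddCommGroup V] [Module k V] [FiniteDimensional k V]
  [Group G] [Finite G]

namespace Ctx

variable (C : Ctx r k V G)

include C in
theorem nontrivial : Nontrivial V :=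
  Module.nontrivial_of_finrank_pos (Nat.lt_of_lt_of_le two_pos C.two_le)

theorem rho_mul_inv (g : G) : C.ρ g * C.ρ g⁻¹ = 1 := by rw [← map_mul, mul_inv_cancel, map_one]

theorem rho_inv_mul (g : G) : C.ρ g⁻¹ * C.ρ g = 1 := by rw [← map_mul, inv_mul_cancel, map_one]

theorem rho_ne_zero (g : G) : C.ρ g ≠ 0 := by
  intro h
  haveI := C.nontrivial
  have := C.rho_mul_inv g
  rw [h, zero_mul] at this
  exact zero_ne_one this

theorem smul_cancel {a b : k} {g : G} (h : a • C.ρ g = b • C.ρ g) : a = b := by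
  rw [← sub_eq_zero, ← sub_smul] at h
  exact sub_eq_zero.mp ((smul_eq_zero.mp h).resolve_right (C.rho_ne_zero g))

/-- Elements with the same image differ by a scalar. -/
theorem rho_eq_smul {g h : G} (e : C.π g = C.π h) : ∃ c : k, c ≠ 0 ∧ C.ρ g = c • C.ρ h := by
  obtain ⟨c, hc⟩ := (C.scalar_iff (g * h⁻¹)).mp (by rw [map_mul, map_inv, e, mul_inv_cancel])
  have hg : C.ρ g = c • C.ρ h := by
    rw [show g = g * h⁻¹ * h by group, map_mul, hc, smul_mul_assoc, one_mul]
  refine ⟨c, fun h0 => C.rho_ne_zero g ?_, hg⟩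
  rw [hg, h0, zero_smul]

theorem exists_comm_scalar (g h : G) (e : Commute (C.π g) (C.π h)) :
    ∃ c : k, C.ρ g * C.ρ h = c • (C.ρ h * C.ρ g) := by
  obtain ⟨c, -, hc⟩ := C.rho_eq_smul (g := g * h) (h := h * g) (by rw [map_mul, map_mul]; exact e)
  exact ⟨c, by rw [← map_mul, ← map_mul, hc]⟩

/-- A lift of an element fixing `a, b, c` commutes with a lift of `tc a b c`. -/
theorem commute_of_fix {a b c : Fin r} (hd : Distinct3 a b c) {g h : G} (hg : C.π g = tc a b c)
    (ha : C.π h a = a) (hb : C.π h b = b) (hc : C.π h c = c) : Commute (C.ρ g) (C.ρ h) := by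
  classical
  set s : Finset (Fin r) := Finset.univ \ {a, b, c} with hs
  have hcomm : ∀ z : alternatingGroup {x // x ∈ s}, ∀ h' : G,
      C.π h' = Perm.ofSubtype z.1 → Commute (C.π g) (C.π h') := by
    intro z h' e
    rw [hg, e]
    have hfix : ∀ t, t ∉ s → Perm.ofSubtype z.1 t = t := fun t ht =>
      Perm.ofSubtype_apply_of_not_mem z.1 ht
    have := tc_conj (Perm.ofSubtype z.1) a b c
    rw [hfix a (by simp [hs]), hfix b (by simp [hs]), hfix c (by simp [hs]), mul_inv_eq_iff_eq_mul]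
      at this
    exact this.symm
  have key : ∀ z : alternatingGroup {x // x ∈ s}, ∃ t : k, ∀ h' : G,
      C.π h' = Perm.ofSubtype z.1 → C.ρ g * C.ρ h' = t • (C.ρ h' * C.ρ g) := by
    intro z
    obtain ⟨h₀, h0⟩ := C.π_surj (Perm.ofSubtype z.1)
      (by rw [Perm.sign_ofSubtype]; exact Equiv.Perm.mem_alternatingGroup.mp z.2)
    obtain ⟨t, ht⟩ := C.exists_comm_scalar g h₀ (hcomm z h₀ h0)
    refine ⟨t, fun h' e => ?_⟩
    obtain ⟨u, -, hu⟩ := C.rho_eq_smul (e.trans h0.symm)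
    rw [hu, mul_smul_comm, ht, smul_mul_assoc, smul_comm]
  have huniq : ∀ z : alternatingGroup {x // x ∈ s}, ∀ h' : G, C.π h' = Perm.ofSubtype z.1 → ∀ t,
      C.ρ g * C.ρ h' = t • (C.ρ h' * C.ρ g) → t = (key z).choose := by
    intro z h' e t ht
    rw [(key z).choose_spec h' e, ← map_mul] at ht
    exact (C.smul_cancel ht).symm
  let ψ : alternatingGroup {x // x ∈ s} →* k :=
    { toFun := fun z => (key z).choose
      map_one' := (huniq 1 1 (by simp) 1 (by simp)).symm
      map_mul' := fun z z' => by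
        obtain ⟨h₁, h1⟩ := C.π_surj (Perm.ofSubtype z.1)
          (by rw [Perm.sign_ofSubtype]; exact Equiv.Perm.mem_alternatingGroup.mp z.2)
        obtain ⟨h₂, h2⟩ := C.π_surj (Perm.ofSubtype z'.1)
          (by rw [Perm.sign_ofSubtype]; exact Equiv.Perm.mem_alternatingGroup.mp z'.2)
        refine (huniq (z * z') (h₁ * h₂) (by rw [map_mul, h1, h2, ← map_mul]; rfl) _ ?_).symm
        rw [map_mul, ← mul_assoc, (key z).choose_spec h₁ h1, smul_mul_assoc, mul_assoc,
          (key z').choose_spec h₂ h2, mul_smul_comm, smul_smul, mul_assoc] }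
  have hcard : 5 ≤ Nat.card {x // x ∈ s} := by
    rw [Nat.card_eq_fintype_card, Fintype.card_coe, hs,
      Finset.card_sdiff_of_subset (Finset.subset_univ _), Finset.card_univ, Fintype.card_fin]
    have := C.hr
    have h3 : ({a, b, c} : Finset (Fin r)).card ≤ 3 := Finset.card_le_three
    omega
  have hperf : commutator (alternatingGroup {x // x ∈ s}) = ⊤ := by
    haveI := alternatingGroup.isSimpleGroup hcard
    refine ((inferInstance : (commutator (alternatingGroup {x // x ∈ s})).Normal).eq_bot_or_eq_top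
      ).resolve_left fun hbot => ?_
    rw [commutator_eq_bot_iff_center_eq_top, alternatingGroup.center_eq_bot (by omega)] at hbot
    exact bot_ne_top hbot
  have hψ : ∀ z, ψ z = 1 := by
    intro z
    have : z ∈ MonoidHom.ker ψ.toHomUnits := by
      apply Abelianization.commutator_subset_ker ψ.toHomUnits
      rw [hperf]; trivial
    have := congrArg Units.val (MonoidHom.mem_ker.mp this)
    simpa using this
  have hsupp : ∀ x, C.π h x ≠ x → x ∈ s := by
    intro x hx
    simp only [hs, Finset.mem_sdiff, Finset.mem_univ, true_and, Finset.mem_insert,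
      Finset.mem_singleton, not_or]
    exact ⟨fun e => hx (by rw [e, ha]), fun e => hx (by rw [e, hb]), fun e => hx (by rw [e, hc])⟩
  have hmemS : ∀ x, C.π h x ∈ s ↔ x ∈ s := by
    intro x
    by_cases hx : C.π h x = x
    · rw [hx]
    · exact iff_of_true (hsupp _ fun e => hx ((C.π h).injective e)) (hsupp x hx)
  have e : C.π h = Perm.ofSubtype (Perm.subtypePerm (C.π h) hmemS) :=
    (Perm.ofSubtype_subtypePerm hmemS hsupp).symm
  set z : alternatingGroup {x // x ∈ s} := ⟨Perm.subtypePerm (C.π h) hmemS,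
    Equiv.Perm.mem_alternatingGroup.mpr
      (by rw [← Perm.sign_ofSubtype, ← e]; exact C.π_even h)⟩ with hz
  have := (key z).choose_spec h e
  rw [show (key z).choose = 1 from hψ z, one_smul] at this
  exact this

/-- A lift of an element centralizing a three-cycle commutes with its lifts. -/
theorem commute_of_commute {x : Perm (Fin r)} (hx : Three x) {g h : G} (hg : C.π g = x)
    (hcm : Commute (C.π h) x) : Commute (C.ρ g) (C.ρ h) := by
  obtain ⟨a, b, c, hd, rfl⟩ := hx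
  have e : ∀ t, C.π h (tc a b c t) = tc a b c (C.π h t) := fun t =>
    congrArg (fun f : Perm (Fin r) => f t) hcm.eq
  have hb' : C.π h b = tc a b c (C.π h a) := by rw [← e, tc_fst hd]
  have hc' : C.π h c = tc a b c (C.π h b) := by rw [← e, tc_snd hd]
  have hsplit : ∀ i : ℕ, C.π h a = (tc a b c ^ i) a → Commute (C.ρ g) (C.ρ h) := by
    intro i hi
    have hfa : C.π ((g ^ i)⁻¹ * h) a = a := by
      rw [map_mul, map_inv, map_pow, hg, Perm.mul_apply, hi, Perm.inv_eq_iff_eq]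
    have hcm' : Commute (C.π ((g ^ i)⁻¹ * h)) (tc a b c) := by
      rw [map_mul, map_inv, map_pow, hg]
      exact ((Commute.refl (tc a b c)).pow_left i).inv_left.mul_left hcm
    have e' : ∀ t, C.π ((g ^ i)⁻¹ * h) (tc a b c t) = tc a b c (C.π ((g ^ i)⁻¹ * h) t) := fun t =>
      congrArg (fun f : Perm (Fin r) => f t) hcm'.eq
    have hfb : C.π ((g ^ i)⁻¹ * h) b = b := by
      have := e' a; rwa [tc_fst hd, hfa, tc_fst hd] at this
    have hfc : C.π ((g ^ i)⁻¹ * h) c = c := by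
      have := e' b; rwa [tc_snd hd, hfb, tc_snd hd] at this
    have h1 := C.commute_of_fix hd hg hfa hfb hfc
    have h2 : Commute (C.ρ g) (C.ρ (g ^ i)) := by
      rw [map_pow]; exact (Commute.refl _).pow_right i
    have h3 := h2.mul_right h1
    rwa [← map_mul, mul_inv_cancel_left] at h3
  by_cases h1 : C.π h a = a
  · exact hsplit 0 (by simpa using h1)
  by_cases h2 : C.π h a = b
  · exact hsplit 1 (by simpa [tc_fst hd] using h2)
  by_cases h3 : C.π h a = c
  · exact hsplit 2 (by rw [pow_two, Perm.mul_apply, tc_fst hd, tc_snd hd]; exact h3)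
  exfalso
  rw [tc_other h1 h2 h3] at hb'
  exact hd.ab ((C.π h).injective hb'.symm)

theorem exists_inverter {x : Perm (Fin r)} (hx : Three x) :
    ∃ h, C.π h * x * (C.π h)⁻¹ = x⁻¹ := by
  obtain ⟨a, b, c, hd, rfl⟩ := hx
  obtain ⟨s, hs, hmap⟩ := exists_even_map (m := 3) (by have := C.hr; omega) ![a, b, c] ![c, b, a]
    (by intro i j; fin_cases i <;> fin_cases j <;> simp [hd.ab, hd.bc, hd.ac, hd.ab.symm, hd.bc.symm, hd.ac.symm])
    (by intro i j; fin_cases i <;> fin_cases j <;> simp [hd.ab, hd.bc, hd.ac, hd.ab.symm, hd.bc.symm, hd.ac.symm])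
  obtain ⟨h, rfl⟩ := C.π_surj s hs
  refine ⟨h, ?_⟩
  rw [tc_conj, tc_inv]
  have h0 := hmap 0
  have h1 := hmap 1
  have h2 := hmap 2
  simp at h0 h1 h2
  rw [h0, h1, h2]

/-- The canonical lift of a three-cycle. -/
def IsNorm (x : Perm (Fin r)) (T : Module.End k V) : Prop :=
  (∃ g, ∃ s : k, C.π g = x ∧ T = s • C.ρ g) ∧ T * T * T = 1 ∧
    ∀ h, C.π h * x * (C.π h)⁻¹ = x⁻¹ → C.ρ h * T = T * T * C.ρ h

theorem exists_norm {x : Perm (Fin r)} (hx : Three x) : ∃ T, C.IsNorm x T := by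
  obtain ⟨g, hg⟩ := C.π_surj x (by obtain ⟨a, b, c, hd, rfl⟩ := hx; exact sign_tc hd)
  obtain ⟨h, hh⟩ := C.exists_inverter hx
  obtain ⟨μ, hμ⟩ := (C.scalar_iff (g * g * g)).mp (by rw [map_mul, map_mul, hg]; exact hx.cube)
  have hμ0 : μ ≠ 0 := by
    intro e
    have := C.rho_ne_zero (g * g * g)
    rw [hμ, e, zero_smul] at this
    exact this rfl
  obtain ⟨l, hl0, hl⟩ := C.rho_eq_smul (g := h * g * h⁻¹) (h := g⁻¹)
    (by rw [map_mul, map_mul, map_inv, map_inv, hg, hh])
  have hg3 : C.ρ g * C.ρ g * C.ρ g = μ • 1 := by rw [← map_mul, ← map_mul, hμ]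
  have hginv : C.ρ g⁻¹ = μ⁻¹ • (C.ρ g * C.ρ g) := by
    have : C.ρ g * C.ρ g * C.ρ g * C.ρ g⁻¹ = μ • C.ρ g⁻¹ := by rw [hg3, smul_mul_assoc, one_mul]
    rw [mul_assoc (C.ρ g * C.ρ g), C.rho_mul_inv, mul_one] at this
    rw [this, smul_smul, inv_mul_cancel₀ hμ0, one_smul]
  have hconj : C.ρ h * C.ρ g = (l * μ⁻¹) • (C.ρ g * C.ρ g * C.ρ h) := by
    have : C.ρ (h * g * h⁻¹) * C.ρ h = C.ρ h * C.ρ g := by
      rw [← map_mul, inv_mul_cancel_right, map_mul]
    rw [← this, hl, hginv, smul_smul, smul_mul_assoc]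
  have hmul : μ * μ = l * l * l := by
    haveI := C.nontrivial
    have e1 : C.ρ (h * g * h⁻¹) * C.ρ (h * g * h⁻¹) * C.ρ (h * g * h⁻¹) = μ • 1 := by
      rw [← map_mul, ← map_mul,
        show h * g * h⁻¹ * (h * g * h⁻¹) * (h * g * h⁻¹) = h * (g * g * g) * h⁻¹ by group,
        map_mul, map_mul, hμ, mul_smul_comm, mul_one, smul_mul_assoc, C.rho_mul_inv]
    rw [hl] at e1
    have hinv3 : C.ρ g⁻¹ * C.ρ g⁻¹ * C.ρ g⁻¹ = μ⁻¹ • 1 := by
      have : C.ρ (g⁻¹ * g⁻¹ * g⁻¹) * C.ρ (g * g * g) = 1 := by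
        rw [← map_mul, show g⁻¹ * g⁻¹ * g⁻¹ * (g * g * g) = 1 by group, map_one]
      rw [hμ, mul_smul_comm, mul_one] at this
      rw [← map_mul, ← map_mul, ← this, smul_smul, inv_mul_cancel₀ hμ0, one_smul]
    simp only [smul_mul_assoc, mul_smul_comm, smul_smul, hinv3] at e1
    have h5 : l * (l * l * μ⁻¹) = μ := by
      have := congrArg (fun f : Module.End k V => f) e1
      obtain ⟨v, hv⟩ := exists_ne (0 : V)
      have h6 := LinearMap.congr_fun e1 v
      simp only [LinearMap.smul_apply, Module.End.one_apply] at h6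
      exact smul_left_injective k hv h6
    field_simp at h5
    linear_combination -h5
  refine ⟨(l / μ) • C.ρ g, ⟨g, _, hg, rfl⟩, ?_, fun h' hh' => ?_⟩
  · simp only [smul_mul_assoc, mul_smul_comm, smul_smul, hg3]
    rw [show l / μ * (l / μ * (l / μ) * μ) = 1 by field_simp; linear_combination -hmul, one_smul]
  · have hc : Commute (C.π (h⁻¹ * h')) x := by
      have e1 : x⁻¹ * C.π h = C.π h * x := by rw [← hh, inv_mul_cancel_right]
      have e2 : x⁻¹ * C.π h' = C.π h' * x := by rw [← hh', inv_mul_cancel_right]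
      show _ = _
      rw [map_mul, map_inv, mul_assoc, ← e2, ← mul_assoc, ← mul_assoc]
      congr 1
      rw [inv_mul_eq_iff_eq_mul, ← mul_assoc, ← e1, mul_assoc, mul_inv_cancel, mul_one]
    have hcomm := C.commute_of_commute hx hg hc
    have hh'' : C.ρ h' = C.ρ h * C.ρ (h⁻¹ * h') := by rw [← map_mul, mul_inv_cancel_left]
    have : C.ρ h' * C.ρ g = (l * μ⁻¹) • (C.ρ g * C.ρ g * C.ρ h') := by
      rw [hh'', mul_assoc, ← hcomm.eq, ← mul_assoc, hconj, smul_mul_assoc, mul_assoc]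
    simp only [smul_mul_assoc, mul_smul_comm, this, smul_smul, div_eq_mul_inv]

/-- The canonical lift. -/
noncomputable def T (x : Perm (Fin r)) : Module.End k V := Classical.epsilon (C.IsNorm x)

theorem T_spec {x : Perm (Fin r)} (hx : Three x) : C.IsNorm x (C.T x) :=
  Classical.epsilon_spec (C.exists_norm hx)

theorem norm_unique {x : Perm (Fin r)} (hx : Three x) {T T' : Module.End k V}
    (h : C.IsNorm x T) (h' : C.IsNorm x T') : T = T' := by
  haveI := C.nontrivial
  obtain ⟨⟨g, s, hg, rfl⟩, h3, hi⟩ := h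
  obtain ⟨⟨g', s', hg', rfl⟩, h3', hi'⟩ := h'
  obtain ⟨u, hu0, hu⟩ := C.rho_eq_smul (hg'.trans hg.symm)
  rw [hu, smul_smul] at h3' hi' ⊢
  have hs : s ≠ 0 := by
    rintro rfl
    simp at h3
  set t := s' * u / s with ht
  have e : s' * u = t * s := by rw [ht]; field_simp
  rw [e, ← smul_smul] at h3' hi' ⊢
  simp only [smul_mul_assoc, mul_smul_comm, smul_smul] at h3' h3
  obtain ⟨v, hv⟩ := exists_ne (0 : V)
  have h33 : t * t * t = 1 := by
    have e2 : (t * t * t) • (1 : Module.End k V) = 1 :=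
      calc (t * t * t) • (1 : Module.End k V)
          = (t * t * t) • ((s * (s * s)) • (C.ρ g * C.ρ g * C.ρ g)) := by rw [h3]
        _ = (t * s * (t * s * (t * s))) • (C.ρ g * C.ρ g * C.ρ g) := by
          rw [smul_smul]; congr 1; ring
        _ = 1 := h3'
    have := LinearMap.congr_fun e2 v
    simp only [LinearMap.smul_apply, Module.End.one_apply] at this
    exact smul_left_injective k hv (this.trans (one_smul k v).symm)
  obtain ⟨h, hh⟩ := C.exists_inverter hx
  have e3 := hi' h hh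
  have e4 := hi h hh
  simp only [smul_mul_assoc, mul_smul_comm] at e3 e4
  rw [e4] at e3
  have h0 : s • (s • (C.ρ g * C.ρ g * C.ρ h)) ≠ 0 := by
    rw [smul_smul, ← map_mul, ← map_mul]
    exact smul_ne_zero (mul_ne_zero hs hs) (C.rho_ne_zero _)
  simp only [smul_smul] at e3 h0
  have h12 : t * (s * s) = t * s * (t * s) := by
    rw [← sub_eq_zero, ← sub_smul] at e3
    have := (smul_eq_zero.mp e3).resolve_right (fun e => h0 (by rw [e, smul_zero]))
    exact sub_eq_zero.mp (by linear_combination this)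
  have ht0 : t ≠ 0 := by intro e; simp [e] at h33
  have : t = 1 := by
    have h5 : t * (s * s) * (t - 1) = 0 := by linear_combination -h12
    exact sub_eq_zero.mp ((mul_eq_zero.mp h5).resolve_left (mul_ne_zero ht0 (mul_ne_zero hs hs)))
  rw [this, one_smul]

theorem T_cube {x : Perm (Fin r)} (hx : Three x) : C.T x * C.T x * C.T x = 1 := (C.T_spec hx).2.1

theorem T_lift {x : Perm (Fin r)} (hx : Three x) :
    ∃ g, ∃ s : k, s ≠ 0 ∧ C.π g = x ∧ C.T x = s • C.ρ g := by
  haveI := C.nontrivial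
  obtain ⟨⟨g, s, hg, e⟩, h3, -⟩ := C.T_spec hx
  refine ⟨g, s, fun h0 => ?_, hg, e⟩
  rw [e, h0, zero_smul, mul_zero] at h3
  exact zero_ne_one h3

theorem T_conj {x : Perm (Fin r)} (hx : Three x) (h : G) :
    C.ρ h * C.T x = C.T (C.π h * x * (C.π h)⁻¹) * C.ρ h := by
  obtain ⟨⟨g, s, hg, e⟩, h3, hi⟩ := C.T_spec hx
  suffices hn : C.IsNorm (C.π h * x * (C.π h)⁻¹) (C.ρ h * C.T x * C.ρ h⁻¹) by
    rw [← C.norm_unique (hx.conj _) hn (C.T_spec (hx.conj _)), mul_assoc, C.rho_inv_mul, mul_one]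
  refine ⟨⟨h * g * h⁻¹, s, by rw [map_mul, map_mul, map_inv, hg], ?_⟩, ?_, fun h' hh' => ?_⟩
  · rw [e, mul_smul_comm, smul_mul_assoc, map_mul, map_mul]
  · calc C.ρ h * C.T x * C.ρ h⁻¹ * (C.ρ h * C.T x * C.ρ h⁻¹) * (C.ρ h * C.T x * C.ρ h⁻¹)
        = C.ρ h * (C.T x * (C.ρ h⁻¹ * C.ρ h) * C.T x * (C.ρ h⁻¹ * C.ρ h) * C.T x) * C.ρ h⁻¹ := by
          simp only [mul_assoc]
      _ = 1 := by rw [C.rho_inv_mul, mul_one, mul_one, h3, mul_one, C.rho_mul_inv]
  · have hh : C.π (h⁻¹ * h' * h) * x * (C.π (h⁻¹ * h' * h))⁻¹ = x⁻¹ := by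
      rw [map_mul, map_mul, map_inv]
      calc (C.π h)⁻¹ * C.π h' * C.π h * x * ((C.π h)⁻¹ * C.π h' * C.π h)⁻¹
          = (C.π h)⁻¹ * (C.π h' * (C.π h * x * (C.π h)⁻¹) * (C.π h')⁻¹) * C.π h := by group
        _ = x⁻¹ := by rw [hh']; group
    have := hi _ hh
    rw [map_mul, map_mul] at this
    calc C.ρ h' * (C.ρ h * C.T x * C.ρ h⁻¹)
        = C.ρ h * C.ρ h⁻¹ * C.ρ h' * C.ρ h * C.T x * C.ρ h⁻¹ := by
          rw [C.rho_mul_inv, one_mul]; simp only [mul_assoc]
      _ = C.ρ h * ((C.ρ h⁻¹ * C.ρ h' * C.ρ h) * C.T x) * C.ρ h⁻¹ := by simp only [mul_assoc]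
      _ = C.ρ h * (C.T x * C.T x) * (C.ρ h⁻¹ * C.ρ h' * (C.ρ h * C.ρ h⁻¹)) := by
          rw [this]; simp only [mul_assoc]
      _ = C.ρ h * (C.T x * (C.ρ h⁻¹ * C.ρ h) * C.T x) * C.ρ h⁻¹ * C.ρ h' := by
          rw [C.rho_mul_inv, C.rho_inv_mul, mul_one, mul_one]; simp only [mul_assoc]
      _ = C.ρ h * C.T x * C.ρ h⁻¹ * (C.ρ h * C.T x * C.ρ h⁻¹) * C.ρ h' := by simp only [mul_assoc]

theorem T_inv {x : Perm (Fin r)} (hx : Three x) : C.T x⁻¹ = C.T x * C.T x := by
  obtain ⟨⟨g, s, hg, e⟩, h3, hi⟩ := C.T_spec hx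
  refine C.norm_unique hx.inv (C.T_spec hx.inv) ⟨⟨g * g, s * s, ?_, ?_⟩, ?_, fun h hh => ?_⟩
  · rw [map_mul, hg, ← mul_eq_one_iff_eq_inv]
    exact hx.cube
  · rw [e, smul_mul_assoc, mul_smul_comm, smul_smul, map_mul]
  · calc C.T x * C.T x * (C.T x * C.T x) * (C.T x * C.T x)
        = (C.T x * C.T x * C.T x) * (C.T x * C.T x * C.T x) := by simp only [mul_assoc]
      _ = 1 := by rw [h3, mul_one]
  · have hh' : C.π h * x * (C.π h)⁻¹ = x⁻¹ := by
      rw [inv_inv] at hh
      have := congrArg Inv.inv hh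
      simpa [mul_assoc] using this
    calc C.ρ h * (C.T x * C.T x) = C.T x * C.T x * (C.T x * C.T x) * C.ρ h := by
          rw [← mul_assoc, hi h hh', mul_assoc, hi h hh']; simp only [mul_assoc]
      _ = _ := rfl

theorem T_commute {x y : Perm (Fin r)} (hx : Three x) (hy : Three y) (h : Commute x y) :
    Commute (C.T x) (C.T y) := by
  obtain ⟨g, s, -, hg, e⟩ := C.T_lift hx
  obtain ⟨g', s', -, hg', e'⟩ := C.T_lift hy
  rw [e, e']
  exact ((C.commute_of_commute hx hg (by rw [hg']; exact h.symm)).smul_left s).smul_right s'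

theorem T_conj' {x y : Perm (Fin r)} (hx : Three x) (hy : Three y) :
    C.T y * C.T x = C.T (y * x * y⁻¹) * C.T y := by
  obtain ⟨g, s, -, hg, e⟩ := C.T_lift hy
  rw [e, smul_mul_assoc, C.T_conj hx g, hg, mul_smul_comm]

theorem T_comm_rho {x : Perm (Fin r)} (hx : Three x) {h : G} (hh : Commute (C.π h) x) :
    Commute (C.T x) (C.ρ h) := by
  obtain ⟨g, s, -, hg, e⟩ := C.T_lift hx
  rw [e]
  exact (C.commute_of_commute hx hg hh).smul_left s

/-- A subspace stable under the canonical lifts of a star of three-cycles is trivial. -/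
theorem eq_bot_or_top (W : Submodule k V) {a c : Fin r} (hac : a ≠ c)
    (h : ∀ z, z ≠ a → z ≠ c → ∀ v ∈ W, C.T (tc a c z) v ∈ W) : W = ⊥ ∨ W = ⊤ := by
  refine C.irred W fun g => ?_
  let M : Submonoid G :=
    { carrier := {g | ∀ v ∈ W, C.ρ g v ∈ W}
      mul_mem' := fun {g g'} hg hg' v hv => by rw [map_mul]; exact hg _ (hg' v hv)
      one_mem' := fun v hv => by rwa [map_one] }
  let K : Subgroup G :=
    { toSubmonoid := M
      inv_mem' := fun {g} hg => by
        have hpow : ∀ n : ℕ, g ^ n ∈ M := fun n => M.pow_mem hg n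
        rw [show g⁻¹ = g ^ (orderOf g - 1) from by
          rw [inv_eq_iff_mul_eq_one, ← pow_succ',
            Nat.sub_add_cancel (orderOf_pos g), pow_orderOf_eq_one]]
        exact hpow _ }
  have hthree : ∀ x, Three x → x ∈ K.map C.π := fun x hx =>
    three_mem_of_star (by have := C.hr; omega) hac (fun z za zc => by
      have hy : Three (tc a c z) := three_tc ⟨hac, zc.symm, za.symm⟩
      obtain ⟨g, s, hs, hg, e⟩ := C.T_lift hy
      refine ⟨g, fun v hv => ?_, hg⟩
      have := W.smul_mem s⁻¹ (h z za zc v hv)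
      rwa [e, LinearMap.smul_apply, smul_smul, inv_mul_cancel₀ hs, one_smul] at this) hx
  obtain ⟨g', hg', e⟩ := even_mem_of_three hthree (C.π_even g)
  obtain ⟨s, -, hs⟩ := C.rho_eq_smul e.symm
  intro v hv
  rw [hs, LinearMap.smul_apply]
  exact W.smul_mem s (hg' v hv)

end Ctx

end Cfsg.Agent.AltSection
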