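import Mathlib

/-! Three-cycles given by triples, and even permutations with prescribed values. -/

set_option autoImplicit false

namespace Cfsg.Agent.AltSection

open Equiv

variable {r : ℕ}

/-- The three-cycle `a ↦ b ↦ c ↦ a`. -/
def tc (a b c : Fin r) : Perm (Fin r) := swap a b * swap b c

structure Distinct3 (a b c : Fin r) : Prop where
  ab : a ≠ b
  bc : b ≠ c
  ac : a ≠ c

theorem Distinct3.rot {a b c : Fin r} (h : Distinct3 a b c) : Distinct3 b c a :=
  ⟨h.bc, h.ac.symm, h.ab.symm⟩

theorem Distinct3.rev {a b c : Fin r} (h : Distinct3 a b c) : Distinct3 c b a :=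
  ⟨h.bc.symm, h.ab.symm, h.ac.symm⟩

variable {a b c : Fin r}

theorem tc_fst (h : Distinct3 a b c) : tc a b c a = b := by
  simp [tc, swap_apply_of_ne_of_ne h.ab h.ac]

theorem tc_snd (h : Distinct3 a b c) : tc a b c b = c := by
  simp [tc, swap_apply_of_ne_of_ne h.ac.symm h.bc.symm]

theorem tc_thd : tc a b c c = a := by
  simp [tc]

theorem tc_other {z : Fin r} (ha : z ≠ a) (hb : z ≠ b) (hc : z ≠ c) : tc a b c z = z := by
  simp [tc, swap_apply_of_ne_of_ne hb hc, swap_apply_of_ne_of_ne ha hb]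

theorem tc_conj (s : Perm (Fin r)) (a b c : Fin r) :
    s * tc a b c * s⁻¹ = tc (s a) (s b) (s c) := by
  rw [tc, tc, swap_apply_apply, swap_apply_apply]
  group

theorem sign_tc (h : Distinct3 a b c) : Perm.sign (tc a b c) = 1 := by
  rw [tc, map_mul, Perm.sign_swap h.ab, Perm.sign_swap h.bc]; rfl

theorem tc_inv : (tc a b c)⁻¹ = tc c b a := by
  rw [tc, tc, mul_inv_rev, swap_inv, swap_inv, swap_comm b c, swap_comm a b]

theorem tc_rot (h : Distinct3 a b c) : tc b c a = tc a b c := by
  refine Equiv.ext fun z => ?_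
  by_cases ha : z = a
  · subst ha; rw [tc_thd, tc_fst h]
  by_cases hb : z = b
  · subst hb; rw [tc_fst h.rot, tc_snd h]
  by_cases hc : z = c
  · subst hc; rw [tc_snd h.rot, tc_thd]
  rw [tc_other hb hc ha, tc_other ha hb hc]

/-- `x` is a three-cycle. -/
def Three (x : Perm (Fin r)) : Prop := ∃ a b c, Distinct3 a b c ∧ x = tc a b c

theorem three_tc (h : Distinct3 a b c) : Three (tc a b c) := ⟨a, b, c, h, rfl⟩

theorem Three.conj {x : Perm (Fin r)} (h : Three x) (s : Perm (Fin r)) : Three (s * x * s⁻¹) := by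
  obtain ⟨a, b, c, hd, rfl⟩ := h
  exact ⟨s a, s b, s c, ⟨s.injective.ne hd.ab, s.injective.ne hd.bc, s.injective.ne hd.ac⟩,
    tc_conj s a b c⟩

theorem Three.inv {x : Perm (Fin r)} (h : Three x) : Three x⁻¹ := by
  obtain ⟨a, b, c, hd, rfl⟩ := h
  exact ⟨c, b, a, hd.rev, tc_inv⟩

theorem tc_cube (h : Distinct3 a b c) : tc a b c * tc a b c * tc a b c = 1 := by
  refine Equiv.ext fun z => ?_
  simp only [Perm.mul_apply, Perm.one_apply]
  by_cases ha : z = a
  · subst ha; rw [tc_fst h, tc_snd h, tc_thd]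
  by_cases hb : z = b
  · subst hb; rw [tc_snd h, tc_thd, tc_fst h]
  by_cases hc : z = c
  · subst hc; rw [tc_thd, tc_fst h, tc_snd h]
  rw [tc_other ha hb hc, tc_other ha hb hc, tc_other ha hb hc]

theorem Three.cube {x : Perm (Fin r)} (h : Three x) : x * x * x = 1 := by
  obtain ⟨a, b, c, hd, rfl⟩ := h
  exact tc_cube hd

theorem Three.ne_one {x : Perm (Fin r)} (h : Three x) : x ≠ 1 := by
  obtain ⟨a, b, c, hd, rfl⟩ := h
  intro e
  have := tc_fst hd
  rw [e, Perm.one_apply] at this
  exact hd.ab this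

/-- An even permutation with prescribed values at `m ≤ r - 2` points. -/
theorem exists_even_map {m : ℕ} (hm : m + 2 ≤ r) (f g : Fin m → Fin r) (hf : Function.Injective f)
    (hg : Function.Injective g) :
    ∃ s : Perm (Fin r), Perm.sign s = 1 ∧ ∀ i, s (f i) = g i := by
  classical
  let e : Set.range f ≃ Set.range g := (Equiv.ofInjective f hf).symm.trans (Equiv.ofInjective g hg)
  let s₀ : Perm (Fin r) := e.extendSubtype
  have hs₀ : ∀ i, s₀ (f i) = g i := fun i => by
    have h := e.extendSubtype_apply_of_mem (f i) ⟨i, rfl⟩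
    rw [show s₀ (f i) = _ from h]
    simp [e, Equiv.ofInjective_symm_apply hf i]
  rcases Int.units_eq_one_or (Perm.sign s₀) with h | h
  · exact ⟨s₀, h, hs₀⟩
  · have hcard : 1 < (Finset.univ \ Finset.univ.image g).card := by
      rw [Finset.card_sdiff_of_subset (Finset.subset_univ _), Finset.card_image_of_injective _ hg]
      simp only [Finset.card_univ, Fintype.card_fin]
      omega
    obtain ⟨p, hp, q, hq, hpq⟩ := Finset.one_lt_card.mp hcard
    simp only [Finset.mem_sdiff, Finset.mem_univ, Finset.mem_image, true_and, not_exists] at hp hq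
    refine ⟨swap p q * s₀, by rw [map_mul, h, Perm.sign_swap hpq]; rfl, fun i => ?_⟩
    rw [Perm.mul_apply, hs₀, swap_apply_of_ne_of_ne (hp i) (hq i)]

/-- A subgroup with all three-cycles through two given points contains all three-cycles. -/
theorem three_mem_of_star (hr : 5 ≤ r) {Γ : Subgroup (Perm (Fin r))} {a c : Fin r} (hac : a ≠ c)
    (h : ∀ z, z ≠ a → z ≠ c → tc a c z ∈ Γ) {x : Perm (Fin r)} (hx : Three x) : x ∈ Γ := by
  have hd : ∀ {z}, z ≠ a → z ≠ c → Distinct3 a c z := fun ha hc => ⟨hac, hc.symm, ha.symm⟩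
  have h1 : ∀ w z, w ≠ a → w ≠ c → z ≠ a → z ≠ c → w ≠ z → tc c w z ∈ Γ := by
    intro w z wa wc za zc wz
    have := Γ.mul_mem (Γ.mul_mem (h w wa wc) (h z za zc)) (Γ.inv_mem (h w wa wc))
    rwa [tc_conj, tc_fst (hd wa wc), tc_snd (hd wa wc), tc_other za zc wz.symm] at this
  have h2 : ∀ y w z, y ≠ a → y ≠ c → w ≠ a → w ≠ c → z ≠ a → z ≠ c → w ≠ z → y ≠ w → y ≠ z →
      tc y w z ∈ Γ := by
    intro y w z ya yc wa wc za zc wz yw yz
    have := Γ.mul_mem (Γ.mul_mem (h y ya yc) (h1 w z wa wc za zc wz)) (Γ.inv_mem (h y ya yc))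
    rwa [tc_conj, tc_snd (hd ya yc), tc_other wa wc yw.symm, tc_other za zc yz.symm] at this
  have h3 : ∀ w z, w ≠ a → z ≠ a → w ≠ z → tc a w z ∈ Γ := by
    intro w z wa za wz
    by_cases wc : w = c
    · subst wc; exact h z za wz.symm
    by_cases zc : z = c
    · subst zc
      rw [← tc_inv, tc_rot (hd wa wz)]
      exact Γ.inv_mem (h w wa wz)
    obtain ⟨y, ya, yc, yw, yz⟩ : ∃ y, y ≠ a ∧ y ≠ c ∧ y ≠ w ∧ y ≠ z := by
      have : (Finset.univ \ {a, c, w, z} : Finset (Fin r)).Nonempty := by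
        rw [← Finset.card_pos]
        have h4 : ({a, c, w, z} : Finset (Fin r)).card ≤ 4 := Finset.card_le_four
        have := Finset.le_card_sdiff ({a, c, w, z} : Finset (Fin r)) Finset.univ
        rw [Finset.card_univ, Fintype.card_fin] at this
        omega
      obtain ⟨y, hy⟩ := this
      simp at hy
      exact ⟨y, hy.1, hy.2.1, hy.2.2.1, hy.2.2.2⟩
    have hs := Γ.inv_mem (h y ya yc)
    have := Γ.mul_mem (Γ.mul_mem hs (h1 w z wa wc za zc wz)) (Γ.inv_mem hs)
    rw [tc_inv, tc_conj] at this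
    rwa [tc_snd (hd ya yc).rev, tc_other yw.symm wc wa, tc_other yz.symm zc za] at this
  obtain ⟨p, q, s, hd3, rfl⟩ := hx
  by_cases hp : p = a
  · subst hp; exact h3 q s hd3.ab.symm hd3.ac.symm hd3.bc
  by_cases hq : q = a
  · subst hq; rw [← tc_rot hd3]; exact h3 s p hd3.bc.symm hd3.ab hd3.ac.symm
  by_cases hs : s = a
  · subst hs; rw [← tc_rot hd3, ← tc_rot hd3.rot]; exact h3 p q hd3.ac hd3.bc hd3.ab
  by_cases hpc : p = c
  · subst hpc; exact h1 q s hq hd3.ab.symm hs hd3.ac.symm hd3.bc
  by_cases hqc : q = c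
  · subst hqc; rw [← tc_rot hd3]; exact h1 s p hs hd3.bc.symm hp hd3.ab hd3.ac.symm
  by_cases hsc : s = c
  · subst hsc; rw [← tc_rot hd3, ← tc_rot hd3.rot]; exact h1 p q hp hd3.ac hq hd3.bc hd3.ab
  exact h2 p q s hp hpc hq hqc hs hsc hd3.bc hd3.ab hd3.ac

theorem even_mem_of_three {Γ : Subgroup (Perm (Fin r))} (h : ∀ x, Three x → x ∈ Γ)
    {s : Perm (Fin r)} (hs : Perm.sign s = 1) : s ∈ Γ := by
  have hle : alternatingGroup (Fin r) ≤ Γ := by
    rw [← Equiv.Perm.closure_three_cycles_eq_alternating, Subgroup.closure_le]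
    intro x hx
    obtain ⟨a, ha⟩ : ∃ a, x a ≠ a := by
      by_contra hc
      push Not at hc
      have : x = 1 := Equiv.ext hc
      subst this
      have := hx.cycleType
      simp at this
    refine h x ⟨a, x a, x (x a), ?_, ?_⟩
    · have h3 : x (x (x a)) = a := by
        have h' : (x ^ 3) a = a := by rw [← hx.orderOf, pow_orderOf_eq_one]; rfl
        simpa [pow_succ] using h'
      refine ⟨Ne.symm ha, fun e => ha (x.injective e).symm, fun e => ?_⟩
      exact ha (by rw [← e] at h3; exact h3)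
    · have hsupp : x.support = {a, x a, x (x a)} := by
        symm
        refine Finset.eq_of_subset_of_card_le ?_ ?_
        · simp [Finset.insert_subset_iff, ha, Perm.mem_support]
        · rw [hx.card_support]
          have h3 : x (x (x a)) = a := by
            have h' : (x ^ 3) a = a := by rw [← hx.orderOf, pow_orderOf_eq_one]; rfl
            simpa [pow_succ] using h'
          rw [Finset.card_insert_of_notMem, Finset.card_pair (fun e => ha (x.injective e).symm)]
          simp only [Finset.mem_insert, Finset.mem_singleton, not_or]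
          exact ⟨Ne.symm ha, fun e => ha (by rw [← e] at h3; exact h3)⟩
      have h3 : x (x (x a)) = a := by
        have h' : (x ^ 3) a = a := by rw [← hx.orderOf, pow_orderOf_eq_one]; rfl
        simpa [pow_succ] using h'
      have hd : Distinct3 a (x a) (x (x a)) :=
        ⟨Ne.symm ha, fun e => ha (x.injective e).symm, fun e => ha (by rw [← e] at h3; exact h3)⟩
      refine Equiv.ext fun z => ?_
      by_cases h1 : z = a
      · subst h1; rw [tc_fst hd]
      by_cases h2 : z = x a
      · subst h2; rw [tc_snd hd]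
      by_cases h4 : z = x (x a)
      · subst h4; rw [tc_thd, h3]
      rw [tc_other h1 h2 h4]
      by_contra hz
      have : z ∈ x.support := Perm.mem_support.mpr hz
      rw [hsupp] at this
      simp [h1, h2, h4] at this
  exact hle (Equiv.Perm.mem_alternatingGroup.mpr hs)

end Cfsg.Agent.AltSection
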