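import Cfsg.Agent.AltSection.Support

/-!
Dimensions of subspaces on which the centralizer of a three-cycle acts nontrivially.
-/

set_option autoImplicit false
set_option linter.unusedSectionVars false

namespace Cfsg.Agent.AltSection

open Equiv Module

/-- The statement for degree `m`, used as induction hypothesis. -/
def Bound (p : ℕ) (k : Type) [Field k] (m : ℕ) : Prop :=
  ∀ (W G : Type) [AddCommGroup W] [Module k W] [FiniteDimensional k W] [Group G] [Finite G]
    (ρ : G →* Module.End k W) (π : G →* Perm (Fin m)), (∀ g, Perm.sign (π g) = 1) →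
    (∀ s, Perm.sign s = 1 → ∃ g, π g = s) → (∀ g, ρ g = 1 → π g = 1) → bnd p m ≤ finrank k W

variable {r : ℕ} {k V G : Type} [Field k] [AddCommGroup V] [Module k V] [FiniteDimensional k V]
  [Group G] [Finite G]

namespace Ctx

variable (C : Ctx r k V G)

/-- `U` is stable under everything commuting with `T x`. -/
def Stab (x : Perm (Fin r)) (U : Submodule k V) : Prop :=
  ∀ f : Module.End k V, Commute f (C.T x) → ∀ v ∈ U, f v ∈ U

/-- Lifts of three-cycles disjoint from `x` fix `U` pointwise. -/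
def TrivOn (x : Perm (Fin r)) (U : Submodule k V) : Prop :=
  ∀ y, Three y → x.Disjoint y → ∀ v ∈ U, C.T y v = v

variable {C}

theorem disjoint_tc {a b c i j l : Fin r} (ia : i ≠ a) (ib : i ≠ b) (ic : i ≠ c) (ja : j ≠ a)
    (jb : j ≠ b) (jc : j ≠ c) (la : l ≠ a) (lb : l ≠ b) (lc : l ≠ c) :
    (tc a b c).Disjoint (tc i j l) := by
  intro z
  by_cases za : z = a
  · subst za; exact Or.inr (tc_other ia.symm ja.symm la.symm)
  by_cases zb : z = b
  · subst zb; exact Or.inr (tc_other ib.symm jb.symm lb.symm)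
  by_cases zc : z = c
  · subst zc; exact Or.inr (tc_other ic.symm jc.symm lc.symm)
  exact Or.inl (tc_other za zb zc)

theorem fixes_of_disjoint {a b c : Fin r} (hd : Distinct3 a b c) {y : Perm (Fin r)}
    (h : (tc a b c).Disjoint y) : y a = a ∧ y b = b ∧ y c = c :=
  ⟨(h a).resolve_left (by rw [tc_fst hd]; exact hd.ab.symm),
    (h b).resolve_left (by rw [tc_snd hd]; exact hd.bc.symm),
    (h c).resolve_left (by rw [tc_thd]; exact hd.ac)⟩

theorem commute_of_fixes {a b c : Fin r} {s : Perm (Fin r)} (ha : s a = a) (hb : s b = b)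
    (hc : s c = c) : Commute s (tc a b c) := by
  have := tc_conj s a b c
  rw [ha, hb, hc, mul_inv_eq_iff_eq_mul] at this
  exact this

theorem mem_of_fixes {a b c : Fin r} (hd : Distinct3 a b c) {U : Submodule k V}
    (hU : C.Stab (tc a b c) U) {g : G} (ha : C.π g a = a) (hb : C.π g b = b) (hc : C.π g c = c)
    {v : V} (hv : v ∈ U) : C.ρ g v ∈ U :=
  hU _ (C.T_comm_rho (three_tc hd) (commute_of_fixes ha hb hc)).symm v hv

theorem T_mem {a b c : Fin r} (hd : Distinct3 a b c) {U : Submodule k V}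
    (hU : C.Stab (tc a b c) U) {y : Perm (Fin r)} (hy : Three y) (h : (tc a b c).Disjoint y)
    {v : V} (hv : v ∈ U) : C.T y v ∈ U :=
  hU _ (C.T_commute (three_tc hd) hy h.commute).symm v hv

/-- The subgroup of `G` fixing three points. -/
def fix3 (C : Ctx r k V G) (a b c : Fin r) : Subgroup G where
  carrier := {g | C.π g a = a ∧ C.π g b = b ∧ C.π g c = c}
  mul_mem' := fun {g h} ⟨a1, b1, c1⟩ ⟨a2, b2, c2⟩ => by
    simp only [Set.mem_ofPred_eq, map_mul, Perm.mul_apply, a1, b1, c1, a2, b2, c2, and_self]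
  one_mem' := by simp
  inv_mem' := fun {g} ⟨a1, b1, c1⟩ => by
    simp only [Set.mem_ofPred_eq, map_inv, Perm.inv_eq_iff_eq]
    exact ⟨a1.symm, b1.symm, c1.symm⟩

theorem exists_fix3_lift {a b c : Fin r} {s : Perm (Fin r)} (hs : Perm.sign s = 1) (ha : s a = a)
    (hb : s b = b) (hc : s c = c) : ∃ g ∈ C.fix3 a b c, C.π g = s := by
  obtain ⟨g, hg⟩ := C.π_surj s hs
  exact ⟨g, by show _ ∧ _ ∧ _; rw [hg]; exact ⟨ha, hb, hc⟩, hg⟩

/-- The restriction of `fix3` to a stable subspace. -/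
noncomputable def restr {a b c : Fin r} (hd : Distinct3 a b c) {U : Submodule k V}
    (hU : C.Stab (tc a b c) U) : ↥(C.fix3 a b c) →* Module.End k U where
  toFun g := (C.ρ g.1).restrict fun _ hv => mem_of_fixes hd hU g.2.1 g.2.2.1 g.2.2.2 hv
  map_one' := by ext v; simp
  map_mul' g h := by ext v; simp

theorem restr_apply {a b c : Fin r} (hd : Distinct3 a b c) {U : Submodule k V}
    (hU : C.Stab (tc a b c) U) (g : ↥(C.fix3 a b c)) (v : U) :
    (restr hd hU g v : V) = C.ρ g.1 v := rfl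

/-- If some lift of a nontrivial element fixing `a, b, c` acts as a scalar, all disjoint lifts act
trivially. -/
theorem trivOn_of_scalar {a b c : Fin r} (hd : Distinct3 a b c) {U : Submodule k V}
    (hU : C.Stab (tc a b c) U) {g : G} (hg : g ∈ C.fix3 a b c) (hne : C.π g ≠ 1) {t : k}
    (ht : ∀ v ∈ U, C.ρ g v = t • v) : C.TrivOn (tc a b c) U := by
  classical
  intro y hy hdisj v₀ hv₀
  by_cases hv0 : v₀ = 0
  · rw [hv0, map_zero]
  set s : Finset (Fin r) := Finset.univ \ {a, b, c} with hs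
  have hnot : ∀ z, z ∉ s → z = a ∨ z = b ∨ z = c := fun z hz => by
    simp [hs] at hz
    tauto
  have hofs : ∀ {σ : Perm (Fin r)}, σ a = a → σ b = b → σ c = c → Perm.sign σ = 1 →
      ∃ z : alternatingGroup {x // x ∈ s}, Perm.ofSubtype z.1 = σ := by
    intro σ ha hb hc hσ
    have hsupp : ∀ x, σ x ≠ x → x ∈ s := fun x hx => by
      by_contra hxs
      rcases hnot x hxs with rfl | rfl | rfl
      · exact hx ha
      · exact hx hb
      · exact hx hc
    have hmemS : ∀ x, σ x ∈ s ↔ x ∈ s := fun x => by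
      by_cases hx : σ x = x
      · rw [hx]
      · exact iff_of_true (hsupp _ fun e => hx (σ.injective e)) (hsupp x hx)
    have e := Perm.ofSubtype_subtypePerm hmemS hsupp
    exact ⟨⟨Perm.subtypePerm σ hmemS, Equiv.Perm.mem_alternatingGroup.mpr (show Perm.sign (Perm.subtypePerm σ hmemS) = 1 by rw [← Perm.sign_ofSubtype, e]; exact hσ)⟩, e⟩
  let M : Subgroup (alternatingGroup {x // x ∈ s}) :=
    { carrier := {z | ∃ h ∈ C.fix3 a b c, C.π h = Perm.ofSubtype z.1 ∧
          ∃ t : k, ∀ v ∈ U, C.ρ h v = t • v}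
      mul_mem' := by
        rintro z z' ⟨h, hh, e, t, ht⟩ ⟨h', hh', e', t', ht'⟩
        refine ⟨h * h', Subgroup.mul_mem _ hh hh', by rw [map_mul, e, e', ← map_mul]; rfl,
          t' * t, fun v hv => ?_⟩
        rw [map_mul, Module.End.mul_apply, ht' v hv, map_smul, ht v hv, smul_smul]
      one_mem' := ⟨1, Subgroup.one_mem _, by simp, 1, fun v _ => by simp⟩
      inv_mem' := by
        rintro z ⟨h, hh, e, t, ht⟩
        refine ⟨h⁻¹, Subgroup.inv_mem _ hh, by rw [map_inv, e, ← map_inv]; rfl, t⁻¹, fun v hv => ?_⟩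
        have h1 : C.ρ h⁻¹ (C.ρ h v) = v := by
          rw [← Module.End.mul_apply, C.rho_inv_mul, Module.End.one_apply]
        rw [ht v hv, map_smul] at h1
        by_cases ht0 : t = 0
        · rw [ht0, zero_smul] at h1
          rw [← h1, map_zero, smul_zero]
        conv_rhs => rw [← h1, smul_smul, inv_mul_cancel₀ ht0, one_smul] }
  have hn : M.Normal := ⟨by
    rintro z ⟨h, hh, e, t, ht⟩ w
    have hw : Perm.sign (Perm.ofSubtype w.1) = 1 := by
      rw [Perm.sign_ofSubtype]; exact Equiv.Perm.mem_alternatingGroup.mp w.2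
    have hw' : ∀ x, x ∉ s → Perm.ofSubtype w.1 x = x := fun x hx =>
      Perm.ofSubtype_apply_of_not_mem w.1 hx
    obtain ⟨u, hu, hue⟩ := C.exists_fix3_lift hw (hw' a (by simp [hs])) (hw' b (by simp [hs]))
      (hw' c (by simp [hs]))
    refine ⟨u * h * u⁻¹, Subgroup.mul_mem _ (Subgroup.mul_mem _ hu hh) (Subgroup.inv_mem _ hu),
      ?_, t, fun v hv => ?_⟩
    · rw [map_mul, map_mul, map_inv, e, hue, ← map_inv, ← map_mul, ← map_mul]; rfl
    · have hu' := Subgroup.inv_mem _ hu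
      have hv' := mem_of_fixes hd hU hu'.1 hu'.2.1 hu'.2.2 hv
      rw [map_mul, map_mul, Module.End.mul_apply, Module.End.mul_apply, ht _ hv', map_smul,
        ← Module.End.mul_apply (C.ρ u), C.rho_mul_inv, Module.End.one_apply]⟩
  have hcard : 5 ≤ Nat.card {x // x ∈ s} := by
    rw [Nat.card_eq_fintype_card, Fintype.card_coe, hs,
      Finset.card_sdiff_of_subset (Finset.subset_univ _), Finset.card_univ, Fintype.card_fin]
    have := C.hr
    have h3 : ({a, b, c} : Finset (Fin r)).card ≤ 3 := Finset.card_le_three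
    omega
  haveI := alternatingGroup.isSimpleGroup hcard
  have htop : M = ⊤ := hn.eq_bot_or_eq_top.resolve_left fun hbot => by
    obtain ⟨z, hz⟩ := hofs hg.1 hg.2.1 hg.2.2 (C.π_even g)
    have hmem : z ∈ M := ⟨g, hg, hz.symm, t, ht⟩
    rw [hbot, Subgroup.mem_bot] at hmem
    rw [hmem] at hz
    exact hne (by rw [← hz]; simp)
  obtain ⟨ya, yb, yc⟩ := fixes_of_disjoint hd hdisj
  obtain ⟨p, q, l, hd', rfl⟩ := hy
  obtain ⟨z, hz⟩ := hofs ya yb yc (sign_tc hd')
  obtain ⟨h, hh, e, u, hu⟩ : z ∈ M := htop ▸ Subgroup.mem_top z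
  rw [hz] at e
  obtain ⟨g', s', hs', hg', eT⟩ := C.T_lift (three_tc hd')
  obtain ⟨w, hw0, hw⟩ := C.rho_eq_smul (hg'.trans e.symm)
  have hT : ∀ v ∈ U, C.T (tc p q l) v = (s' * w * u) • v := fun v hv => by
    rw [eT, hw, LinearMap.smul_apply, LinearMap.smul_apply, hu v hv, smul_smul, smul_smul]
  set τ := s' * w * u
  -- an inverter fixing `a, b, c`
  have hne' : ∀ z, (z = a ∨ z = b ∨ z = c) → z ≠ p ∧ z ≠ q ∧ z ≠ l := by
    intro z hz
    have hfz : tc p q l z = z := by rcases hz with rfl | rfl | rfl <;> assumption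
    refine ⟨?_, ?_, ?_⟩ <;> intro e' <;> subst e'
    · rw [tc_fst hd'] at hfz; exact hd'.ab hfz.symm
    · rw [tc_snd hd'] at hfz; exact hd'.bc hfz.symm
    · rw [tc_thd] at hfz; exact hd'.ac hfz
  obtain ⟨pa, qa, la⟩ := hne' a (Or.inl rfl)
  obtain ⟨pb, qb, lb⟩ := hne' b (Or.inr (Or.inl rfl))
  obtain ⟨pc, qc, lc⟩ := hne' c (Or.inr (Or.inr rfl))
  obtain ⟨σ, hσ, hmap⟩ := exists_even_map (m := 6) (by have := C.hr; omega) ![p, q, l, a, b, c]
    ![l, q, p, a, b, c]
    (by intro i j; fin_cases i <;> fin_cases j <;>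
      simp [hd'.ab, hd'.ab.symm, hd'.bc, hd'.bc.symm, hd'.ac, hd'.ac.symm, hd.ab, hd.ab.symm,
        hd.bc, hd.bc.symm, hd.ac, hd.ac.symm, pa, pa.symm, qa, qa.symm, la, la.symm, pb, pb.symm,
        qb, qb.symm, lb, lb.symm, pc, pc.symm, qc, qc.symm, lc, lc.symm])
    (by intro i j; fin_cases i <;> fin_cases j <;>
      simp [hd'.ab, hd'.ab.symm, hd'.bc, hd'.bc.symm, hd'.ac, hd'.ac.symm, hd.ab, hd.ab.symm,
        hd.bc, hd.bc.symm, hd.ac, hd.ac.symm, pa, pa.symm, qa, qa.symm, la, la.symm, pb, pb.symm,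
        qb, qb.symm, lb, lb.symm, pc, pc.symm, qc, qc.symm, lc, lc.symm])
  have h0 := hmap 0; have h1 := hmap 1; have h2 := hmap 2
  have h3 := hmap 3; have h4 := hmap 4; have h5 := hmap 5
  simp at h0 h1 h2 h3 h4 h5
  obtain ⟨η, hη, hηe⟩ := C.exists_fix3_lift hσ h3 h4 h5
  have hinv := (C.T_spec (three_tc hd')).2.2 η (by rw [hηe, tc_conj, h0, h1, h2, tc_inv])
  have hwU := mem_of_fixes hd hU hη.1 hη.2.1 hη.2.2 hv₀
  have h6 := LinearMap.congr_fun hinv v₀
  simp only [Module.End.mul_apply] at h6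
  rw [hT v₀ hv₀, map_smul, hT _ hwU, map_smul, hT _ hwU, smul_smul] at h6
  have hne0 : C.ρ η v₀ ≠ 0 := fun e' => hv0 (by
    have := congrArg (C.ρ η⁻¹) e'
    rwa [← Module.End.mul_apply, C.rho_inv_mul, Module.End.one_apply, map_zero] at this)
  have hτ : τ = τ * τ := smul_left_injective k hne0 h6
  have hcube := LinearMap.congr_fun (C.T_cube (three_tc hd')) v₀
  simp only [Module.End.mul_apply, Module.End.one_apply, hT v₀ hv₀, map_smul, smul_smul] at hcube
  have h31 : τ * (τ * τ) = 1 :=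
    smul_left_injective k hv0 (hcube.trans (one_smul k v₀).symm)
  rw [hT v₀ hv₀, show τ = 1 by rw [← hτ, ← hτ] at h31; exact h31, one_smul]

/-- The bound from the induction hypothesis. -/
theorem piece_large {p : ℕ} (ih : Bound p k (r - 3)) {a b c : Fin r} (hd : Distinct3 a b c)
    {U : Submodule k V} (hU : C.Stab (tc a b c) U) (hnt : ¬ C.TrivOn (tc a b c) U) :
    bnd p (r - 3) ≤ finrank k U := by
  classical
  set s : Finset (Fin r) := Finset.univ \ {a, b, c} with hs
  have hcard : Fintype.card {x // x ∈ s} = r - 3 := by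
    rw [Fintype.card_coe, hs, Finset.card_sdiff_of_subset (Finset.subset_univ _), Finset.card_univ,
      Fintype.card_fin, Finset.card_eq_three.mpr ⟨a, b, c, hd.ab, hd.ac, hd.bc, rfl⟩]
  have hsupp : ∀ g : ↥(C.fix3 a b c), ∀ x, C.π g.1 x ≠ x → x ∈ s := fun g x hx => by
    simp only [hs, Finset.mem_sdiff, Finset.mem_univ, true_and, Finset.mem_insert,
      Finset.mem_singleton, not_or]
    exact ⟨fun e => hx (e ▸ g.2.1), fun e => hx (e ▸ g.2.2.1), fun e => hx (e ▸ g.2.2.2)⟩
  have hmemS : ∀ g : ↥(C.fix3 a b c), ∀ x, C.π g.1 x ∈ s ↔ x ∈ s := fun g x => by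
    by_cases hx : C.π g.1 x = x
    · rw [hx]
    · exact iff_of_true (hsupp g _ fun e => hx ((C.π g.1).injective e)) (hsupp g x hx)
  let π₀ : ↥(C.fix3 a b c) →* Perm {x // x ∈ s} :=
    { toFun := fun g => Perm.subtypePerm (C.π g.1) (hmemS g)
      map_one' := by ext x; simp
      map_mul' := fun g h => Equiv.ext fun x => Subtype.ext (by
        show C.π (g * h).1 x.1 = C.π g.1 (C.π h.1 x.1)
        rw [Subgroup.coe_mul, map_mul]
        rfl) }
  let e := Fintype.equivFinOfCardEq hcard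
  let π' : ↥(C.fix3 a b c) →* Perm (Fin (r - 3)) := e.permCongrHom.toMonoidHom.comp π₀
  have hπ₀ : ∀ g, Perm.ofSubtype (π₀ g) = C.π g.1 := fun g =>
    Perm.ofSubtype_subtypePerm (hmemS g) (hsupp g)
  refine ih U ↥(C.fix3 a b c) (restr hd hU) π' (fun g => ?_) (fun σ hσ => ?_) (fun g hg => ?_)
  · show Perm.sign (e.permCongr (π₀ g)) = 1
    rw [Perm.sign_permCongr, ← Perm.sign_ofSubtype, hπ₀]
    exact C.π_even _
  · set σ' := Perm.ofSubtype (e.symm.permCongr σ) with hσ'
    have hσs : Perm.sign σ' = 1 := by rw [hσ', Perm.sign_ofSubtype, Perm.sign_permCongr, hσ]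
    have hnm : ∀ x, x ∉ s → σ' x = x := fun x hx => Perm.ofSubtype_apply_of_not_mem _ hx
    obtain ⟨g, hg, hge⟩ := C.exists_fix3_lift hσs (hnm a (by simp [hs])) (hnm b (by simp [hs]))
      (hnm c (by simp [hs]))
    refine ⟨⟨g, hg⟩, ?_⟩
    have h1 : π₀ ⟨g, hg⟩ = e.symm.permCongr σ :=
      Perm.ofSubtype_injective (by rw [hπ₀]; exact hge)
    show e.permCongr (π₀ ⟨g, hg⟩) = σ
    rw [h1]
    ext x; simp
  · by_contra hne
    refine hnt (trivOn_of_scalar hd hU g.2 (fun e' => hne ?_) (t := 1) fun v hv => ?_)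
    · have h1 : π₀ g = 1 := Perm.ofSubtype_injective (by rw [hπ₀, e', map_one])
      show e.permCongrHom (π₀ g) = 1
      rw [h1, map_one]
    · rw [one_smul]
      exact congrArg Subtype.val (LinearMap.congr_fun hg ⟨v, hv⟩)

end Ctx

end Cfsg.Agent.AltSection
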