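import Cfsg.Agent.AltSection.Clifford
import Cfsg.Agent.AltSection.Lifts

/-!
The bound when lifts of three-cycles satisfy a quadratic equation.
-/

set_option autoImplicit false
set_option linter.unusedSectionVars false

namespace Cfsg.Agent.AltSection

open Equiv Module

/-- The least dimension for alternating sections of degree `r` in characteristic `p`. -/
def bnd (p r : ℕ) : ℕ := r - 1 - (if p ∣ r then 1 else 0)

theorem two_mul_add_two_le : ∀ m : ℕ, 3 ≤ m → 2 * m + 2 ≤ 2 ^ m := by
  intro m hm
  induction m, hm using Nat.le_induction with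
  | base => norm_num
  | succ m hm ih => rw [pow_succ]; omega

variable {r : ℕ} {k V G : Type} [Field k] [AddCommGroup V] [Module k V] [FiniteDimensional k V]
  [Group G] [Finite G]

namespace Ctx

variable (C : Ctx r k V G)

theorem T_injective {x y : Perm (Fin r)} (hx : Three x) (hy : Three y) (h : C.T x = C.T y) :
    x = y := by
  obtain ⟨g, s, hs, hg, e⟩ := C.T_lift hx
  obtain ⟨g', s', -, hg', e'⟩ := C.T_lift hy
  have : C.ρ (g * g'⁻¹) = (s⁻¹ * s') • 1 := by
    rw [map_mul, show C.ρ g = (s⁻¹ * s') • C.ρ g' by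
      rw [← smul_smul, ← e', ← h, e, smul_smul, inv_mul_cancel₀ hs, one_smul],
      smul_mul_assoc, C.rho_mul_inv]
  have := (C.scalar_iff _).mpr ⟨_, this⟩
  rw [map_mul, map_inv, hg, hg', mul_inv_eq_one] at this
  exact this

theorem pair_scalar {a b c d : Fin r} (hab : a ≠ b) (hca : c ≠ a) (hcb : c ≠ b) (hda : d ≠ a)
    (hdb : d ≠ b) (hcd : c ≠ d) :
    ∃ ε : k, ε * ε = 1 ∧ C.T (tc a b c) * C.T (tc a b d) * (C.T (tc a b c) * C.T (tc a b d)) = ε • 1 ∧
      C.T (tc a b d) * C.T (tc a b c) * (C.T (tc a b d) * C.T (tc a b c)) = ε • 1 := by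
  haveI := C.nontrivial
  have dc : Distinct3 a b c := ⟨hab, hcb.symm, hca.symm⟩
  have dd : Distinct3 a b d := ⟨hab, hdb.symm, hda.symm⟩
  have tx : Three (tc a b c) := three_tc dc
  have ty : Three (tc a b d) := three_tc dd
  set u := C.T (tc a b c) with hud
  set v := C.T (tc a b d) with hvd
  have hu3 : u * u * u = 1 := C.T_cube tx
  have hv3 : v * v * v = 1 := C.T_cube ty
  have hxy : tc a b c * tc a b d * (tc a b c * tc a b d) = 1 := by
    refine Equiv.ext fun z => ?_
    simp only [Perm.mul_apply, Perm.one_apply]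
    by_cases za : z = a
    · subst za
      rw [tc_fst dd, tc_snd dc, tc_other hca hcb hcd, tc_thd]
    by_cases zb : z = b
    · subst zb
      rw [tc_snd dd, tc_other hda hdb hcd.symm, tc_thd, tc_fst dc]
    by_cases zc : z = c
    · subst zc
      rw [tc_other hca hcb hcd, tc_thd, tc_fst dd, tc_snd dc]
    by_cases zd : z = d
    · subst zd
      rw [tc_thd, tc_fst dc, tc_snd dd, tc_other hda hdb hcd.symm]
    rw [tc_other za zb zd, tc_other za zb zc, tc_other za zb zd, tc_other za zb zc]
  obtain ⟨g, s, -, hg, eu⟩ := C.T_lift tx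
  obtain ⟨g', s', -, hg', ev⟩ := C.T_lift ty
  obtain ⟨ε, hε⟩ : ∃ ε : k, u * v * (u * v) = ε • 1 := by
    obtain ⟨e, he⟩ := (C.scalar_iff (g * g' * (g * g'))).mp
      (by simp only [map_mul, hg, hg']; exact hxy)
    refine ⟨s * s' * (s * s') * e, ?_⟩
    rw [hud, hvd, eu, ev]
    simp only [smul_mul_assoc, mul_smul_comm, smul_smul, ← map_mul, he]
    congr 1
    ring
  have hε' : v * u * (v * u) = ε • 1 := by
    calc v * u * (v * u) = (u * u * u) * (v * u * (v * u)) := by rw [hu3, one_mul]
      _ = u * u * (u * v * (u * v)) * u := by simp only [mul_assoc]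
      _ = ε • 1 := by rw [hε, mul_smul_comm, mul_one, smul_mul_assoc, hu3]
  obtain ⟨w, hw, hmap⟩ := exists_even_map (m := 4) (by have := C.hr; omega) ![a, b, c, d] ![b, a, c, d]
    (by intro i j; fin_cases i <;> fin_cases j <;>
      simp [hab, hab.symm, hca, hca.symm, hcb, hcb.symm, hda, hda.symm, hdb, hdb.symm, hcd, hcd.symm])
    (by intro i j; fin_cases i <;> fin_cases j <;>
      simp [hab, hab.symm, hca, hca.symm, hcb, hcb.symm, hda, hda.symm, hdb, hdb.symm, hcd, hcd.symm])
  obtain ⟨h, rfl⟩ := C.π_surj w hw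
  have h0 := hmap 0
  have h1 := hmap 1
  have h2 := hmap 2
  have h3 := hmap 3
  simp at h0 h1 h2 h3
  have ex : C.π h * tc a b c * (C.π h)⁻¹ = (tc a b c)⁻¹ := by
    rw [tc_conj, h0, h1, h2, tc_inv, ← tc_rot dc.rev]
  have ey : C.π h * tc a b d * (C.π h)⁻¹ = (tc a b d)⁻¹ := by
    rw [tc_conj, h0, h1, h3, tc_inv, ← tc_rot dd.rev]
  have cu : C.ρ h * u = u * u * C.ρ h := (C.T_spec tx).2.2 h ex
  have cv : C.ρ h * v = v * v * C.ρ h := (C.T_spec ty).2.2 h ey
  have hinv : u * u * (v * v) * (u * u * (v * v)) = ε • 1 := by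
    have e1 : C.ρ h * (u * v * (u * v)) = u * u * (v * v) * (u * u * (v * v)) * C.ρ h := by
      calc C.ρ h * (u * v * (u * v)) = C.ρ h * u * v * (u * v) := by simp only [mul_assoc]
        _ = u * u * (C.ρ h * v) * (u * v) := by rw [cu]; simp only [mul_assoc]
        _ = u * u * (v * v) * (C.ρ h * u) * v := by rw [cv]; simp only [mul_assoc]
        _ = u * u * (v * v) * (u * u) * (C.ρ h * v) := by rw [cu]; simp only [mul_assoc]
        _ = _ := by rw [cv]; simp only [mul_assoc]
    rw [hε, mul_smul_comm, mul_one] at e1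
    have := congrArg (fun z => z * C.ρ h⁻¹) e1
    simp only [smul_mul_assoc, mul_assoc, C.rho_mul_inv, mul_one] at this
    simp only [mul_assoc]
    exact this.symm
  have hone : u * u * (v * v) * (u * u * (v * v)) * (v * u * (v * u)) = 1 := by
    calc u * u * (v * v) * (u * u * (v * v)) * (v * u * (v * u))
        = u * u * (v * v) * (u * (u * (v * v * v)) * u * (v * u)) := by simp only [mul_assoc]
      _ = 1 := by
        rw [hv3, mul_one]
        rw [show u * u * u = 1 from hu3, one_mul, ← mul_assoc, mul_assoc (u * u) (v * v) v,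
          hv3, mul_one, hu3]
  have hεsq : ε * ε = 1 := by
    rw [hinv, hε', smul_mul_assoc, one_mul, smul_smul] at hone
    obtain ⟨z, hz⟩ := exists_ne (0 : V)
    have := LinearMap.congr_fun hone z
    simp only [LinearMap.smul_apply, Module.End.one_apply] at this
    exact smul_left_injective k hz (this.trans (one_smul k z).symm)
  exact ⟨ε, hεsq, hε, hε'⟩

theorem pair_rel {a b c d : Fin r} (hab : a ≠ b) (hca : c ≠ a) (hcb : c ≠ b) (hda : d ≠ a)
    (hdb : d ≠ b) (hcd : c ≠ d)
    (hu : C.T (tc a b c) * C.T (tc a b c) + C.T (tc a b c) + 1 = 0)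
    (hv : C.T (tc a b d) * C.T (tc a b d) + C.T (tc a b d) + 1 = 0) :
    C.T (tc a b c) * C.T (tc a b d) + C.T (tc a b d) * C.T (tc a b c) + C.T (tc a b c) +
      C.T (tc a b d) + 1 = 0 := by
  haveI := C.nontrivial
  have dc : Distinct3 a b c := ⟨hab, hcb.symm, hca.symm⟩
  have dd : Distinct3 a b d := ⟨hab, hdb.symm, hda.symm⟩
  have tx : Three (tc a b c) := three_tc dc
  have ty : Three (tc a b d) := three_tc dd
  set u := C.T (tc a b c) with hud
  set v := C.T (tc a b d) with hvd
  have hu3 : u * u * u = 1 := C.T_cube tx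
  have hv3 : v * v * v = 1 := C.T_cube ty
  obtain ⟨ε, hεsq, hε, hε'⟩ := C.pair_scalar hab hca hcb hda hdb hcd
  have hu2 : u * u = -u - 1 := eq_sub_of_add_eq (eq_neg_of_add_eq_zero_left (by rw [← hu]; abel))
  have hv2 : v * v = -v - 1 := eq_sub_of_add_eq (eq_neg_of_add_eq_zero_left (by rw [← hv]; abel))
  have hflip : ∀ p q : Module.End k V, p * p * p = 1 → q * q * q = 1 → p * q * (p * q) = ε • 1 →
      p * q = ε • (q * q * (p * p)) := by
    intro p q hp hq hpq
    calc p * q = p * q * (p * (q * q * q) * (p * p)) := by rw [hq, mul_one, ← mul_assoc p p p, hp, mul_one]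
      _ = p * q * (p * q) * (q * q * (p * p)) := by simp only [mul_assoc]
      _ = ε • (q * q * (p * p)) := by rw [hpq, smul_mul_assoc, one_mul]
  have e1 := hflip u v hu3 hv3 hε
  have e2 := hflip v u hv3 hu3 hε'
  rw [hu2, hv2] at e1 e2
  rcases mul_self_eq_one_iff.mp hεsq with he | he <;> rw [he] at e1 e2
  · rw [one_smul] at e1 e2
    have h2z : (2 : k) • (1 + u + v) = (0 : Module.End k V) := by
      have e3 := congrArg₂ (· + ·) e1 e2
      simp only [sub_mul, mul_sub, neg_mul, mul_neg, one_mul, mul_one, neg_neg] at e3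
      rw [← sub_eq_zero] at e3
      rw [← neg_eq_zero, ← e3]
      match_scalars <;> ring
    by_cases h20 : (2 : k) = 0
    · have e4 : u * v = -(v * u) - u - v - 1 := by
        rw [e1]
        simp only [sub_mul, mul_sub, neg_mul, mul_neg, one_mul, mul_one, neg_neg]
        have h2e : ∀ f : Module.End k V, f + f = 0 := fun f => by rw [← two_smul k f, h20, zero_smul]
        rw [← sub_eq_zero, ← h2e (v * u + u + v + 1)]
        abel
      rw [e4]; abel
    · exfalso
      have e4 := (smul_eq_zero.mp h2z).resolve_left h20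
      have : v = C.T (tc a b c)⁻¹ := by
        rw [C.T_inv tx, ← hud, hu2, ← sub_eq_zero, ← e4]; abel
      have := C.T_injective ty tx.inv this
      have := congrArg (fun f : Perm (Fin r) => f a) this
      simp only [tc_inv, tc_fst dd] at this
      rw [tc_thd] at this
      exact hcb this.symm
  · rw [e1]
    simp only [sub_mul, mul_sub, neg_mul, mul_neg, one_mul, mul_one, neg_neg]
    match_scalars <;> ring

theorem quad_conj {x y : Perm (Fin r)} (hx : Three x) {g : G} (hg : C.π g * x * (C.π g)⁻¹ = y)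
    (h : C.T x * C.T x + C.T x + 1 = 0) : C.T y * C.T y + C.T y + 1 = 0 := by
  have e : C.T y = C.ρ g * C.T x * C.ρ g⁻¹ := by
    rw [C.T_conj hx g, hg, mul_assoc, C.rho_mul_inv, mul_one]
  calc C.T y * C.T y + C.T y + 1
      = C.ρ g * (C.T x * (C.ρ g⁻¹ * C.ρ g) * C.T x + C.T x + 1) * C.ρ g⁻¹ := by
        rw [e, mul_add, mul_add, add_mul, add_mul, mul_one, C.rho_mul_inv]
        simp only [mul_assoc]
    _ = 0 := by rw [C.rho_inv_mul, mul_one, h, mul_zero, zero_mul]

theorem quadratic_case [IsAlgClosed k] {p : ℕ} [Fact p.Prime] [CharP k p] {a b c : Fin r}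
    (hd : Distinct3 a b c) (hq : C.T (tc a b c) * C.T (tc a b c) + C.T (tc a b c) + 1 = 0) :
    bnd p r ≤ finrank k V := by
  classical
  have hr := C.hr
  have hn : 0 < finrank k V := Nat.lt_of_lt_of_le two_pos C.two_le
  let ι := {i : Fin r // i ≠ a ∧ i ≠ b}
  let x : ι → Module.End k V := fun i => C.T (tc a b i.1)
  have hquad : ∀ i : ι, x i * x i + x i + 1 = 0 := by
    intro i
    obtain ⟨w, hw, hmap⟩ := exists_even_map (m := 3) (by omega) ![a, b, c] ![a, b, i.1]
      (by intro p q; fin_cases p <;> fin_cases q <;>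
        simp [hd.ab, hd.ab.symm, hd.bc, hd.bc.symm, hd.ac, hd.ac.symm])
      (by intro p q; fin_cases p <;> fin_cases q <;>
        simp [hd.ab, hd.ab.symm, i.2.1, i.2.1.symm, i.2.2, i.2.2.symm])
    obtain ⟨g, rfl⟩ := C.π_surj w hw
    have h0 := hmap 0
    have h1 := hmap 1
    have h2 := hmap 2
    simp at h0 h1 h2
    exact C.quad_conj (three_tc hd) (g := g) (by rw [tc_conj, h0, h1, h2]) hq
  have hF : QuadFamily x := ⟨hquad, fun i j hij =>
    C.pair_rel hd.ab i.2.1 i.2.2 j.2.1 j.2.2 (fun e => hij (Subtype.ext e)) (hquad i) (hquad j)⟩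
  have hcard : Fintype.card ι = r - 2 := by
    rw [Fintype.card_subtype, show (Finset.univ.filter fun i : Fin r => i ≠ a ∧ i ≠ b) =
      Finset.univ \ {a, b} by ext; simp,
      Finset.card_sdiff_of_subset (Finset.subset_univ _), Finset.card_pair hd.ab, Finset.card_univ,
      Fintype.card_fin]
  have hp := (Fact.out : p.Prime)
  have hdvd : ∀ m : ℕ, (m : k) = 0 ↔ p ∣ m := CharP.cast_eq_zero_iff k p
  obtain ⟨i₀⟩ : Nonempty ι := Fintype.card_pos_iff.mp (by omega)
  have hsub : Fintype.card {i : ι // i ≠ i₀} = r - 3 := by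
    rw [Fintype.card_subtype_compl, Fintype.card_subtype_eq, hcard]; omega
  unfold bnd
  by_cases h2 : p = 2
  · subst h2
    by_cases hr2 : 2 ∣ r
    · rw [if_pos hr2]
      obtain ⟨i₁⟩ : Nonempty {i : ι // i ≠ i₀} := Fintype.card_pos_iff.mp (by omega)
      have hsub2 : Fintype.card {i : {i : ι // i ≠ i₀} // i ≠ i₁} = r - 4 := by
        rw [Fintype.card_subtype_compl, Fintype.card_subtype_eq, hsub]; omega
      have hF' := hF.comp (f := fun o : Option {i : {i : ι // i ≠ i₀} // i ≠ i₁} =>
        o.elim i₀ fun i => i.1.1) (by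
          rintro (_ | i) (_ | j) e
          · rfl
          · exact absurd e.symm j.1.2
          · exact absurd e i.1.2
          · exact congrArg some (Subtype.ext (Subtype.ext e)))
      have := QuadFamily.bound_two (x := fun i : {i : {i : ι // i ≠ i₀} // i ≠ i₁} => x i.1.1)
        (y := x i₀) (by
          convert hF' using 1
          funext o; cases o <;> rfl) hn (by rw [ne_eq, hdvd, hsub2]; omega)
      rw [hsub2] at this
      have h3 := two_mul_add_two_le ((r - 4) / 2) (by omega)
      omega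
    · rw [if_neg hr2]
      have hF' := hF.comp (f := fun o : Option {i : ι // i ≠ i₀} => o.elim i₀ Subtype.val) (by
          rintro (_ | i) (_ | j) e
          · rfl
          · exact absurd e.symm j.2
          · exact absurd e i.2
          · exact congrArg some (Subtype.ext e))
      have := QuadFamily.bound_two (x := fun i : {i : ι // i ≠ i₀} => x i.1)
        (y := x i₀) (by
          convert hF' using 1
          funext o; cases o <;> rfl) hn (by rw [ne_eq, hdvd, hsub]; omega)
      rw [hsub] at this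
      have h3 := two_mul_add_two_le ((r - 3) / 2) (by omega)
      omega
  have h20 : (2 : k) ≠ 0 := by
    rw [← Nat.cast_ofNat, ne_eq, hdvd]
    exact fun h => h2 ((Nat.prime_dvd_prime_iff_eq hp Nat.prime_two).mp h)
  by_cases hpr : p ∣ r
  · rw [if_pos hpr]
    have := (hF.comp (f := fun i : {i : ι // i ≠ i₀} => i.1) Subtype.val_injective).bound_odd hn h20
      (by
        rw [ne_eq, hdvd, hsub]
        intro h
        have h1 : p ∣ r - (r - 3 + 2) := Nat.dvd_sub hpr h
        rw [show r - (r - 3 + 2) = 1 by omega, Nat.dvd_one] at h1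
        exact hp.ne_one h1)
    rw [hsub] at this
    have h3 := two_mul_add_two_le ((r - 3) / 2) (by omega)
    omega
  · rw [if_neg hpr]
    have := hF.bound_odd hn h20 (by rw [ne_eq, hdvd, hcard, show r - 2 + 2 = r by omega]; exact hpr)
    rw [hcard] at this
    have h3 := two_mul_add_two_le ((r - 2) / 2) (by omega)
    omega

end Ctx

end Cfsg.Agent.AltSection
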