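import Cfsg.Agent.AltSection.Cases

/-!
Reduction to irreducible projective representations: every representation of a group with an
alternating quotient has the degree bound.
-/

set_option autoImplicit false
set_option linter.unusedSectionVars false

namespace Cfsg.Agent.AltSection

open Equiv Module

theorem linearIndependent_eigen {ι M k W : Type} [Monoid M] [Field k] [AddCommGroup W] [Module k W]
    (act : M →* Module.End k W) (v : ι → W) (χ : ι → M → k) (hv : ∀ i, v i ≠ 0)
    (he : ∀ i m, act m (v i) = χ i m • v i) (hinj : Function.Injective χ) :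
    LinearIndependent k v := by
  have h1 : ∀ i, χ i 1 = 1 := fun i => by
    have := he i 1
    rw [map_one, Module.End.one_apply] at this
    exact smul_left_injective k (hv i) (this.symm.trans (one_smul k (v i)).symm)
  have h2 : ∀ i a b, χ i (a * b) = χ i a * χ i b := fun i a b => by
    have := he i (a * b)
    rw [map_mul, Module.End.mul_apply, he i b, map_smul, he i a, smul_smul, mul_comm] at this
    exact smul_left_injective k (hv i) this.symm
  let Φ : ι → M →* k := fun i => { toFun := χ i, map_one' := h1 i, map_mul' := h2 i }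
  have hli : LinearIndependent k fun i => ((Φ i : M →* k) : M → k) :=
    (linearIndependent_monoidHom M k).comp Φ fun i j e => hinj (congrArg (fun f : M →* k => ⇑f) e)
  rw [linearIndependent_iff'] at hli ⊢
  intro s c hc i hi
  by_contra h0
  obtain ⟨f, hf⟩ : ∃ f : Module.Dual k W, f (v i) ≠ 0 := by
    by_contra hcon
    simp only [not_exists, not_not] at hcon
    exact hv i ((Module.forall_dual_apply_eq_zero_iff k (v i)).mp hcon)
  have h := hli s (fun j => c j * f (v j)) (funext fun m => by
    have hm := congrArg (fun w => f (act m w)) hc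
    simp only [map_sum, map_smul, he, map_zero, smul_eq_mul] at hm
    simp only [Finset.sum_apply, Pi.smul_apply, smul_eq_mul, Pi.zero_apply]
    rw [← hm]
    exact Finset.sum_congr rfl fun j _ => by show c j * f (v j) * χ j m = _; ring) i hi
  exact mul_ne_zero h0 hf h

theorem eq_top_of_index_lt {r : ℕ} (hr : 5 ≤ r) (M : Subgroup (alternatingGroup (Fin r)))
    (hM : M.index < r) : M = ⊤ := by
  by_contra hne
  haveI := alternatingGroup.isSimpleGroup (α := Fin r) (by simpa using hr)
  haveI : Nontrivial (Fin r) := Fin.nontrivial_iff_two_le.mpr (by omega)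
  set φ := MulAction.toPermHom (alternatingGroup (Fin r)) (alternatingGroup (Fin r) ⧸ M)
  have hker : φ.ker = ⊥ := (φ.normal_ker.eq_bot_or_eq_top).resolve_right fun e => hne (by
    refine eq_top_iff.mpr fun g _ => ?_
    have hg : φ g = 1 := MonoidHom.mem_ker.mp (e ▸ Subgroup.mem_top g)
    have := congrArg (fun s : Perm (alternatingGroup (Fin r) ⧸ M) => s (QuotientGroup.mk 1)) hg
    simp only [φ, MulAction.toPermHom_apply, MulAction.toPerm_apply, Perm.one_apply] at this
    rw [MulAction.Quotient.smul_mk, QuotientGroup.eq] at this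
    simpa using this)
  haveI := Fintype.ofFinite (alternatingGroup (Fin r) ⧸ M)
  have h1 := Nat.card_le_card_of_injective φ ((MonoidHom.ker_eq_bot_iff φ).mp hker)
  rw [Nat.card_perm, ← Subgroup.index_eq_card] at h1
  have h2 := two_mul_nat_card_alternatingGroup (α := Fin r)
  rw [Nat.card_perm, Nat.card_fin] at h2
  have h3 : M.index.factorial ≤ (r - 1).factorial := Nat.factorial_le (by omega)
  have h4 : r.factorial = r * (r - 1).factorial := (Nat.mul_factorial_pred (by omega)).symm
  have h5 := Nat.factorial_pos (r - 1)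
  have h6 : 3 * (r - 1).factorial ≤ r * (r - 1).factorial := Nat.mul_le_mul_right _ (by omega)
  omega

/-- An action on a finite group of exponent `ℓ` as matrices over `ZMod ℓ`. -/
theorem exists_matrix_rep {G A : Type} [Monoid G] [AddCommGroup A] [Finite A] (ℓ : ℕ)
    [Fact ℓ.Prime] (hA : ∀ a : A, ℓ • a = 0) (f : G → A →+ A) (h1 : ∀ a, f 1 a = a)
    (hm : ∀ g g' a, f (g * g') a = f g (f g' a)) :
    ∃ (j : ℕ) (Ψ : G →* Matrix (Fin j) (Fin j) (ZMod ℓ)),
      Nat.card A = ℓ ^ j ∧ ∀ g, Ψ g = 1 → ∀ a, f g a = a := by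
  letI := AddCommGroup.zmodModule (n := ℓ) hA
  haveI : Module.Finite (ZMod ℓ) A := Module.Finite.of_finite
  let b := Module.finBasis (ZMod ℓ) A
  refine ⟨finrank (ZMod ℓ) A,
    { toFun := fun g => LinearMap.toMatrix b b ((f g).toZModLinearMap ℓ)
      map_one' := ?_
      map_mul' := fun g g' => ?_ },
    by rw [Module.natCard_eq_pow_finrank (K := ZMod ℓ), Nat.card_zmod], fun g hg a => ?_⟩
  · rw [show (f 1).toZModLinearMap ℓ = LinearMap.id from LinearMap.ext h1, LinearMap.toMatrix_id]
  · rw [← LinearMap.toMatrix_comp b b b]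
    exact congrArg _ (LinearMap.ext (hm g g'))
  · have e : (f g).toZModLinearMap ℓ = LinearMap.id :=
      (LinearMap.toMatrix b b).injective (hg.trans (LinearMap.toMatrix_id b).symm)
    exact LinearMap.congr_fun e a

/-- The statement for degree `r` and dimension `n`. -/
def BoundDim (r n : ℕ) : Prop :=
  ∀ (p : ℕ) [Fact p.Prime] (k : Type) [Field k] [IsAlgClosed k] [CharP k p] (W G : Type)
    [AddCommGroup W] [Module k W] [FiniteDimensional k W] [Group G] [Finite G]
    (ρ : G →* Module.End k W) (π : G →* Perm (Fin r)), finrank k W = n →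
    (∀ g, Perm.sign (π g) = 1) → (∀ s, Perm.sign s = 1 → ∃ g, π g = s) →
    (∀ g, ρ g = 1 → π g = 1) → bnd p r ≤ n

section Minimal

variable {r : ℕ} {G : Type} [Group G] [Finite G] (π : G →* Perm (Fin r))

/-- `π` as a map onto the alternating group. -/
def toAlt (he : ∀ g, Perm.sign (π g) = 1) : G →* alternatingGroup (Fin r) :=
  π.codRestrict _ fun g => Perm.mem_alternatingGroup.mpr (he g)

variable {π} (hr : 9 ≤ r) (he : ∀ g, Perm.sign (π g) = 1)
  (hs : ∀ s, Perm.sign s = 1 → ∃ g, π g = s)
  (hmin : ∀ M : Subgroup G, (∀ s, Perm.sign s = 1 → ∃ g ∈ M, π g = s) → M = ⊤)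

include hs in
theorem toAlt_surjective : Function.Surjective (toAlt π he) := fun s => by
  obtain ⟨g, hg⟩ := hs s.1 (Perm.mem_alternatingGroup.mp s.2)
  exact ⟨g, Subtype.ext hg⟩

include hmin in
theorem eq_top_of_map {M : Subgroup G} (h : M.map (toAlt π he) = ⊤) : M = ⊤ :=
  hmin M fun s hsgn => by
    have : (⟨s, Perm.mem_alternatingGroup.mpr hsgn⟩ : alternatingGroup (Fin r)) ∈
        M.map (toAlt π he) := h ▸ Subgroup.mem_top _
    obtain ⟨g, hg, e⟩ := this
    exact ⟨g, hg, congrArg Subtype.val e⟩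

include hr he hs hmin in
theorem dichotomy (M : Subgroup G) [M.Normal] : M ≤ π.ker ∨ M = ⊤ := by
  haveI := alternatingGroup.isSimpleGroup (α := Fin r) (by simp; omega)
  rcases ((‹M.Normal›).map _ (toAlt_surjective he hs)).eq_bot_or_eq_top with h | h
  · left
    intro g hg
    have : toAlt π he g ∈ M.map (toAlt π he) := ⟨g, hg, rfl⟩
    rw [h, Subgroup.mem_bot] at this
    exact MonoidHom.mem_ker.mpr (congrArg Subtype.val this)
  · exact Or.inr (eq_top_of_map he hmin h)

include hr he hs hmin in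
theorem eq_top_of_index (M : Subgroup G) (h : M.index < r) : M = ⊤ := by
  refine eq_top_of_map he hmin (eq_top_of_index_lt (by omega) _ (lt_of_le_of_lt ?_ h))
  exact Nat.le_of_dvd (Nat.pos_of_ne_zero Subgroup.index_ne_zero_of_finite)
    (M.index_map_dvd (toAlt_surjective he hs))

include hr hs in
theorem not_comm : ¬ ∀ g h : G, π g * π h = π h * π g := by
  intro hc
  have hd : Distinct3 (⟨0, by omega⟩ : Fin r) ⟨1, by omega⟩ ⟨2, by omega⟩ :=
    ⟨by simp [Fin.ext_iff], by simp [Fin.ext_iff], by simp [Fin.ext_iff]⟩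
  have hd' : Distinct3 (⟨2, by omega⟩ : Fin r) ⟨3, by omega⟩ ⟨4, by omega⟩ :=
    ⟨by simp [Fin.ext_iff], by simp [Fin.ext_iff], by simp [Fin.ext_iff]⟩
  obtain ⟨g, hg⟩ := hs _ (sign_tc hd)
  obtain ⟨h, hh⟩ := hs _ (sign_tc hd')
  have := congrArg (fun s : Perm (Fin r) => s ⟨1, by omega⟩) (hc g h)
  simp only [hg, hh, Perm.mul_apply] at this
  have e1 : tc (⟨2, by omega⟩ : Fin r) ⟨3, by omega⟩ ⟨4, by omega⟩ ⟨1, by omega⟩ = ⟨1, by omega⟩ :=
    tc_other (by simp [Fin.ext_iff]) (by simp [Fin.ext_iff]) (by simp [Fin.ext_iff])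
  rw [e1, tc_snd hd, tc_fst hd'] at this
  exact absurd this (by simp [Fin.ext_iff])

include hr he hs hmin in
theorem commutator_eq_top : commutator G = ⊤ :=
  (dichotomy hr he hs hmin (commutator G)).resolve_left fun h => not_comm hr hs fun g h' => by
    have := h (Subgroup.commutator_mem_commutator (Subgroup.mem_top g) (Subgroup.mem_top h'))
    rw [MonoidHom.mem_ker, commutatorElement_def, map_mul, map_mul, map_mul, map_inv, map_inv,
      mul_inv_eq_one, mul_inv_eq_iff_eq_mul] at this
    exact this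

include hr he hs hmin in
theorem nilpotent_ker : Group.IsNilpotent π.ker := by
  refine ((Group.isNilpotent_of_finite_tfae (G := π.ker)).out 0 3 rfl rfl).mpr fun p hp P => ?_
  haveI := hp
  have hN : Subgroup.normalizer (P.toSubgroup.map π.ker.subtype : Set G) = ⊤ := by
    refine hmin _ fun s hsgn => ?_
    obtain ⟨g, rfl⟩ := hs s hsgn
    have hg : g ∈ Subgroup.normalizer (P.toSubgroup.map π.ker.subtype : Set G) ⊔ π.ker := by
      rw [Sylow.normalizer_sup_eq_top P]; exact Subgroup.mem_top g
    obtain ⟨a, ha, b, hb, rfl⟩ := Subgroup.mem_sup_of_normal_right.mp hg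
    exact ⟨a, ha, by rw [map_mul, MonoidHom.mem_ker.mp hb, mul_one]⟩
  haveI hn : (P.toSubgroup.map π.ker.subtype).Normal := Subgroup.normalizer_eq_top_iff.mp hN
  have := hn.comap π.ker.subtype
  rwa [Subgroup.comap_map_eq_self_of_injective π.ker.subtype_injective] at this

end Minimal

section Irreducible

variable {r : ℕ} {k W G : Type} [Field k] [IsAlgClosed k] [AddCommGroup W] [Module k W]
  [FiniteDimensional k W] [Group G] [Finite G] {ρ : G →* Module.End k W} {π : G →* Perm (Fin r)}
  (hr : 9 ≤ r) (he : ∀ g, Perm.sign (π g) = 1) (hs : ∀ s, Perm.sign s = 1 → ∃ g, π g = s)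
  (hmin : ∀ M : Subgroup G, (∀ s, Perm.sign s = 1 → ∃ g ∈ M, π g = s) → M = ⊤)
  (hinj : Function.Injective ρ)
  (hirr : ∀ U : Submodule k W, (∀ g, ∀ v ∈ U, ρ g v ∈ U) → U = ⊥ ∨ U = ⊤)

include hinj in
theorem central_of_scalar {g : G} {c : k} (hg : ρ g = c • 1) : g ∈ Subgroup.center G :=
  Subgroup.mem_center_iff.mpr fun h => hinj (by
    rw [map_mul, map_mul, hg, mul_smul_comm, smul_mul_assoc, mul_one, one_mul])

include hr he hs hmin hirr in
theorem scalar_of_abelian [Nontrivial W] (hn : finrank k W < r) (A : Subgroup G) [A.Normal]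
    (hA : ∀ a ∈ A, ∀ b ∈ A, a * b = b * a) : ∀ a ∈ A, ∃ c : k, ρ a = c • 1 := by
  classical
  let E : (A → k) → Submodule k W := fun χ =>
    ⨅ a : A, LinearMap.ker (ρ a.1 - χ a • (1 : Module.End k W))
  have hE : ∀ χ v, v ∈ E χ ↔ ∀ a : A, ρ a.1 v = χ a • v := fun χ v => by
    simp [E, Submodule.mem_iInf, sub_eq_zero]
  obtain ⟨χ₀, hχ₀⟩ : ∃ χ, E χ ≠ ⊥ := by
    -- a common eigenvector, by induction on the set of elements
    have key : ∀ s : Finset A, ∃ χ : A → k, ∃ U : Submodule k W, U ≠ ⊥ ∧
        (∀ a ∈ s, ∀ v ∈ U, ρ a.1 v = χ a • v) ∧ ∀ a : A, ∀ v ∈ U, ρ a.1 v ∈ U := by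
      intro s
      induction s using Finset.induction_on with
      | empty => exact ⟨0, ⊤, top_ne_bot, fun a h => absurd h (Finset.notMem_empty a),
          fun a v _ => Submodule.mem_top⟩
      | insert b s hb ih =>
        obtain ⟨χ, U, hU, h1, h2⟩ := ih
        haveI : Nontrivial U := Submodule.nontrivial_iff_ne_bot.mpr hU
        obtain ⟨μ, hμ⟩ := Module.End.exists_eigenvalue ((ρ b.1).restrict (h2 b))
        obtain ⟨⟨w, hwU⟩, hw⟩ := hμ.exists_hasEigenvector
        refine ⟨Function.update χ b μ, eig U (ρ b.1) μ, fun e => hw.2 ?_, ?_, ?_⟩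
        · have : w ∈ eig U (ρ b.1) μ := mem_eig.mpr ⟨hwU, congrArg Subtype.val hw.apply_eq_smul⟩
          rw [e, Submodule.mem_bot] at this
          exact Subtype.ext this
        · intro a ha v hv
          obtain ⟨hvU, hv'⟩ := mem_eig.mp hv
          rcases Finset.mem_insert.mp ha with rfl | ha'
          · rw [Function.update_self]; exact hv'
          · rw [Function.update_of_ne fun (e : a = b) => hb (e ▸ ha')]; exact h1 a ha' v hvU
        · intro a v hv
          obtain ⟨hvU, hv'⟩ := mem_eig.mp hv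
          refine mem_eig.mpr ⟨h2 a v hvU, ?_⟩
          rw [← Module.End.mul_apply, ← map_mul, hA b.1 b.2 a.1 a.2, map_mul,
            Module.End.mul_apply, hv', map_smul]
    haveI := Fintype.ofFinite A
    obtain ⟨χ, U, hU, h1, -⟩ := key Finset.univ
    exact ⟨χ, ne_bot_of_le_ne_bot hU fun v hv => (hE χ v).mpr fun a => h1 a (Finset.mem_univ a) v hv⟩
  let Ω := {χ : A → k // E χ ≠ ⊥}
  choose v hv hv0 using fun χ : Ω => Submodule.exists_mem_ne_zero_of_ne_bot χ.2
  have hli : LinearIndependent k v := linearIndependent_eigen (ρ.comp A.subtype) v (fun χ => χ.1)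
    hv0 (fun χ a => (hE _ _).mp (hv χ) a) fun χ χ' e => Subtype.ext e
  haveI : Finite Ω := hli.finite
  haveI := Fintype.ofFinite Ω
  have hΩ : Nat.card Ω ≤ finrank k W := by
    rw [Nat.card_eq_fintype_card]; exact hli.fintype_card_le_finrank
  let tw : G → (A → k) → A → k := fun g χ a =>
    χ ⟨g⁻¹ * a.1 * g, by simpa using Subgroup.Normal.conj_mem ‹A.Normal› a.1 a.2 g⁻¹⟩
  have htw : ∀ g h χ, tw (g * h) χ = tw g (tw h χ) := fun g h χ => funext fun a =>
    congrArg χ (Subtype.ext (by simp [mul_assoc]))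
  have htw1 : ∀ χ, tw 1 χ = χ := fun χ => funext fun a => congrArg χ (Subtype.ext (by simp))
  have hmove : ∀ g χ u, u ∈ E χ → ρ g u ∈ E (tw g χ) := fun g χ u hu => by
    rw [hE] at hu ⊢
    intro a
    rw [← Module.End.mul_apply, ← map_mul, show a.1 * g = g * (g⁻¹ * a.1 * g) by group, map_mul,
      Module.End.mul_apply, hu ⟨g⁻¹ * a.1 * g, _⟩, map_smul]
  let M : Subgroup G :=
    { carrier := {g | tw g χ₀ = χ₀}
      mul_mem' := fun {g h} hg hh => by
        show tw (g * h) χ₀ = χ₀
        rw [htw, show tw h χ₀ = χ₀ from hh]; exact hg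
      one_mem' := htw1 χ₀
      inv_mem' := fun {g} hg => by
        show tw g⁻¹ χ₀ = χ₀
        conv_lhs => rw [← show tw g χ₀ = χ₀ from hg]
        rw [← htw, inv_mul_cancel, htw1] }
  have hMtop : M = ⊤ := by
    refine eq_top_of_index hr he hs hmin M (lt_of_le_of_lt ?_ hn)
    rw [Subgroup.index_eq_card]
    refine le_trans (Nat.card_le_card_of_injective (β := Ω) (Quotient.lift (fun g => (⟨tw g χ₀, ?_⟩ : Ω))
      ?_) ?_) hΩ
    · obtain ⟨u, hu, hu0⟩ := Submodule.exists_mem_ne_zero_of_ne_bot hχ₀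
      intro e
      have := hmove g χ₀ u hu
      rw [e, Submodule.mem_bot] at this
      apply hu0
      rw [← Module.End.one_apply (R := k) u, ← map_one ρ, ← inv_mul_cancel g, map_mul,
        Module.End.mul_apply, this, map_zero]
    · intro g h hgh
      apply Subtype.ext
      have : g⁻¹ * h ∈ M := QuotientGroup.leftRel_apply.mp hgh
      show tw g χ₀ = tw h χ₀
      rw [show h = g * (g⁻¹ * h) by group, htw g (g⁻¹ * h), show tw (g⁻¹ * h) χ₀ = χ₀ from this]
    · rintro ⟨g⟩ ⟨h⟩ e
      refine Quotient.sound (QuotientGroup.leftRel_apply.mpr ?_)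
      show tw (g⁻¹ * h) χ₀ = χ₀
      rw [htw, ← show tw g χ₀ = tw h χ₀ from congrArg Subtype.val e, ← htw, inv_mul_cancel, htw1]
  have htop : E χ₀ = ⊤ := (hirr _ fun g u hu => by
    have hg : g ∈ M := hMtop ▸ Subgroup.mem_top g
    have := hmove g χ₀ u hu
    rwa [show tw g χ₀ = χ₀ from hg] at this).resolve_left hχ₀
  intro a ha
  exact ⟨χ₀ ⟨a, ha⟩, LinearMap.ext fun u => (hE χ₀ u).mp (htop ▸ Submodule.mem_top) ⟨a, ha⟩⟩

include hr he hs hmin hinj hirr in
theorem ker_le_center [Nontrivial W] (hn : finrank k W < r)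
    (hdim : ∀ j < finrank k W, BoundDim r j) : π.ker ≤ Subgroup.center G := by
  classical
  have habel : ∀ A : Subgroup G, A.Normal → (∀ a ∈ A, ∀ b ∈ A, a * b = b * a) →
      A ≤ Subgroup.center G := fun A hA hab a ha => by
    obtain ⟨c, hc⟩ := scalar_of_abelian hr he hs hmin hirr hn A hab a ha
    exact central_of_scalar hinj hc
  have hscal : ∀ g ∈ Subgroup.center G, ∃ c : k, ρ g = c • 1 :=
    scalar_of_abelian hr he hs hmin hirr hn (Subgroup.center G)
      fun a ha b _ => (Subgroup.mem_center_iff.mp ha b).symm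
  by_contra hK
  haveI := nilpotent_ker hr he hs hmin
  let mq := QuotientGroup.mk' (Subgroup.center G)
  let Kq := π.ker.map mq
  haveI hKqN : Kq.Normal := (inferInstance : π.ker.Normal).map mq (QuotientGroup.mk'_surjective _)
  haveI : Group.IsNilpotent Kq :=
    nilpotent_of_surjective (mq.subgroupMap π.ker) (mq.subgroupMap_surjective π.ker)
  haveI : Nontrivial Kq := (Subgroup.nontrivial_iff_ne_bot _).mpr fun e => hK fun g hg => by
    have : mq g ∈ Kq := ⟨g, hg, rfl⟩
    rw [e, Subgroup.mem_bot] at this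
    exact (QuotientGroup.eq_one_iff g).mp this
  have hcard : Nat.card (Subgroup.center Kq) ≠ 1 := fun e =>
    Group.IsNilpotent.center_ne_bot (G := Kq) (Subgroup.eq_bot_of_card_eq _ e)
  obtain ⟨ℓ, hℓ, hdvd⟩ := Nat.exists_prime_and_dvd hcard
  haveI : Fact ℓ.Prime := ⟨hℓ⟩
  obtain ⟨z, hz⟩ := exists_prime_orderOf_dvd_card' ℓ hdvd
  let U : Subgroup (G ⧸ Subgroup.center G) :=
    { carrier := {u | u ∈ Kq ∧ (∀ y ∈ Kq, y * u = u * y) ∧ u ^ ℓ = 1}
      mul_mem' := fun {a b} ha hb => ⟨mul_mem ha.1 hb.1, fun y hy => by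
          rw [← mul_assoc, ha.2.1 y hy, mul_assoc, hb.2.1 y hy, ← mul_assoc],
          by rw [Commute.mul_pow (hb.2.1 a ha.1), ha.2.2, hb.2.2, one_mul]⟩
      one_mem' := ⟨one_mem _, fun y _ => by simp, one_pow _⟩
      inv_mem' := fun {a} ha => ⟨inv_mem ha.1, fun y hy => (Commute.inv_right (ha.2.1 y hy)).eq,
          by rw [inv_pow, ha.2.2, inv_one]⟩ }
  haveI hUN : U.Normal := ⟨fun u hu g => ⟨hKqN.conj_mem u hu.1 g, fun y hy => by
      have := hu.2.1 _ (hKqN.conj_mem' y hy g)
      calc y * (g * u * g⁻¹) = g * ((g⁻¹ * y * g) * u) * g⁻¹ := by group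
        _ = g * (u * (g⁻¹ * y * g)) * g⁻¹ := by rw [this]
        _ = g * u * g⁻¹ * y := by group,
    by rw [conj_pow, hu.2.2, mul_one, mul_inv_cancel]⟩⟩
  have hUz : ((z : Kq) : G ⧸ Subgroup.center G) ∈ U := by
    refine ⟨(z : Kq).2, fun y hy => ?_, ?_⟩
    · exact congrArg Subtype.val (Subgroup.mem_center_iff.mp z.2 ⟨y, hy⟩)
    · have := pow_orderOf_eq_one z
      rw [hz] at this
      exact congrArg (fun w : Subgroup.center Kq => ((w : Kq) : G ⧸ Subgroup.center G)) this
  have hUne : ((z : Kq) : G ⧸ Subgroup.center G) ≠ 1 := fun e => hℓ.ne_one (by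
    rw [← hz, orderOf_eq_one_iff]
    exact Subtype.ext (Subtype.ext e))
  -- lifts of the elements of `U` have independent images
  choose x hxK hx using fun u : U => Subgroup.mem_map.mp u.2.1
  have hc : ∀ (u : U) (y : π.ker), ∃ c : k, ρ ((x u)⁻¹ * y.1 * x u * y.1⁻¹) = c • 1 := fun u y =>
    hscal _ ((QuotientGroup.eq_one_iff _).mp (by
      show mq _ = 1
      simp only [map_mul, map_inv, hx]
      have := u.2.2.1 (mq y.1) ⟨y.1, y.2, rfl⟩
      rw [mul_assoc (u.1)⁻¹, this]; group))
  choose c hc using hc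
  let act : π.ker →* Module.End k (Module.End k W) :=
    { toFun := fun y => LinearMap.mulLeft k (ρ y.1) * LinearMap.mulRight k (ρ y.1⁻¹)
      map_one' := by ext; simp
      map_mul' := fun y y' => by
        refine LinearMap.ext fun f => ?_
        simp [mul_assoc] }
  have hact : ∀ u y, act y (ρ (x u)) = c u y • ρ (x u) := by
    intro u y
    show ρ y.1 * (ρ (x u) * ρ y.1⁻¹) = _
    rw [← map_mul, ← map_mul,
      show y.1 * (x u * y.1⁻¹) = x u * ((x u)⁻¹ * y.1 * x u * y.1⁻¹) by group, map_mul, hc,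
      mul_smul_comm, mul_one]
  have hx0 : ∀ u, ρ (x u) ≠ 0 := fun u e => by
    have h : ρ (x u) * ρ (x u)⁻¹ = 1 := by rw [← map_mul, mul_inv_cancel, map_one]
    rw [e, zero_mul] at h
    exact zero_ne_one h
  have hcinj : Function.Injective c := by
    intro u w e
    have hcent : x u * (x w)⁻¹ ∈ (Subgroup.center π.ker).map π.ker.subtype := by
      refine ⟨⟨x u * (x w)⁻¹, mul_mem (hxK u) (inv_mem (hxK w))⟩,
        Subgroup.mem_center_iff.mpr fun y => Subtype.ext ?_, rfl⟩
      have h1 : (x u)⁻¹ * y.1 * x u * y.1⁻¹ = (x w)⁻¹ * y.1 * x w * y.1⁻¹ :=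
        hinj (by rw [hc, hc, e])
      show y.1 * (x u * (x w)⁻¹) = x u * (x w)⁻¹ * y.1
      calc y.1 * (x u * (x w)⁻¹) = x u * ((x u)⁻¹ * y.1 * x u * y.1⁻¹) * y.1 * (x w)⁻¹ := by group
        _ = x u * ((x w)⁻¹ * y.1 * x w * y.1⁻¹) * y.1 * (x w)⁻¹ := by rw [h1]
        _ = x u * (x w)⁻¹ * y.1 := by group
    have hcG := habel _ inferInstance (fun a ha b hb => by
      obtain ⟨a, ha, rfl⟩ := ha
      obtain ⟨b, -, rfl⟩ := hb
      exact congrArg Subtype.val (Subgroup.mem_center_iff.mp ha b).symm) hcent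
    have := (QuotientGroup.eq_one_iff _).mpr hcG
    apply Subtype.ext
    rw [← hx u, ← hx w, ← mul_inv_eq_one, ← map_inv, ← map_mul]
    exact this
  have hUcard : Nat.card U ≤ finrank k W * finrank k W := by
    haveI := Fintype.ofFinite U
    rw [Nat.card_eq_fintype_card, ← Module.finrank_linearMap k k W W]
    exact (linearIndependent_eigen act (fun u => ρ (x u)) c hx0 hact hcinj).fintype_card_le_finrank
  -- the representation on `U`
  letI : CommGroup U := { (inferInstance : Group U) with
    mul_comm := fun a b => Subtype.ext (b.2.2.1 _ a.2.1) }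
  haveI : Finite (Additive U) := inferInstanceAs (Finite U)
  let cj : (G ⧸ Subgroup.center G) → (Additive U →+ Additive U) := fun q =>
    AddMonoidHom.mk' (fun a => Additive.ofMul
      (⟨q * (Additive.toMul a).1 * q⁻¹, hUN.conj_mem _ (Additive.toMul a).2 q⟩ : U))
      fun a b => Additive.toMul.injective (Subtype.ext (by
        show q * ((Additive.toMul a).1 * (Additive.toMul b).1) * q⁻¹ =
          q * (Additive.toMul a).1 * q⁻¹ * (q * (Additive.toMul b).1 * q⁻¹)
        group))
  have cj_val : ∀ q a, (Additive.toMul (cj q a)).1 = q * (Additive.toMul a).1 * q⁻¹ :=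
    fun _ _ => rfl
  obtain ⟨j, Ψ, hjcard, hΨfix⟩ := exists_matrix_rep (A := Additive U) ℓ
    (fun a => Additive.toMul.injective (Subtype.ext (by simpa using (Additive.toMul a).2.2.2)))
    (fun g => cj (mq g)) (fun a => Additive.toMul.injective (Subtype.ext (by
      rw [cj_val, map_one, one_mul, inv_one, mul_one])))
    (fun g g' a => Additive.toMul.injective (Subtype.ext (by
      rw [cj_val, cj_val, cj_val, map_mul]; group)))
  have hΨ : ∀ g, Ψ g = 1 → π g = 1 := by
    intro g hg
    have hmem : g ∈ Ψ.toHomUnits.ker := MonoidHom.mem_ker.mpr (Units.ext hg)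
    rcases dichotomy hr he hs hmin Ψ.toHomUnits.ker with h | h
    · exact h hmem
    exfalso
    apply hUne
    set u : U := ⟨_, hUz⟩ with hu
    have hcm : ∀ g, g * x u * g⁻¹ * (x u)⁻¹ ∈ Subgroup.center G := fun g => by
      refine (QuotientGroup.eq_one_iff _).mp ?_
      show mq _ = 1
      have hg : Ψ g = 1 := congrArg Units.val (MonoidHom.mem_ker.mp (h ▸ Subgroup.mem_top g))
      have := congrArg (fun a => (Additive.toMul a).1) (hΨfix g hg (Additive.ofMul u))
      simp only [cj_val, toMul_ofMul] at this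
      simp only [map_mul, map_inv, hx]
      rw [mul_inv_eq_one]
      exact this
    let ψ : G →* Subgroup.center G :=
      { toFun := fun g => ⟨_, hcm g⟩
        map_one' := Subtype.ext (by simp)
        map_mul' := fun g g' => Subtype.ext (by
          have hz' := Subgroup.mem_center_iff.mp (hcm g') g
          show g * g' * x u * (g * g')⁻¹ * (x u)⁻¹ =
            g * x u * g⁻¹ * (x u)⁻¹ * (g' * x u * g'⁻¹ * (x u)⁻¹)
          calc g * g' * x u * (g * g')⁻¹ * (x u)⁻¹
              = g * (g' * x u * g'⁻¹ * (x u)⁻¹) * g⁻¹ * (g * x u * g⁻¹ * (x u)⁻¹) := by group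
            _ = g' * x u * g'⁻¹ * (x u)⁻¹ * (g * x u * g⁻¹ * (x u)⁻¹) := by rw [hz']; group
            _ = _ := ((Subgroup.mem_center_iff.mp (hcm g')) _).symm) }
    letI : CommGroup (Subgroup.center G) :=
      { (inferInstance : Group (Subgroup.center G)) with
        mul_comm := fun a b => Subtype.ext ((Subgroup.mem_center_iff.mp b.2) a.1) }
    have hψ : commutator G ≤ ψ.ker := Abelianization.commutator_subset_ker ψ
    rw [commutator_eq_top hr he hs hmin] at hψ
    have hxc : x u ∈ Subgroup.center G := Subgroup.mem_center_iff.mpr fun g => by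
      have := congrArg Subtype.val (MonoidHom.mem_ker.mp (hψ (Subgroup.mem_top g)))
      simp only [ψ, MonoidHom.coe_mk, OneHom.coe_mk, OneMemClass.coe_one, mul_inv_eq_one,
        mul_inv_eq_iff_eq_mul] at this
      rwa [one_mul] at this
    have := (QuotientGroup.eq_one_iff _).mpr hxc
    rw [← show mq (x u) = (u : G ⧸ Subgroup.center G) from hx u]
    exact this
  have hUj : ℓ ^ j ≤ finrank k W * finrank k W := hjcard ▸ hUcard
  have h2j : 2 ^ j ≤ ℓ ^ j := Nat.pow_le_pow_left hℓ.two_le j
  by_cases hn5 : 5 ≤ finrank k W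
  · have hjn : j < finrank k W := by
      by_contra hle
      have h1 : 2 ^ finrank k W ≤ 2 ^ j := Nat.pow_le_pow_right (by norm_num) (by omega)
      have h2 : ∀ m, 5 ≤ m → m * m < 2 ^ m := by
        intro m hm
        induction m, hm using Nat.le_induction with
        | base => norm_num
        | succ m hm ih => rw [pow_succ]; nlinarith
      have := h2 _ hn5
      omega
    let L := AlgebraicClosure (ZMod ℓ)
    haveI : CharP L ℓ := charP_of_injective_algebraMap (algebraMap (ZMod ℓ) L).injective ℓ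
    let ι : Matrix (Fin j) (Fin j) (ZMod ℓ) →* Module.End L (Fin j → L) :=
      (Matrix.toLinAlgEquiv' : Matrix (Fin j) (Fin j) L ≃ₐ[L] _).toAlgHom.toRingHom.toMonoidHom.comp
        (algebraMap (ZMod ℓ) L).mapMatrix.toMonoidHom
    have hι : Function.Injective ι :=
      (Matrix.toLinAlgEquiv' : Matrix (Fin j) (Fin j) L ≃ₐ[L] _).injective.comp
        (Matrix.map_injective (algebraMap (ZMod ℓ) L).injective)
    have hb := hdim j hjn ℓ L (Fin j → L) G (ι.comp Ψ) π (by simp) he hs
      fun g hg => hΨ g (hι (hg.trans (map_one ι).symm))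
    have hj7 := le_bnd ℓ r
    have h3 : 2 ^ (r - 2) ≤ 2 ^ j := Nat.pow_le_pow_right (by norm_num) (by omega)
    have h4 : ∀ m, 9 ≤ m → m * m ≤ 2 ^ (m - 2) := by
      intro m hm
      induction m, hm using Nat.le_induction with
      | base => norm_num
      | succ m hm ih => rw [show m + 1 - 2 = m - 2 + 1 by omega, pow_succ]; nlinarith
    have := h4 r hr
    nlinarith
  · -- small dimension
    have hj4 : j ≤ 4 := by
      by_contra hgt
      have h1 : 2 ^ 5 ≤ 2 ^ j := Nat.pow_le_pow_right (by norm_num) (by omega)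
      nlinarith
    have h16 : ℓ ^ j ≤ 16 := by nlinarith
    have hsmall : Nat.card (Matrix (Fin j) (Fin j) (ZMod ℓ)) ≤ 65536 := by
      rw [show Nat.card (Matrix (Fin j) (Fin j) (ZMod ℓ)) = (ℓ ^ j) ^ j by
        simp [Matrix, Nat.card_fun, Nat.card_zmod]]
      calc (ℓ ^ j) ^ j ≤ 16 ^ j := Nat.pow_le_pow_left h16 j
        _ ≤ 16 ^ 4 := Nat.pow_le_pow_right (by norm_num) hj4
        _ = 65536 := by norm_num
    have hle : Ψ.toHomUnits.ker ≤ π.ker := fun g hg =>
      MonoidHom.mem_ker.mpr (hΨ g (congrArg Units.val (MonoidHom.mem_ker.mp hg)))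
    have h1 : π.ker.index ≤ Ψ.toHomUnits.ker.index :=
      Nat.le_of_dvd (Nat.pos_of_ne_zero Subgroup.index_ne_zero_of_finite)
        (Subgroup.index_dvd_of_le hle)
    have h2 : Ψ.toHomUnits.ker.index ≤ 65536 := by
      rw [Subgroup.index_ker]
      exact le_trans (Nat.card_le_card_of_injective
        (fun u : Ψ.toHomUnits.range => (u : (Matrix (Fin j) (Fin j) (ZMod ℓ))ˣ).val)
        fun u w e => Subtype.ext (Units.ext e)) hsmall
    have h3 : Nat.card (alternatingGroup (Fin r)) ≤ π.ker.index := by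
      rw [Subgroup.index_ker]
      exact Nat.card_le_card_of_injective (fun s => (⟨s.1, by
        obtain ⟨g, hg⟩ := hs s.1 (Perm.mem_alternatingGroup.mp s.2); exact ⟨g, hg⟩⟩ : π.range))
        fun s t e => Subtype.ext (congrArg (fun w : π.range => w.1) e)
    haveI : Nontrivial (Fin r) := Fin.nontrivial_iff_two_le.mpr (by omega)
    have h4 := two_mul_nat_card_alternatingGroup (α := Fin r)
    rw [Nat.card_perm, Nat.card_fin] at h4
    have h5 : Nat.factorial 9 ≤ r.factorial := Nat.factorial_le hr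
    have h6 : Nat.factorial 9 = 362880 := rfl
    omega

end Irreducible

theorem boundDim (r : ℕ) : 9 ≤ r → ∀ n, BoundDim r n := by
  induction r using Nat.strong_induction_on with
  | _ r ihr =>
  intro hr n
  induction n using Nat.strong_induction_on with
  | _ n ihn =>
  intro p _ k _ _ _ W G _ _ _ _ _ ρ π hW he hs hker
  suffices key : ∀ (N : ℕ) (G : Type) [Group G] [Finite G] (ρ : G →* Module.End k W)
      (π : G →* Perm (Fin r)), Nat.card G = N → (∀ g, Perm.sign (π g) = 1) →
      (∀ s, Perm.sign s = 1 → ∃ g, π g = s) → (∀ g, ρ g = 1 → π g = 1) → bnd p r ≤ n from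
    key _ G ρ π rfl he hs hker
  clear hker he hs π ρ
  intro N
  induction N using Nat.strong_induction_on with
  | _ N ihN =>
  intro G _ _ ρ π hN he hs hker
  by_contra hbad
  have hnr : n < r := by have := bnd_le p r; omega
  have hinj : Function.Injective ρ := by
    have hk : ρ.toHomUnits.ker = ⊥ := by
      by_contra hne
      have hle : ρ.toHomUnits.ker ≤ π.ker := fun g hg =>
        MonoidHom.mem_ker.mpr (hker g (congrArg Units.val (MonoidHom.mem_ker.mp hg)))
      refine hbad (ihN _ ?_ (G ⧸ ρ.toHomUnits.ker)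
        ((Units.coeHom _).comp (QuotientGroup.kerLift ρ.toHomUnits))
        (QuotientGroup.lift _ π hle) rfl ?_ ?_ ?_)
      · have h := Subgroup.card_eq_card_quotient_mul_card_subgroup ρ.toHomUnits.ker
        have h2 := (Subgroup.one_lt_card_iff_ne_bot _).mpr hne
        have h3 := Nat.card_pos (α := G ⧸ ρ.toHomUnits.ker)
        rw [← hN, h]
        exact lt_mul_of_one_lt_right h3 h2
      · rintro ⟨g⟩; exact he g
      · intro s hsgn; obtain ⟨g, hg⟩ := hs s hsgn; exact ⟨QuotientGroup.mk g, hg⟩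
      · rintro ⟨g⟩ hg; exact hker g hg
    intro a b e
    have h := (MonoidHom.ker_eq_bot_iff _).mp hk
    exact h (Units.ext e)
  have hmin : ∀ M : Subgroup G, (∀ s, Perm.sign s = 1 → ∃ g ∈ M, π g = s) → M = ⊤ := by
    intro M hM
    by_contra hne
    refine hbad (ihN _ ?_ M (ρ.comp M.subtype) (π.comp M.subtype) rfl (fun g => he _)
      (fun s hsgn => ?_) fun g hg => hker _ hg)
    · rw [← hN]
      exact lt_of_le_of_ne (Subgroup.card_le_card_group M) fun e =>
        hne (Subgroup.eq_top_of_card_eq M e)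
    · obtain ⟨g, hg, e⟩ := hM s hsgn
      exact ⟨⟨g, hg⟩, e⟩
  have h2 : 2 ≤ finrank k W := by
    by_contra hlt
    refine not_comm hr hs fun g h => ?_
    rw [← map_mul, ← map_mul]
    suffices g * h = h * g by rw [this]
    refine hinj ?_
    rw [map_mul, map_mul]
    have hone : ∀ f : Module.End k W, ∃ c : k, f = c • 1 := by
      intro f
      by_cases h0 : finrank k W = 0
      · haveI := Module.finrank_zero_iff.mp h0
        exact ⟨0, LinearMap.ext fun v => Subsingleton.elim _ _⟩
      · obtain ⟨e, he0, hspan⟩ := finrank_eq_one_iff'.mp (show finrank k W = 1 by omega)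
        obtain ⟨c, hc⟩ := hspan (f e)
        refine ⟨c, LinearMap.ext fun v => ?_⟩
        obtain ⟨t, rfl⟩ := hspan v
        rw [map_smul, LinearMap.smul_apply, Module.End.one_apply, ← hc, smul_comm]
    obtain ⟨c, hc⟩ := hone (ρ g)
    rw [hc, smul_mul_assoc, one_mul, mul_smul_comm, mul_one]
  haveI : Nontrivial W := Module.nontrivial_of_finrank_pos (by omega : 0 < finrank k W)
  have hirr : ∀ U : Submodule k W, (∀ g, ∀ v ∈ U, ρ g v ∈ U) → U = ⊥ ∨ U = ⊤ := by
    intro U hU
    by_contra hcon
    rw [not_or] at hcon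
    let ρ₁ : G →* Module.End k U :=
      { toFun := fun g => (ρ g).restrict (hU g)
        map_one' := by ext v; simp
        map_mul' := fun g h => by ext v; simp }
    have hU' : ∀ g, U ≤ U.comap (ρ g) := fun g v hv => hU g v hv
    let ρ₂ : G →* Module.End k (W ⧸ U) :=
      { toFun := fun g => U.mapQ U (ρ g) (hU' g)
        map_one' := by ext v; simp
        map_mul' := fun g h => by ext v; simp }
    have d1 : finrank k U < finrank k W := Submodule.finrank_lt hcon.2
    have d2 : finrank k (W ⧸ U) < finrank k W := by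
      have := U.finrank_quotient_add_finrank
      have := Submodule.one_le_finrank_iff.mpr hcon.1
      omega
    have htriv : ∀ (V' : Type) [AddCommGroup V'] [Module k V'] [FiniteDimensional k V']
        (σ : G →* Module.End k V'), finrank k V' < finrank k W → ∀ g, σ g = 1 := by
      intro V' _ _ _ σ hlt g
      have hnot : ¬ ∀ g, σ g = 1 → π g = 1 := fun hk => hbad
        ((ihn _ (by omega) p k V' G σ π rfl he hs hk).trans (by omega))
      rcases dichotomy hr he hs hmin σ.toHomUnits.ker with h | h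
      · exact absurd (fun g hg => MonoidHom.mem_ker.mp (h (MonoidHom.mem_ker.mpr (Units.ext hg))))
          hnot
      · exact congrArg Units.val (MonoidHom.mem_ker.mp (h ▸ Subgroup.mem_top g))
    have t1 : ∀ g, ∀ v ∈ U, ρ g v = v := fun g v hv =>
      congrArg Subtype.val (LinearMap.congr_fun (htriv U ρ₁ d1 g) ⟨v, hv⟩)
    have t2 : ∀ g v, ρ g v - v ∈ U := fun g v => by
      have := LinearMap.congr_fun (htriv (W ⧸ U) ρ₂ d2 g) (Submodule.Quotient.mk v)
      exact (Submodule.Quotient.eq U).mp this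
    refine not_comm hr hs fun g h => ?_
    rw [← map_mul, ← map_mul]
    suffices g * h = h * g by rw [this]
    refine hinj (LinearMap.ext fun v => ?_)
    rw [map_mul, map_mul, Module.End.mul_apply, Module.End.mul_apply]
    have e1 := t1 g _ (t2 h v)
    have e2 := t1 h _ (t2 g v)
    rw [map_sub, sub_eq_iff_eq_add] at e1 e2
    rw [e1, e2]; abel
  have hK : π.ker ≤ Subgroup.center G :=
    ker_le_center hr he hs hmin hinj hirr (by omega)
      (by rw [hW]; exact fun j hj => ihn j hj)
  let C : Ctx r k W G :=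
    { ρ := ρ, π := π, hr := hr, π_even := he, π_surj := hs, irred := hirr, two_le := h2
      scalar_iff := fun g => ⟨fun hg => scalar_of_abelian hr he hs hmin hirr (by omega)
          (Subgroup.center G) (fun a ha b _ => (Subgroup.mem_center_iff.mp ha b).symm) g
          (hK (MonoidHom.mem_ker.mpr hg)), fun ⟨c, hc⟩ => by
        by_contra hne
        haveI : Nontrivial (Fin r) := Fin.nontrivial_iff_two_le.mpr (by omega)
        have hcen := central_of_scalar hinj hc
        have : toAlt π he g ∈ Subgroup.center (alternatingGroup (Fin r)) :=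
          Subgroup.mem_center_iff.mpr fun s => by
            obtain ⟨h, rfl⟩ := toAlt_surjective he hs s
            rw [← map_mul, ← map_mul, Subgroup.mem_center_iff.mp hcen h]
        rw [alternatingGroup.center_eq_bot (by simp; omega), Subgroup.mem_bot] at this
        exact hne (congrArg Subtype.val this)⟩ }
  have := C.bound (p := p) fun m hm9 hmr V' G' _ _ _ _ _ ρ' π' he' hs' hk' =>
    ihr m hmr hm9 _ p k V' G' ρ' π' rfl he' hs' hk'
  omega

end Cfsg.Agent.AltSection
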