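import Cfsg.Agent.AltSection.Pieces
import Cfsg.Agent.AltSection.Trivial

/-!
Small degrees: lower bounds from commuting three-cycles and from five-cycles.
-/

set_option autoImplicit false
set_option linter.unusedSectionVars false

namespace Cfsg.Agent.AltSection

open Equiv Module

variable {r : ℕ} {k V G : Type} [Field k] [AddCommGroup V] [Module k V] [FiniteDimensional k V]
  [Group G] [Finite G]

theorem exists_omega [IsAlgClosed k] (h3 : (3 : k) ≠ 0) : ∃ ω : k, ω * ω + ω + 1 = 0 ∧ ω ≠ 1 := by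
  obtain ⟨ω, hω⟩ := IsAlgClosed.exists_root
    (Polynomial.C 1 * Polynomial.X ^ 2 + Polynomial.C 1 * Polynomial.X + Polynomial.C (1 : k))
    (by rw [Polynomial.degree_quadratic one_ne_zero]; decide)
  simp only [Polynomial.IsRoot, Polynomial.eval_add, Polynomial.eval_mul, Polynomial.eval_C,
    Polynomial.eval_pow, Polynomial.eval_X] at hω
  exact ⟨ω, by linear_combination hω, fun e => h3 (by rw [e] at hω; linear_combination hω)⟩

/-- The eigenspace of `f` inside `U`. -/
def eig (U : Submodule k V) (f : Module.End k V) (μ : k) : Submodule k V :=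
  U ⊓ LinearMap.ker (f - μ • 1)

theorem mem_eig {U : Submodule k V} {f : Module.End k V} {μ : k} {v : V} :
    v ∈ eig U f μ ↔ v ∈ U ∧ f v = μ • v := by
  simp [eig, sub_eq_zero]

theorem eig_pair_disjoint {U : Submodule k V} {f : Module.End k V} {μ ν : k} (h : μ ≠ ν) :
    eig U f μ ⊓ eig U f ν = ⊥ := by
  refine (Submodule.eq_bot_iff _).mpr fun v hv => ?_
  rw [Submodule.mem_inf, mem_eig, mem_eig] at hv
  have e : (μ - ν) • v = 0 := by rw [sub_smul, ← hv.1.2, hv.2.2, sub_self]
  exact (smul_eq_zero.mp e).resolve_left (sub_ne_zero.mpr h)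

theorem eq_smul_of_finrank_le_one {W : Submodule k V} (h : finrank k W ≤ 1) {e v : V} (he : e ∈ W)
    (he0 : e ≠ 0) (hv : v ∈ W) : ∃ t : k, v = t • e := by
  have hle : Submodule.span k {e} ≤ W := by rwa [Submodule.span_singleton_le_iff_mem]
  have := Submodule.eq_of_le_of_finrank_le hle (by rw [finrank_span_singleton he0]; exact h)
  rw [← this, Submodule.mem_span_singleton] at hv
  obtain ⟨t, ht⟩ := hv
  exact ⟨t, ht.symm⟩

namespace Ctx

variable {C : Ctx r k V G}

theorem rho_injective (g : G) : Function.Injective (C.ρ g) := fun p q e => by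
  have := congrArg (C.ρ g⁻¹) e
  rwa [← Module.End.mul_apply, ← Module.End.mul_apply, C.rho_inv_mul, Module.End.one_apply,
    Module.End.one_apply] at this

theorem rho_map_zero_iff (g : G) {v : V} : C.ρ g v = 0 ↔ v = 0 :=
  ⟨fun e => rho_injective g (e.trans (map_zero _).symm), fun e => by rw [e, map_zero]⟩

theorem small_three [IsAlgClosed k] (h3 : (3 : k) ≠ 0) {a b c : Fin r} (hd : Distinct3 a b c)
    {U : Submodule k V} (hU : C.Stab (tc a b c) U) (hnt : ¬ C.TrivOn (tc a b c) U) :
    4 ≤ finrank k U := by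
  classical
  have hr := C.hr
  obtain ⟨ω, hω, hω1⟩ := exists_omega (k := k) h3
  have hω3 : ω * ω * ω = 1 := by linear_combination (ω - 1) * hω
  have hω0 : ω ≠ 0 := fun e => by rw [e] at hω; simp at hω
  have hω2 : ω * ω ≠ 1 := fun e => hω1 (by rw [e, one_mul] at hω3; exact hω3)
  have hωω : ω ≠ ω * ω := fun e => hω1 (mul_left_cancel₀ hω0 (e.symm.trans (mul_one ω).symm))
  obtain ⟨d, hdd⟩ := exists_avoid hr [a, b, c] (by simp)
  obtain ⟨e, hee⟩ := exists_avoid hr [a, b, c, d] (by simp)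
  obtain ⟨f, hff⟩ := exists_avoid hr [a, b, c, d, e] (by simp)
  obtain ⟨g, hgg⟩ := exists_avoid hr [a, b, c, d, e, f] (by simp)
  obtain ⟨i, hii⟩ := exists_avoid hr [a, b, c, d, e, f, g] (by simp)
  obtain ⟨j, hjj⟩ := exists_avoid hr [a, b, c, d, e, f, g, i] (by simp)
  simp only [List.mem_cons, List.not_mem_nil, or_false, not_or] at hdd hee hff hgg hii hjj
  obtain ⟨da, db, dc⟩ := hdd
  obtain ⟨ea, eb, ec, ed⟩ := hee
  obtain ⟨fa, fb, fc, fd, fe⟩ := hff
  obtain ⟨ga, gb, gc, gd, ge, gf⟩ := hgg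
  obtain ⟨ia, ib, ic, id', ie, if', ig⟩ := hii
  obtain ⟨ja, jb, jc, jd, je, jf, jg, ji⟩ := hjj
  have d1 : Distinct3 d e f := ⟨Ne.symm ed, Ne.symm fe, Ne.symm fd⟩
  have d2 : Distinct3 g i j := ⟨Ne.symm ig, Ne.symm ji, Ne.symm jg⟩
  have t1 := three_tc d1
  have t2 := three_tc d2
  have hx1 : (tc a b c).Disjoint (tc d e f) := disjoint_tc da db dc ea eb ec fa fb fc
  have hx2 : (tc a b c).Disjoint (tc g i j) := disjoint_tc ga gb gc ia ib ic ja jb jc
  have h12 : (tc d e f).Disjoint (tc g i j) := disjoint_tc gd ge gf id' ie if' jd je jf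
  set T1 := C.T (tc d e f) with hT1
  set T2 := C.T (tc g i j) with hT2
  set σ : Perm (Fin r) := swap d f * swap g j with hσ
  have hσs : Perm.sign σ = 1 := by
    rw [hσ, map_mul, Perm.sign_swap (Ne.symm fd), Perm.sign_swap (Ne.symm jg)]; rfl
  have hσfix : ∀ z, z ≠ d → z ≠ f → z ≠ g → z ≠ j → σ z = z := fun z a1 a2 a3 a4 => by
    simp [hσ, swap_apply_of_ne_of_ne a3 a4, swap_apply_of_ne_of_ne a1 a2]
  obtain ⟨η, hη, hηe⟩ := C.exists_fix3_lift hσs
    (hσfix a (Ne.symm da) (Ne.symm fa) (Ne.symm ga) (Ne.symm ja))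
    (hσfix b (Ne.symm db) (Ne.symm fb) (Ne.symm gb) (Ne.symm jb))
    (hσfix c (Ne.symm dc) (Ne.symm fc) (Ne.symm gc) (Ne.symm jc))
  have hσd : σ d = f := by simp [hσ, swap_apply_of_ne_of_ne (Ne.symm gd) (Ne.symm jd)]
  have hσf : σ f = d := by simp [hσ, swap_apply_of_ne_of_ne (Ne.symm gf) (Ne.symm jf)]
  have hσg : σ g = j := by simp [hσ, swap_apply_of_ne_of_ne jd jf]
  have hσj : σ j = g := by simp [hσ, swap_apply_of_ne_of_ne gd gf]
  have hσe : σ e = e := hσfix e ed (Ne.symm fe) (Ne.symm ge) (Ne.symm je)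
  have hσi : σ i = i := hσfix i id' if' ig (Ne.symm ji)
  have inv1 : C.ρ η * T1 = T1 * T1 * C.ρ η := (C.T_spec t1).2.2 η (by rw [hηe, tc_conj, hσd, hσe, hσf, tc_inv])
  have inv2 : C.ρ η * T2 = T2 * T2 * C.ρ η := (C.T_spec t2).2.2 η (by rw [hηe, tc_conj, hσg, hσi, hσj, tc_inv])
  have hηU : ∀ v ∈ U, C.ρ η v ∈ U := fun v hv => mem_of_fixes hd hU hη.1 hη.2.1 hη.2.2 hv
  have h1U : ∀ v ∈ U, T1 v ∈ U := fun v hv => T_mem hd hU t1 hx1 hv
  have h2U : ∀ v ∈ U, T2 v ∈ U := fun v hv => T_mem hd hU t2 hx2 hv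
  have hc1 : ∀ v, T1 (T1 (T1 v)) = v := fun v => by
    have := LinearMap.congr_fun (C.T_cube t1) v; simpa using this
  have hc2 : ∀ v, T2 (T2 (T2 v)) = v := fun v => by
    have := LinearMap.congr_fun (C.T_cube t2) v; simpa using this
  have hcomm : ∀ v, T2 (T1 v) = T1 (T2 v) := fun v =>
    LinearMap.congr_fun (C.T_commute t1 t2 h12.commute).eq.symm v
  -- lifts
  obtain ⟨g1, s1, hs1, hg1, e1⟩ := C.T_lift t1
  obtain ⟨g2, s2, hs2, hg2, e2⟩ := C.T_lift t2
  have hmem1 : g1 ∈ C.fix3 a b c := by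
    show _ ∧ _ ∧ _; rw [hg1]; exact fixes_of_disjoint hd hx1
  have hmem2 : g2 ∈ C.fix3 a b c := by
    show _ ∧ _ ∧ _; rw [hg2]; exact fixes_of_disjoint hd hx2
  have hsc1 : ∀ v, C.ρ g1 v = s1⁻¹ • T1 v := fun v => by
    rw [hT1, e1, LinearMap.smul_apply, smul_smul, inv_mul_cancel₀ hs1, one_smul]
  have hsc2 : ∀ v, C.ρ g2 v = s2⁻¹ • T2 v := fun v => by
    rw [hT2, e2, LinearMap.smul_apply, smul_smul, inv_mul_cancel₀ hs2, one_smul]
  set E := fun μ => eig U T1 μ with hE
  have hflip : ∀ μ, ∀ v ∈ E μ, C.ρ η v ∈ E (μ * μ) := by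
    intro μ v hv
    rw [hE, mem_eig] at hv ⊢
    refine ⟨hηU v hv.1, ?_⟩
    have h := LinearMap.congr_fun inv1 v
    simp only [Module.End.mul_apply, hv.2, map_smul] at h
    have h' := congrArg T1 h
    rw [hc1, map_smul] at h'
    calc T1 (C.ρ η v) = T1 (T1 (T1 (T1 (C.ρ η v)))) := by rw [hc1]
      _ = (μ * μ) • C.ρ η v := by simp only [← h, map_smul, smul_smul]
  have hdec : ∀ v ∈ U, ∃ v0 ∈ E 1, ∃ v1 ∈ E ω, ∃ v2 ∈ E (ω * ω), v = v0 + v1 + v2 := by
    intro v hv
    refine ⟨(3 : k)⁻¹ • (v + T1 v + T1 (T1 v)), ?_,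
      (3 : k)⁻¹ • (v + (ω * ω) • T1 v + ω • T1 (T1 v)), ?_,
      (3 : k)⁻¹ • (v + ω • T1 v + (ω * ω) • T1 (T1 v)), ?_, ?_⟩
    · rw [hE, mem_eig]
      refine ⟨U.smul_mem _ (U.add_mem (U.add_mem hv (h1U v hv)) (h1U _ (h1U v hv))), ?_⟩
      simp only [map_smul, map_add, hc1, one_smul]
      module
    · rw [hE, mem_eig]
      refine ⟨U.smul_mem _ (U.add_mem (U.add_mem hv (U.smul_mem _ (h1U v hv)))
        (U.smul_mem _ (h1U _ (h1U v hv)))), ?_⟩
      simp only [map_smul, map_add, hc1]
      match_scalars <;>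
        first
          | ring1
          | linear_combination (-(3 : k)⁻¹) * hω3
          | linear_combination (-(3 : k)⁻¹ * ω) * hω3
          | linear_combination ((3 : k)⁻¹) * hω3
          | linear_combination ((3 : k)⁻¹ * ω) * hω3
    · rw [hE, mem_eig]
      refine ⟨U.smul_mem _ (U.add_mem (U.add_mem hv (U.smul_mem _ (h1U v hv)))
        (U.smul_mem _ (h1U _ (h1U v hv)))), ?_⟩
      simp only [map_smul, map_add, hc1]
      match_scalars <;>
        first
          | ring1
          | linear_combination (-(3 : k)⁻¹) * hω3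
          | linear_combination (-(3 : k)⁻¹ * ω) * hω3
          | linear_combination ((3 : k)⁻¹) * hω3
          | linear_combination ((3 : k)⁻¹ * ω) * hω3
    · match_scalars
      · field_simp; norm_num
      · linear_combination (-(3 : k)⁻¹) * hω
      · linear_combination (-(3 : k)⁻¹) * hω
  by_contra hlt
  rw [not_le] at hlt
  -- `E ω` is nonzero
  have hω4 : ω * ω * (ω * ω) = ω := by linear_combination ω * hω3
  have hne1 : E ω ≠ ⊥ := by
    intro h0
    have h0' : E (ω * ω) = ⊥ := by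
      refine (Submodule.eq_bot_iff _).mpr fun v hv => (rho_map_zero_iff (C := C) η).mp ?_
      have := hflip _ v hv
      rw [hω4, h0, Submodule.mem_bot] at this
      exact this
    refine hnt (trivOn_of_scalar hd hU hmem1 (by rw [hg1]; exact t1.ne_one) (t := s1⁻¹) fun v hv => ?_)
    obtain ⟨v0, hv0, v1, hv1, v2, hv2, rfl⟩ := hdec v hv
    rw [h0, Submodule.mem_bot] at hv1
    rw [h0', Submodule.mem_bot] at hv2
    rw [hv1, hv2, add_zero, add_zero, hsc1, (mem_eig.mp hv0).2, one_smul]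
  obtain ⟨e₁, he₁, he₁0⟩ := Submodule.exists_mem_ne_zero_of_ne_bot hne1
  set e₂ := C.ρ η e₁ with he₂
  have he₂m : e₂ ∈ E (ω * ω) := hflip _ e₁ he₁
  have he₂0 : e₂ ≠ 0 := fun h0 => he₁0 ((rho_map_zero_iff (C := C) η).mp h0)
  have hdim1 : 1 ≤ finrank k (E ω) := Submodule.one_le_finrank_iff.mpr hne1
  have hle12 : finrank k (E ω) ≤ finrank k (E (ω * ω)) := by
    refine le_trans (le_of_eq (Submodule.equivMapOfInjective _ (rho_injective (C := C) η) _).finrank_eq) ?_
    refine Submodule.finrank_mono ?_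
    rintro _ ⟨v, hv, rfl⟩
    exact hflip _ v hv
  have hle21 : finrank k (E (ω * ω)) ≤ finrank k (E ω) := by
    refine le_trans (le_of_eq (Submodule.equivMapOfInjective _ (rho_injective (C := C) η) _).finrank_eq) ?_
    refine Submodule.finrank_mono ?_
    rintro _ ⟨v, hv, rfl⟩
    exact hω4 ▸ hflip _ v hv
  have hsum : finrank k (E ω) + finrank k (E (ω * ω)) + finrank k (E 1) ≤ finrank k U := by
    have h1 := Submodule.finrank_sup_add_finrank_inf_eq (E ω) (E (ω * ω))
    rw [eig_pair_disjoint hωω, finrank_bot, add_zero] at h1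
    have h2 := Submodule.finrank_sup_add_finrank_inf_eq (E ω ⊔ E (ω * ω)) (E 1)
    rw [show (E ω ⊔ E (ω * ω)) ⊓ E 1 = ⊥ from (Submodule.eq_bot_iff _).mpr fun v hv => by
      rw [Submodule.mem_inf, Submodule.mem_sup] at hv
      obtain ⟨⟨p, hp, q, hq, rfl⟩, hpq⟩ := hv
      rw [hE, mem_eig] at hp hq hpq
      have e := hpq.2
      rw [map_add, hp.2, hq.2, one_smul, ← sub_eq_zero] at e
      have e' := congrArg T1 e
      simp only [map_sub, map_add, map_smul, map_zero, hp.2, hq.2, smul_smul] at e'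
      have ep : ((ω - 1) * (ω - ω * ω)) • p = 0 := by
        rw [← sub_zero (0 : V)]
        nth_rewrite 1 [← e']
        rw [← smul_zero (ω * ω : k), ← e]
        match_scalars <;> ring
      have hp0 := (smul_eq_zero.mp ep).resolve_left
        (mul_ne_zero (sub_ne_zero.mpr hω1) (sub_ne_zero.mpr hωω))
      have eq' : (ω * ω - 1) • q = 0 := by
        rw [hp0, smul_zero, zero_add, zero_add] at e
        rw [sub_smul, one_smul]; exact e
      rw [hp0, (smul_eq_zero.mp eq').resolve_left (sub_ne_zero.mpr hω2), add_zero],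
      finrank_bot, add_zero] at h2
    have h3 : finrank k ((E ω ⊔ E (ω * ω)) ⊔ E 1 : Submodule k V) ≤ finrank k U :=
      Submodule.finrank_mono (sup_le (sup_le inf_le_left inf_le_left) inf_le_left)
    omega
  -- the action of `T2`
  have hT2E : ∀ μ, ∀ v ∈ E μ, T2 v ∈ E μ := by
    intro μ v hv
    rw [hE, mem_eig] at hv ⊢
    exact ⟨h2U v hv.1, by rw [← hcomm, hv.2, map_smul]⟩
  obtain ⟨l, hl⟩ := eq_smul_of_finrank_le_one (by omega) he₁ he₁0 (hT2E _ _ he₁)
  have hl2 : T2 e₂ = (l * l) • e₂ := by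
    have h := LinearMap.congr_fun inv2 e₁
    simp only [Module.End.mul_apply, hl, map_smul] at h
    calc T2 e₂ = T2 (T2 (T2 (T2 e₂))) := by rw [hc2]
      _ = (l * l) • e₂ := by rw [he₂, ← h, map_smul, map_smul, ← h, smul_smul]
  have hl0 : ∀ v ∈ E 1, T2 v = v := by
    intro v hv
    by_cases hv0 : v = 0
    · rw [hv0, map_zero]
    obtain ⟨m, hm⟩ := eq_smul_of_finrank_le_one (by omega) hv hv0 (hT2E _ _ hv)
    obtain ⟨q, hq⟩ := eq_smul_of_finrank_le_one (by omega) hv hv0 (by
      have := hflip _ v hv; rwa [one_mul] at this)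
    have h := LinearMap.congr_fun inv2 v
    simp only [Module.End.mul_apply, hm, map_smul, hq, smul_smul] at h
    have hq0 : q ≠ 0 := fun e => hv0 ((rho_map_zero_iff (C := C) η).mp (by rw [hq, e, zero_smul]))
    have hm0 : m ≠ 0 := by
      intro e0
      have := hc2 v
      rw [hm, e0, zero_smul, map_zero, map_zero] at this
      exact hv0 this.symm
    have hmm : m * q = q * (m * m) := smul_left_injective k hv0 h
    have : m = 1 := mul_left_cancel₀ (mul_ne_zero hq0 hm0) (by linear_combination -hmm)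
    rw [hm, this, one_smul]
  have hl3 : l * l * l = 1 := by
    have := hc2 e₁
    rw [hl, map_smul, hl, map_smul, map_smul, hl, smul_smul, smul_smul] at this
    exact smul_left_injective k he₁0 (this.trans (one_smul k e₁).symm)
  have hsplit : (l - 1) * (l - ω) * (l - ω * ω) = 0 := by
    linear_combination hl3 + (l * ω - l * l) * hω - hω3
  have hfin : ∀ (P : Module.End k V), (∀ v ∈ E 1, P v = v) → P e₁ = e₁ → P e₂ = e₂ → ∀ v ∈ U, P v = v := by
    intro P h0 h1 h2 v hv
    obtain ⟨v0, hv0, v1, hv1, v2, hv2, rfl⟩ := hdec v hv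
    obtain ⟨u1, rfl⟩ := eq_smul_of_finrank_le_one (by omega) he₁ he₁0 hv1
    obtain ⟨u2, rfl⟩ := eq_smul_of_finrank_le_one (by omega) he₂m he₂0 hv2
    rw [map_add, map_add, map_smul, map_smul, h0 v0 hv0, h1, h2]
  have he₁' := (mem_eig.mp he₁).2
  have he₂' := (mem_eig.mp he₂m).2
  rcases mul_eq_zero.mp hsplit with hh | hh
  · rcases mul_eq_zero.mp hh with hh | hh <;> rw [sub_eq_zero] at hh
    · -- `T2` is trivial
      refine hnt (trivOn_of_scalar hd hU hmem2 (by rw [hg2]; exact t2.ne_one) (t := s2⁻¹) fun v hv => ?_)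
      rw [hsc2, hfin T2 hl0 (by rw [hl, hh, one_smul]) (by rw [hl2, hh, one_mul, one_smul]) v hv]
    · -- `T2 = T1`
      refine hnt (trivOn_of_scalar hd hU
        (Subgroup.mul_mem _ (Subgroup.mul_mem _ hmem1 hmem1) hmem2) ?_
        (t := s1⁻¹ * s1⁻¹ * s2⁻¹) fun v hv => ?_)
      · rw [map_mul, map_mul, hg1, hg2]
        intro hc
        have := congrArg (fun p : Perm (Fin r) => p g) hc
        simp only [Perm.mul_apply, Perm.one_apply, tc_fst d2, tc_other id' ie if'] at this
        exact ig this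
      · have := hfin (T1 * T1 * T2) (fun v hv => by
            simp only [Module.End.mul_apply, hl0 v hv]; rw [(mem_eig.mp hv).2, map_smul, (mem_eig.mp hv).2, one_smul, one_smul])
          (by simp only [Module.End.mul_apply, hl, hh, map_smul, he₁', smul_smul]
              match_scalars
              linear_combination hω3)
          (by simp only [Module.End.mul_apply, hl2, hh, map_smul, he₂', smul_smul]
              match_scalars
              linear_combination (ω * ω * ω + 1) * hω3) v hv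
        rw [map_mul, map_mul, Module.End.mul_apply, Module.End.mul_apply, hsc2, hsc1, hsc1]
        simp only [Module.End.mul_apply] at this
        simp only [map_smul, smul_smul, this]
        congr 1
        ring
  · rw [sub_eq_zero] at hh
    refine hnt (trivOn_of_scalar hd hU (Subgroup.mul_mem _ hmem1 hmem2) ?_
      (t := s1⁻¹ * s2⁻¹) fun v hv => ?_)
    · rw [map_mul, hg1, hg2]
      intro hc
      have := congrArg (fun p : Perm (Fin r) => p g) hc
      simp only [Perm.mul_apply, Perm.one_apply, tc_fst d2, tc_other id' ie if'] at this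
      exact ig this
    · have := hfin (T1 * T2) (fun v hv => by
          simp only [Module.End.mul_apply, hl0 v hv]; rw [(mem_eig.mp hv).2, one_smul])
        (by simp only [Module.End.mul_apply, hl, hh, map_smul, he₁', smul_smul]
            match_scalars
            linear_combination hω3)
        (by simp only [Module.End.mul_apply, hl2, hh, map_smul, he₂', smul_smul]
            match_scalars
            linear_combination (ω * ω * ω + 1) * hω3) v hv
      rw [map_mul, Module.End.mul_apply, hsc2, hsc1]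
      simp only [Module.End.mul_apply] at this
      simp only [map_smul, smul_smul, this]

end Ctx

end Cfsg.Agent.AltSection
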