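import Cfsg.Agent.AltSection.Quadratic

/-!
The subspaces spanned by the ranges of `T x - 1`, when disjoint lifts act trivially on them.
-/

set_option autoImplicit false
set_option linter.unusedSectionVars false

namespace Cfsg.Agent.AltSection

open Equiv Module

variable {r : ℕ} {k V G : Type} [Field k] [AddCommGroup V] [Module k V] [FiniteDimensional k V]
  [Group G] [Finite G]

namespace Ctx

variable (C : Ctx r k V G)

/-- The range of `T x - 1`. -/
noncomputable def D (x : Perm (Fin r)) : Submodule k V := LinearMap.range (C.T x - 1)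

theorem mem_D {x : Perm (Fin r)} {v : V} : v ∈ C.D x ↔ ∃ u, C.T x u - u = v := Iff.rfl

/-- The sum of the `D x` for three-cycles supported in `S`. -/
noncomputable def W (S : Finset (Fin r)) : Submodule k V :=
  ⨆ (x : Perm (Fin r)) (_ : Three x ∧ ∀ z, z ∉ S → x z = z), C.D x

theorem D_le_W {x : Perm (Fin r)} {S : Finset (Fin r)} (hx : Three x) (h : ∀ z, z ∉ S → x z = z) :
    C.D x ≤ C.W S := le_iSup₂ (f := fun x (_ : Three x ∧ ∀ z, z ∉ S → x z = z) => C.D x) x ⟨hx, h⟩

theorem tc_supported {a b c : Fin r} {S : Finset (Fin r)} (ha : a ∈ S) (hb : b ∈ S) (hc : c ∈ S)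
    (z : Fin r) (hz : z ∉ S) : tc a b c z = z :=
  tc_other (fun e => hz (e ▸ ha)) (fun e => hz (e ▸ hb)) (fun e => hz (e ▸ hc))

theorem W_mono {S S' : Finset (Fin r)} (h : S ⊆ S') : C.W S ≤ C.W S' :=
  iSup₂_le fun _ hx => C.D_le_W hx.1 fun z hz => hx.2 z fun e => hz (h e)

theorem D_conj {x : Perm (Fin r)} (hx : Three x) (g : G) :
    (C.D x).map (C.ρ g) = C.D (C.π g * x * (C.π g)⁻¹) := by
  ext v
  simp only [Submodule.mem_map, C.mem_D]
  constructor
  · rintro ⟨_, ⟨u, rfl⟩, rfl⟩
    refine ⟨C.ρ g u, ?_⟩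
    rw [map_sub, ← Module.End.mul_apply (C.ρ g), C.T_conj hx g]
    rfl
  · rintro ⟨u, rfl⟩
    refine ⟨_, ⟨C.ρ g⁻¹ u, rfl⟩, ?_⟩
    rw [map_sub, ← Module.End.mul_apply (C.ρ g) (C.T x), C.T_conj hx g, Module.End.mul_apply,
      ← Module.End.mul_apply (C.ρ g) (C.ρ g⁻¹), C.rho_mul_inv, Module.End.one_apply]

theorem D_inv_le {x : Perm (Fin r)} (hx : Three x) : C.D x⁻¹ ≤ C.D x := by
  rintro _ ⟨u, rfl⟩
  refine ⟨C.T x u + u, ?_⟩
  rw [C.T_inv hx]
  simp only [LinearMap.sub_apply, Module.End.one_apply, Module.End.mul_apply, map_add]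
  abel

theorem W_conj_le (g : G) {S S' : Finset (Fin r)} (h : ∀ z ∈ S, C.π g z ∈ S') :
    (C.W S).map (C.ρ g) ≤ C.W S' := by
  simp only [W, Submodule.map_iSup]
  refine iSup₂_le fun x hx => ?_
  rw [C.D_conj hx.1]
  refine C.D_le_W (hx.1.conj _) fun z hz => ?_
  have hS : (C.π g)⁻¹ z ∉ S := fun e => hz (by simpa using h _ e)
  rw [Perm.mul_apply, Perm.mul_apply, hx.2 _ hS]
  simp

/-- Lifts of three-cycles avoiding the support fix `D` pointwise. -/
def Disj (C : Ctx r k V G) : Prop :=
  ∀ x y : Perm (Fin r), Three x → Three y → x.Disjoint y → ∀ v ∈ C.D x, C.T y v = v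

variable {C} (hC : C.Disj)

include hC

theorem T_fix_W {S : Finset (Fin r)} {y : Perm (Fin r)} (hy : Three y) (h : ∀ z ∈ S, y z = z)
    {v : V} (hv : v ∈ C.W S) : C.T y v = v := by
  have hle : C.W S ≤ LinearMap.eqLocus (C.T y) 1 :=
    iSup₂_le fun x hx => fun w hw => hC x y hx.1 hy (fun z => by
      by_cases hz : z ∈ S
      · exact Or.inr (h z hz)
      · exact Or.inl (hx.2 z hz)) w hw
  exact hle hv

theorem W_strict {S : Finset (Fin r)} {a : Fin r} (ha : a ∉ S) (hne : C.W S ≠ ⊥) (hS : 3 ≤ S.card)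
    (hcomp : 3 ≤ (Finset.univ \ S).card) : C.W S < C.W (insert a S) := by
  classical
  refine lt_of_le_of_ne (C.W_mono (Finset.subset_insert a S)) fun heq => ?_
  obtain ⟨c, hc, w, hw, hcw⟩ : ∃ c ∈ Finset.univ \ insert a S, ∃ w ∈ Finset.univ \ insert a S, c ≠ w := by
    refine Finset.one_lt_card.mp ?_
    have h1 : (Finset.univ \ S).erase a = Finset.univ \ insert a S := by
      ext z; simp [Finset.mem_erase, not_or]
    rw [← h1, Finset.card_erase_of_mem (by simp [ha])]
    omega
  simp only [Finset.mem_sdiff, Finset.mem_univ, true_and, Finset.mem_insert, not_or] at hc hw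
  have hfix : ∀ z, z ≠ a → z ≠ c → ∀ v ∈ C.W S, C.T (tc a c z) v = v := by
    intro z za zc v hv
    by_cases hz : z ∈ S
    · obtain ⟨b', hb', hb'z⟩ : ∃ b' ∈ S, b' ≠ z := Finset.exists_mem_ne (by omega) z
      have hdx : Distinct3 a z b' := ⟨za.symm, hb'z.symm, fun e => ha (e ▸ hb')⟩
      -- `a ↦ z` preserves `insert a S`
      obtain ⟨g, hg⟩ := C.π_surj (tc a z b') (sign_tc hdx)
      have hstable : (C.W (insert a S)).map (C.ρ g) ≤ C.W (insert a S) :=
        C.W_conj_le g fun t ht => by
          rw [hg]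
          by_cases h1 : t = a
          · subst h1; rw [tc_fst hdx]; exact Finset.mem_insert_of_mem hz
          by_cases h2 : t = z
          · subst h2; rw [tc_snd hdx]; exact Finset.mem_insert_of_mem hb'
          by_cases h3 : t = b'
          · subst h3; rw [tc_thd]; exact Finset.mem_insert_self _ _
          rwa [tc_other h1 h2 h3]
      have hmap : (C.W S).map (C.ρ g) ≤ C.W ((insert a S).erase z) :=
        C.W_conj_le g fun t ht => by
          rw [hg, Finset.mem_erase]
          by_cases h2 : t = z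
          · subst h2; rw [tc_snd hdx]; exact ⟨hb'z, Finset.mem_insert_of_mem hb'⟩
          by_cases h3 : t = b'
          · subst h3; rw [tc_thd]; exact ⟨za.symm, Finset.mem_insert_self _ _⟩
          rw [tc_other (fun (e : t = a) => ha (e ▸ ht)) h2 h3]
          exact ⟨h2, Finset.mem_insert_of_mem ht⟩
      have hfix' : ∀ y, Three y → (∀ t ∈ (insert a S).erase z, y t = t) → C.T y v = v := by
        intro y hy hyf
        have hv' : v ∈ (C.W S).map (C.ρ g) := by
          rw [heq] at hv ⊢
          rw [Submodule.eq_of_le_of_finrank_eq hstable (LinearEquiv.finrank_eq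
            ((Submodule.equivMapOfInjective _ (fun p q e => by
              have := congrArg (C.ρ g⁻¹) e
              rwa [← Module.End.mul_apply, ← Module.End.mul_apply, C.rho_inv_mul,
                Module.End.one_apply, Module.End.one_apply] at this) _).symm))]
          exact hv
        exact T_fix_W hC hy hyf (hmap hv')
      have d1 : Distinct3 w c a := ⟨hcw.symm, hc.1, hw.1⟩
      have d2 : Distinct3 z c w := ⟨zc, hcw, fun e => hw.2 (e ▸ hz)⟩
      have f1 : C.T (tc w c a) v = v :=
        T_fix_W hC (three_tc d1) (fun t ht => tc_other (fun e => hw.2 (e ▸ ht))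
          (fun e => hc.2 (e ▸ ht)) (fun e => ha (e ▸ ht))) hv
      have f2 : C.T (tc z c w) v = v := hfix' _ (three_tc d2) fun t ht => by
        rw [Finset.mem_erase, Finset.mem_insert] at ht
        refine tc_other ht.1 (fun e => ?_) (fun e => ?_)
        · rcases ht.2 with h | h
          · exact hc.1 (e ▸ h)
          · exact hc.2 (e ▸ h)
        · rcases ht.2 with h | h
          · exact hw.1 (e ▸ h)
          · exact hw.2 (e ▸ h)
      have e : tc w c a * tc z c w * (tc w c a)⁻¹ = tc a c z := by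
        rw [tc_conj, tc_other (fun (e : z = w) => hw.2 (e ▸ hz)) zc za, tc_snd d1, tc_fst d1]
        exact (tc_rot (Distinct3.rot ⟨Ne.symm hc.1, zc.symm, za.symm⟩)).trans (tc_rot ⟨Ne.symm hc.1, zc.symm, za.symm⟩)
      have := LinearMap.congr_fun (C.T_conj' (three_tc d2) (three_tc d1)) v
      simp only [Module.End.mul_apply, f1, f2, e] at this
      exact this.symm
    · exact T_fix_W hC (three_tc ⟨(Ne.symm hc.1), zc.symm, za.symm⟩)
        (fun t ht => tc_other (fun e => ha (e ▸ ht)) (fun e => hc.2 (e ▸ ht)) (fun e => hz (e ▸ ht))) hv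
  rcases C.eq_bot_or_top (C.W S) (Ne.symm hc.1) (fun z za zc v hv => by rwa [hfix z za zc v hv]) with h | h
  · exact hne h
  · have hd : Distinct3 a c w := ⟨(Ne.symm hc.1), hcw, (Ne.symm hw.1)⟩
    obtain ⟨g, s, hs, hg, e⟩ := C.T_lift (three_tc hd)
    have h1 : C.T (tc a c w) = 1 :=
      LinearMap.ext fun v => hfix w hw.1 hcw.symm v (h ▸ Submodule.mem_top)
    rw [e] at h1
    have : C.π g = 1 := (C.scalar_iff g).mpr ⟨s⁻¹, by rw [← h1, smul_smul, inv_mul_cancel₀ hs, one_smul]⟩
    rw [hg] at this
    exact (three_tc hd).ne_one this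

theorem W_chain : ∀ (n : ℕ) {S S' : Finset (Fin r)}, S ⊆ S' → (S' \ S).card = n → C.W S ≠ ⊥ →
    3 ≤ S.card → S'.card + 2 ≤ r → finrank k (C.W S) + n ≤ finrank k (C.W S') := by
  classical
  intro n
  induction n with
  | zero =>
    intro S S' hsub _ _ _ _
    simpa using Submodule.finrank_mono (C.W_mono hsub)
  | succ n ih =>
    intro S S' hsub hcard hne hS hS'
    obtain ⟨a, ha⟩ : (S' \ S).Nonempty := Finset.card_pos.mp (by omega)
    rw [Finset.mem_sdiff] at ha
    have hins : insert a S ⊆ S' := Finset.insert_subset ha.1 hsub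
    have hc : (Finset.univ \ S).card = r - S.card := by
      rw [Finset.card_sdiff_of_subset (Finset.subset_univ _), Finset.card_univ, Fintype.card_fin]
    have hlt : S.card + 1 ≤ S'.card := by
      have := Finset.card_le_card hins
      rwa [Finset.card_insert_of_notMem ha.2] at this
    have hst := Submodule.finrank_lt_finrank_of_lt (W_strict hC ha.2 hne hS (by omega))
    have := ih hins (by
      have h1 : (S' \ S).erase a = S' \ insert a S := by
        ext z; simp [Finset.mem_erase, and_assoc, and_comm, and_left_comm]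
      rw [← h1, Finset.card_erase_of_mem (Finset.mem_sdiff.mpr ha)]
      omega) (fun e => hne (le_bot_iff.mp (e ▸ C.W_mono (Finset.subset_insert a S))))
      (by rw [Finset.card_insert_of_notMem ha.2]; omega) hS'
    omega

/-- The complement of a three-cycle gives fixed vectors. -/
theorem W_compl_add_le {a b c : Fin r} (hd : Distinct3 a b c) :
    finrank k (C.W (Finset.univ \ {a, b, c})) + finrank k (C.D (tc a b c)) ≤ finrank k V := by
  have h1 := LinearMap.finrank_range_add_finrank_ker (C.T (tc a b c) - 1)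
  have h2 : C.W (Finset.univ \ {a, b, c}) ≤ LinearMap.ker (C.T (tc a b c) - 1) := by
    intro v hv
    rw [LinearMap.mem_ker, LinearMap.sub_apply, Module.End.one_apply,
      T_fix_W hC (three_tc hd) (fun z hz => by
        simp at hz; exact tc_other hz.1 hz.2.1 hz.2.2) hv, sub_self]
  have := Submodule.finrank_mono h2
  unfold D
  omega

end Ctx

end Cfsg.Agent.AltSection
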